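import Cfsg.Agent.Base

/-!
Recognition lemmas for small groups: dihedral groups, `A₄`, `S₄`, `A₅`.
-/

set_option autoImplicit false

namespace CL.Recog

open Subgroup Equiv

variable {G : Type*} [Group G]

/-- A group with a cyclic subgroup of index two outside of which all elements square to one is
dihedral. -/
theorem nonempty_mulEquiv_dihedral (T : Subgroup G) [hT : IsCyclic T] (hi : T.index = 2)
    (h2 : ∀ g : G, g ∉ T → g * g = 1) {n : ℕ} (hn : Nat.card T = n) :
    Nonempty (G ≃* DihedralGroup n) := by
  subst hn
  obtain ⟨s, hs⟩ : ∃ s : G, s ∉ T := by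
    by_contra h
    push Not at h
    have : T = ⊤ := eq_top_iff.2 fun x _ => h x
    rw [this, index_top] at hi
    omega
  let e := zmodCyclicMulEquiv hT
  let ρ : ZMod (Nat.card T) → G := fun i => (e (Multiplicative.ofAdd i) : G)
  have ρadd : ∀ i j, ρ (i + j) = ρ i * ρ j := fun i j => by simp [ρ, ofAdd_add]
  have ρneg : ∀ i, ρ (-i) = (ρ i)⁻¹ := fun i => by simp [ρ, ofAdd_neg]
  have ρmem : ∀ i, ρ i ∈ T := fun i => (e _).2
  have hss : s * s = 1 := h2 s hs
  have hsi : s⁻¹ = s := inv_eq_of_mul_eq_one_right hss
  have key : ∀ t ∈ T, t * s = s * t⁻¹ := fun t ht => by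
    have h1 : s * t ∉ T := fun h => hs (by simpa using T.mul_mem h (T.inv_mem ht))
    have h3 := h2 _ h1
    calc t * s = s⁻¹ * (s * t * (s * t)) * t⁻¹ := by group
      _ = s * t⁻¹ := by rw [h3, hsi]; simp
  let φ : DihedralGroup (Nat.card T) →* G := MonoidHom.mk'
    (fun x => match x with
      | .r i => ρ i
      | .sr i => s * ρ i) (by
      rintro (i | i) (j | j)
      · simp only [DihedralGroup.r_mul_r, ρadd]
      · simp only [DihedralGroup.r_mul_sr]
        rw [← mul_assoc, key _ (ρmem i), sub_eq_neg_add, ρadd, ρneg, mul_assoc]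
      · simp only [DihedralGroup.sr_mul_r, ρadd, mul_assoc]
      · simp only [DihedralGroup.sr_mul_sr]
        rw [mul_assoc, ← mul_assoc (ρ i), key _ (ρmem i), sub_eq_neg_add, ρadd, ρneg,
          ← mul_assoc, ← mul_assoc, hss, one_mul])
  have φr : ∀ i, φ (.r i) = ρ i := fun _ => rfl
  have φs : ∀ i, φ (.sr i) = s * ρ i := fun _ => rfl
  refine ⟨(MulEquiv.ofBijective φ ⟨?_, ?_⟩).symm⟩
  · rw [injective_iff_map_eq_one]
    rintro (i | i) h
    · rw [φr] at h
      have : e (Multiplicative.ofAdd i) = 1 := Subtype.ext h
      have : i = 0 := by simpa using this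
      simp [this]
    · rw [φs] at h
      exfalso
      apply hs
      rw [eq_inv_of_mul_eq_one_left h]
      exact T.inv_mem (ρmem i)
  · intro g
    by_cases hg : g ∈ T
    · obtain ⟨i, hi⟩ := e.surjective ⟨g, hg⟩
      exact ⟨.r (Multiplicative.toAdd i), by simp [φr, ρ, hi]⟩
    · have : s * g ∈ T := (mul_mem_iff_of_index_two hi).2 (by tauto)
      obtain ⟨i, hi⟩ := e.surjective ⟨_, this⟩
      exact ⟨.sr (Multiplicative.toAdd i), by simp [φs, ρ, hi, ← mul_assoc, hss]⟩

/-- A core-free subgroup of index `n` gives an embedding into `Sₙ`. -/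
theorem exists_injective_perm (H : Subgroup G) (hc : H.normalCore = ⊥) {n : ℕ} (hn0 : n ≠ 0)
    (hn : H.index = n) : ∃ f : G →* Perm (Fin n), Function.Injective f := by
  have hfin : Finite (G ⧸ H) := Nat.finite_of_card_ne_zero (by rw [← index_eq_card, hn]; exact hn0)
  let e : (G ⧸ H) ≃ Fin n := Finite.equivFinOfCardEq (by rw [← index_eq_card, hn])
  refine ⟨e.permCongrHom.toMonoidHom.comp (MulAction.toPermHom G (G ⧸ H)), ?_⟩
  rw [MonoidHom.coe_comp]
  refine e.permCongrHom.injective.comp ?_
  rw [← MonoidHom.ker_eq_bot_iff, ← normalCore_eq_ker, hc]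

theorem nonempty_mulEquiv_perm_of_injective {n : ℕ} (f : G →* Perm (Fin n))
    (hf : Function.Injective f) (h : Nat.card G = n.factorial) :
    Nonempty (G ≃* Perm (Fin n)) := by
  refine ⟨MulEquiv.ofBijective f ?_⟩
  have : Finite G := Finite.of_injective f hf
  rw [Nat.bijective_iff_injective_and_card]
  exact ⟨hf, by rw [h, Nat.card_perm, Nat.card_fin]⟩

theorem nonempty_mulEquiv_alternating_of_injective {n : ℕ} (f : G →* Perm (Fin n))
    (hf : Function.Injective f) (h : 2 * Nat.card G = n.factorial) :
    Nonempty (G ≃* alternatingGroup (Fin n)) := by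
  have h1 : Nat.card f.range = Nat.card G := (Nat.card_congr (MonoidHom.ofInjective hf).toEquiv).symm
  have h2 := f.range.card_mul_index
  rw [h1, Nat.card_perm, Nat.card_fin, ← h] at h2
  have : Finite G := Finite.of_injective f hf
  have hpos : 0 < Nat.card G := Nat.card_pos
  have h3 : f.range.index = 2 := by
    rw [mul_comm 2] at h2
    exact Nat.eq_of_mul_eq_mul_left hpos h2
  have h4 := Perm.eq_alternatingGroup_of_index_eq_two h3
  exact ⟨(MonoidHom.ofInjective hf).trans (MulEquiv.subgroupCongr h4)⟩

/-- If `N` normalises the finite subgroup `V` and `1 ≠ x ∈ V`, the `N`-class of `x` lies in `V \ 1`. -/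
theorem relIndex_centralizer_lt (N V : Subgroup G) [Finite V]
    (hN : ∀ n ∈ N, ∀ v ∈ V, n * v * n⁻¹ ∈ V) {x : G} (hx : x ∈ V) (hx1 : x ≠ 1) :
    (centralizer {x}).relIndex N < Nat.card V := by
  let f : N ⧸ (centralizer {x}).subgroupOf N → V := fun c =>
    ⟨(c.out : G) * x * (c.out : G)⁻¹, hN _ c.out.2 _ hx⟩
  have hf : Function.Injective f := by
    intro a b hab
    have h1 : (a.out : G) * x * (a.out : G)⁻¹ = (b.out : G) * x * (b.out : G)⁻¹ :=
      congrArg Subtype.val hab
    rw [← QuotientGroup.out_eq' a, ← QuotientGroup.out_eq' b, QuotientGroup.eq, mem_subgroupOf,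
      mem_centralizer_singleton_iff]
    simp only [coe_mul, coe_inv]
    calc (a.out : G)⁻¹ * b.out * x = (a.out : G)⁻¹ * ((b.out : G) * x * (b.out : G)⁻¹) * b.out := by
          group
      _ = x * ((a.out : G)⁻¹ * b.out) := by rw [← h1]; group
  have hns : ¬ Function.Surjective f := fun h => by
    obtain ⟨c, hc⟩ := h 1
    have h1 : (c.out : G) * x * (c.out : G)⁻¹ = 1 := congrArg Subtype.val hc
    apply hx1
    simpa using h1
  have := Finite.of_injective f hf
  rw [relIndex, index_eq_card]
  refine lt_of_le_of_ne (Nat.card_le_card_of_injective f hf) fun h => hns ?_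
  exact ((Nat.bijective_iff_injective_and_card f).2 ⟨hf, h⟩).2

theorem index_centralizer_lt_of_normal (M : Subgroup G) [Finite M] [hM : M.Normal] {x : G}
    (hx : x ∈ M) (hx1 : x ≠ 1) : (centralizer {x}).index < Nat.card M := by
  simpa using relIndex_centralizer_lt ⊤ M (fun n _ v hv => hM.conj_mem v hv n) hx hx1

/-- If `x` has order `a`, and no element has order `a * r` (`r` a prime not dividing `a`), then the
centraliser of `x` has order prime to `r`. -/
theorem not_dvd_card_centralizer [Finite G] {x : G} {a r : ℕ} (hr : r.Prime) (hx : orderOf x = a)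
    (hc : a.Coprime r) (h : ∀ g : G, orderOf g ≠ a * r) : ¬ r ∣ Nat.card (centralizer {x}) := by
  intro hd
  have := Fact.mk hr
  obtain ⟨t, ht⟩ := exists_prime_orderOf_dvd_card' r hd
  have hc' : Commute x (t : G) := (mem_centralizer_singleton_iff.1 t.2).symm
  have ht' : orderOf (t : G) = r := by rw [orderOf_coe, ht]
  apply h (x * t)
  rw [hc'.orderOf_mul_eq_mul_orderOf_of_coprime (by rw [hx, ht']; exact hc), hx, ht']

private theorem index_eq_of_card {H : Subgroup G} {a b : ℕ} (hG : Nat.card G = a * b)
    (hH : Nat.card H = a) (ha : 0 < a) : H.index = b := by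
  have := H.card_mul_index
  rw [hG, hH] at this
  exact Nat.eq_of_mul_eq_mul_left ha this

private theorem orderOf_dvd_card_centralizer (x : G) : orderOf x ∣ Nat.card (centralizer {x}) := by
  have : x ∈ centralizer ({x} : Set G) := mem_centralizer_singleton_iff.2 rfl
  exact orderOf_dvd_natCard _ this

/-- A group of order 12 without elements of order 6 is `A₄`. -/
theorem nonempty_mulEquiv_A4 (hG : Nat.card G = 12) (h6 : ∀ g : G, orderOf g ≠ 6) :
    Nonempty (G ≃* alternatingGroup (Fin 4)) := by
  have : Finite G := Nat.finite_of_card_ne_zero (by omega)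
  have : Fact (Nat.Prime 3) := ⟨by norm_num⟩
  obtain ⟨x, hx⟩ := exists_prime_orderOf_dvd_card' (G := G) 3 (by rw [hG]; norm_num)
  have hc : ∀ y : G, orderOf y = 3 → (centralizer {y}).index = 4 := fun y hy => by
    have h1 := not_dvd_card_centralizer Nat.prime_two hy (by norm_num) h6
    have h2 := (centralizer ({y} : Set G)).card_subgroup_dvd_card
    have h3 := orderOf_dvd_card_centralizer y
    rw [hG] at h2
    rw [hy] at h3
    have h4 : Nat.card (centralizer ({y} : Set G)) = 3 := by
      have := Nat.le_of_dvd (by norm_num) h2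
      generalize Nat.card (centralizer ({y} : Set G)) = m at *
      interval_cases m <;> omega
    exact index_eq_of_card (a := 3) hG h4 (by norm_num)
  have hz : Nat.card (zpowers x) = 3 := by rw [Nat.card_zpowers, hx]
  have hcore : (zpowers x).normalCore = ⊥ := by
    by_contra hne
    have hd : Nat.card (zpowers x).normalCore ∣ 3 := hz ▸ card_dvd_of_le (normalCore_le _)
    have h1 : Nat.card (zpowers x).normalCore = 3 := by
      rcases (Nat.dvd_prime Nat.prime_three).1 hd with h | h
      · exact absurd (card_eq_one.1 h) hne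
      · exact h
    obtain ⟨y, hy⟩ := exists_prime_orderOf_dvd_card' (G := (zpowers x).normalCore) 3 (by rw [h1])
    have hy' : orderOf (y : G) = 3 := by rw [orderOf_coe, hy]
    have := index_centralizer_lt_of_normal _ y.2 (by rintro h; rw [h] at hy'; simp at hy')
    rw [hc _ hy', h1] at this
    omega
  obtain ⟨f, hf⟩ := exists_injective_perm (zpowers x) hcore (n := 4) (by norm_num)
    (index_eq_of_card (a := 3) hG hz (by norm_num))
  exact nonempty_mulEquiv_alternating_of_injective f hf (by rw [hG]; rfl)

/-- A group of order 24 without elements of order 6 is `S₄`. -/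
theorem nonempty_mulEquiv_S4 (hG : Nat.card G = 24) (h6 : ∀ g : G, orderOf g ≠ 6) :
    Nonempty (G ≃* Perm (Fin 4)) := by
  have : Finite G := Nat.finite_of_card_ne_zero (by omega)
  have : Fact (Nat.Prime 3) := ⟨by norm_num⟩
  have hc : ∀ y : G, orderOf y = 3 → (centralizer {y}).index = 8 := fun y hy => by
    have h1 := not_dvd_card_centralizer Nat.prime_two hy (by norm_num) h6
    have h2 := (centralizer ({y} : Set G)).card_subgroup_dvd_card
    have h3 := orderOf_dvd_card_centralizer y
    rw [hG] at h2
    rw [hy] at h3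
    have h4 : Nat.card (centralizer ({y} : Set G)) = 3 := by
      have := Nat.le_of_dvd (by norm_num) h2
      generalize Nat.card (centralizer ({y} : Set G)) = m at *
      interval_cases m <;> omega
    exact index_eq_of_card (a := 3) hG h4 (by norm_num)
  have hM : ∀ (M : Subgroup G) [M.Normal], Nat.card M ∣ 6 → M = ⊥ := by
    intro M _ hd
    have hle := Nat.le_of_dvd (by norm_num) hd
    by_cases h3 : 3 ∣ Nat.card M
    · obtain ⟨y, hy⟩ := exists_prime_orderOf_dvd_card' (G := M) 3 h3
      have hy' : orderOf (y : G) = 3 := by rw [orderOf_coe, hy]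
      have := index_centralizer_lt_of_normal _ y.2 (by rintro h; rw [h] at hy'; simp at hy')
      rw [hc _ hy'] at this
      omega
    by_cases h2 : Nat.card M = 2
    · have : Fact (Nat.Prime 2) := ⟨by norm_num⟩
      obtain ⟨t, ht⟩ := exists_prime_orderOf_dvd_card' (G := M) 2 (by rw [h2])
      have ht' : orderOf (t : G) = 2 := by rw [orderOf_coe, ht]
      have h4 := index_centralizer_lt_of_normal _ t.2 (by rintro h; rw [h] at ht'; simp at ht')
      have h5 := (centralizer ({(t : G)} : Set G)).card_mul_index
      have h7 := not_dvd_card_centralizer Nat.prime_three ht' (by norm_num) h6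
      have h8 : (centralizer ({(t : G)} : Set G)).index ≠ 0 := index_ne_zero_of_finite
      have h9 : (centralizer ({(t : G)} : Set G)).index = 1 := by omega
      rw [h9, hG] at h5
      omega
    · rw [← card_eq_one]
      generalize Nat.card M = m at *
      interval_cases m <;> omega
  obtain ⟨P⟩ : Nonempty (Sylow 3 G) := inferInstance
  have hP : Nat.card P = 3 := by
    rw [P.card_eq_multiplicity, hG]
    have : (24 : ℕ).factorization 3 = 1 := by decide +kernel
    rw [this]; rfl
  have hn : (normalizer (P : Set G)).index = 4 := by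
    have h1 := card_sylow_modEq_one 3 G
    have h2 := P.card_dvd_index
    rw [index_eq_of_card (a := 3) (b := 8) hG hP (by norm_num)] at h2
    rw [← P.card_eq_index_normalizer]
    have h3 : Nat.card (Sylow 3 G) ≠ 1 := by
      intro h
      have hs : Subsingleton (Sylow 3 G) := (Nat.card_eq_one_iff_unique.1 h).1
      have : (P : Subgroup G).Normal := P.normal_of_subsingleton
      have := hM P (by rw [hP]; norm_num)
      rw [this] at hP
      simp at hP
    have := Nat.le_of_dvd (by norm_num) h2
    unfold Nat.ModEq at h1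
    generalize Nat.card (Sylow 3 G) = m at *
    interval_cases m <;> omega
  have hN : Nat.card (normalizer (P : Set G)) = 6 := by
    have := (normalizer (P : Set G)).card_mul_index
    rw [hn, hG] at this
    omega
  obtain ⟨f, hf⟩ := exists_injective_perm (normalizer (P : Set G))
    (hM _ (hN ▸ card_dvd_of_le (normalCore_le _))) (n := 4) (by norm_num) hn
  exact nonempty_mulEquiv_perm_of_injective f hf (by rw [hG]; rfl)

/-- A group of order 60 without elements of order 6, 10, 15 is `A₅`. -/
theorem nonempty_mulEquiv_A5 (hG : Nat.card G = 60) (h6 : ∀ g : G, orderOf g ≠ 6)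
    (h10 : ∀ g : G, orderOf g ≠ 10) (h15 : ∀ g : G, orderOf g ≠ 15) :
    Nonempty (G ≃* alternatingGroup (Fin 5)) := by
  have : Finite G := Nat.finite_of_card_ne_zero (by omega)
  have : Fact (Nat.Prime 3) := ⟨by norm_num⟩
  have : Fact (Nat.Prime 2) := ⟨by norm_num⟩
  have hc3 : ∀ y : G, orderOf y = 3 → (centralizer {y}).index = 20 := fun y hy => by
    have h1 := not_dvd_card_centralizer Nat.prime_two hy (by norm_num) h6
    have h1' := not_dvd_card_centralizer Nat.prime_five hy (by norm_num) h15
    have h2 := (centralizer ({y} : Set G)).card_subgroup_dvd_card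
    have h3 := orderOf_dvd_card_centralizer y
    rw [hG] at h2
    rw [hy] at h3
    have h4 : Nat.card (centralizer ({y} : Set G)) = 3 := by
      have := Nat.le_of_dvd (by norm_num) h2
      generalize Nat.card (centralizer ({y} : Set G)) = m at *
      interval_cases m <;> omega
    exact index_eq_of_card (a := 3) hG h4 (by norm_num)
  have hc2 : ∀ y : G, orderOf y = 2 → Nat.card (centralizer ({y} : Set G)) ≤ 4 := fun y hy => by
    have h1 := not_dvd_card_centralizer Nat.prime_three hy (by norm_num) h6
    have h1' := not_dvd_card_centralizer Nat.prime_five hy (by norm_num) h10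
    have h2 := (centralizer ({y} : Set G)).card_subgroup_dvd_card
    rw [hG] at h2
    have := Nat.le_of_dvd (by norm_num) h2
    generalize Nat.card (centralizer ({y} : Set G)) = m at *
    interval_cases m <;> omega
  have hM : ∀ (M : Subgroup G) [M.Normal], Nat.card M ∣ 12 ∨ Nat.card M = 15 → M = ⊥ := by
    intro M _ hd
    have hle : Nat.card M ≤ 15 := by
      rcases hd with hd | hd
      · have := Nat.le_of_dvd (by norm_num) hd; omega
      · omega
    by_cases h3 : 3 ∣ Nat.card M
    · obtain ⟨y, hy⟩ := exists_prime_orderOf_dvd_card' (G := M) 3 h3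
      have hy' : orderOf (y : G) = 3 := by rw [orderOf_coe, hy]
      have := index_centralizer_lt_of_normal _ y.2 (by rintro h; rw [h] at hy'; simp at hy')
      rw [hc3 _ hy'] at this
      omega
    by_cases h2 : 2 ∣ Nat.card M
    · obtain ⟨t, ht⟩ := exists_prime_orderOf_dvd_card' (G := M) 2 h2
      have ht' : orderOf (t : G) = 2 := by rw [orderOf_coe, ht]
      have h4 := index_centralizer_lt_of_normal _ t.2 (by rintro h; rw [h] at ht'; simp at ht')
      have h5 := (centralizer ({(t : G)} : Set G)).card_mul_index
      have h7 := hc2 _ ht'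
      rw [hG] at h5
      nlinarith
    · rw [← card_eq_one]
      generalize Nat.card M = m at *
      interval_cases m <;> omega
  obtain ⟨P⟩ : Nonempty (Sylow 2 G) := inferInstance
  have hP : Nat.card P = 4 := by
    rw [P.card_eq_multiplicity, hG]
    have : (60 : ℕ).factorization 2 = 2 := by decide +kernel
    rw [this]; rfl
  have hPcomm : ∀ a ∈ (P : Subgroup G), ∀ b ∈ (P : Subgroup G), a * b = b * a := by
    intro a ha b hb
    have := IsPGroup.isMulCommutative_of_card_eq_prime_sq (G := P) (p := 2) (by rw [hP]; rfl)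
    exact congrArg Subtype.val (this.is_comm.comm (⟨a, ha⟩ : (P : Subgroup G)) ⟨b, hb⟩)
  have hNle : Nat.card (normalizer ((P : Subgroup G) : Set G)) ≤ 12 := by
    obtain ⟨t, ht⟩ := exists_prime_orderOf_dvd_card' (G := P) 2 (by rw [hP]; norm_num)
    have ht' : orderOf (t : G) = 2 := by rw [orderOf_coe, ht]
    have h1 := relIndex_centralizer_lt (normalizer ((P : Subgroup G) : Set G)) P
      (fun n hn v hv => (mem_normalizer_iff.1 hn v).1 hv) t.2
      (by rintro h; rw [h] at ht'; simp at ht')
    have h2 := ((centralizer {(t : G)}).subgroupOf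
      (normalizer ((P : Subgroup G) : Set G))).card_mul_index
    have h3 : Nat.card ((centralizer {(t : G)}).subgroupOf
      (normalizer ((P : Subgroup G) : Set G))) ≤ 4 := by
      refine le_trans ?_ (hc2 _ ht')
      refine Nat.card_le_card_of_injective (fun x => ⟨x.1.1, x.2⟩) (fun a b h => ?_)
      have h' : a.1.1 = b.1.1 := congrArg (fun z : centralizer ({(t : G)} : Set G) => (z : G)) h
      exact Subtype.ext (Subtype.ext h')
    rw [hP] at h1
    rw [← h2]
    calc _ ≤ 4 * 3 := Nat.mul_le_mul h3 (Nat.lt_succ_iff.1 h1)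
      _ = 12 := rfl
  have hNd : 4 ∣ Nat.card (normalizer ((P : Subgroup G) : Set G)) :=
    hP ▸ card_dvd_of_le le_normalizer
  have hNd' := (normalizer ((P : Subgroup G) : Set G)).card_subgroup_dvd_card
  rw [hG] at hNd'
  have hN4 : Nat.card (normalizer ((P : Subgroup G) : Set G)) ≠ 4 := by
    intro h4
    have heq : normalizer ((P : Subgroup G) : Set G) = P :=
      (eq_of_le_of_card_ge le_normalizer (by rw [h4, hP])).symm
    have hle : normalizer ((P : Subgroup G) : Set G) ≤ centralizer ((P : Subgroup G) : Set G) := by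
      rw [heq]
      intro a ha b hb
      exact hPcomm b hb a ha
    have hcomp := MonoidHom.ker_transferSylow_isComplement' P hle
    have h5 := hcomp.card_mul_card
    rw [hP, hG] at h5
    have := hM (MonoidHom.transferSylow P hle).ker (Or.inr (by omega))
    rw [this] at h5
    simp at h5
  have hN : Nat.card (normalizer ((P : Subgroup G) : Set G)) = 12 := by
    generalize Nat.card (normalizer ((P : Subgroup G) : Set G)) = m at *
    interval_cases m <;> omega
  obtain ⟨f, hf⟩ := exists_injective_perm (normalizer ((P : Subgroup G) : Set G))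
    (hM _ (Or.inl (hN ▸ card_dvd_of_le (normalCore_le _)))) (n := 5) (by norm_num)
    (index_eq_of_card (a := 12) hG hN (by norm_num))
  exact nonempty_mulEquiv_alternating_of_injective f hf (by rw [hG]; rfl)

end CL.Recog
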