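import Cfsg.Agent.Base
import Cfsg.Agent.PSL2.Recog

/-!
Abstract theory of finite groups acting like subgroups of `PGL₂(K)` on the projective line over an
algebraically closed field `K` of characteristic `p`: basic facts and the fixed point count.
-/

set_option autoImplicit false

namespace CL.PSL2

open MulAction Subgroup

section Peel

variable {H X : Type*} [Group H] [MulAction H X]

theorem card_stabilizer_smul (h : H) (y : X) :
    Nat.card (stabilizer H (h • y)) = Nat.card (stabilizer H y) :=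
  (Nat.card_congr (stabilizerEquivStabilizer (rfl : h • y = h • y)).toEquiv).symm

theorem card_stabilizer_of_mem_orbit {y z : X} (h : y ∈ orbit H z) :
    Nat.card (stabilizer H y) = Nat.card (stabilizer H z) := by
  obtain ⟨g, rfl⟩ := h
  exact card_stabilizer_smul g z

theorem index_stabilizer_of_mem_orbit {y z : X} (h : y ∈ orbit H z) :
    (stabilizer H y).index = (stabilizer H z).index := by
  rw [index_stabilizer, index_stabilizer, orbit_eq_iff.2 h]

/-- Remove one orbit from a finite invariant set. -/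
theorem peel [Finite H] (Y : Finset X) (hY : ∀ (h : H), ∀ y ∈ Y, h • y ∈ Y) {z : X} (hz : z ∈ Y) :
    ∃ Y' : Finset X, (∀ y, y ∈ Y' ↔ y ∈ Y ∧ y ∉ orbit H z) ∧ (∀ (h : H), ∀ y ∈ Y', h • y ∈ Y') ∧
      ∑ y ∈ Y, Nat.card (stabilizer H y) = Nat.card H + ∑ y ∈ Y', Nat.card (stabilizer H y) ∧
      Y.card = (stabilizer H z).index + Y'.card := by
  classical
  have hO : (Y.filter (· ∈ orbit H z)).card = (stabilizer H z).index := by
    rw [index_stabilizer, ← Set.ncard_coe_finset]
    congr 1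
    ext y
    simp only [Finset.coe_filter, Set.mem_ofPred_eq, and_iff_right_iff_imp]
    rintro ⟨g, rfl⟩
    exact hY g z hz
  refine ⟨Y.filter (· ∉ orbit H z), fun y => by simp, fun h y hy => ?_, ?_, ?_⟩
  · rw [Finset.mem_filter] at hy ⊢
    refine ⟨hY h y hy.1, fun h' => hy.2 ?_⟩
    have := mem_orbit_of_mem_orbit h⁻¹ h'
    simpa using this
  · rw [← Finset.sum_filter_add_sum_filter_not Y (· ∈ orbit H z)]
    congr 1
    rw [Finset.sum_congr rfl (g := fun _ => Nat.card (stabilizer H z))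
      (fun y hy => card_stabilizer_of_mem_orbit (Finset.mem_filter.1 hy).2)]
    rw [Finset.sum_const, hO, smul_eq_mul, index_mul_card]
  · rw [← hO, Finset.card_filter_add_card_filter_not]

theorem card_dvd_sum_card_stabilizer [Finite H] (Y : Finset X)
    (hY : ∀ (h : H), ∀ y ∈ Y, h • y ∈ Y) : Nat.card H ∣ ∑ y ∈ Y, Nat.card (stabilizer H y) := by
  induction hn : Y.card using Nat.strong_induction_on generalizing Y with
  | _ n ih =>
    rcases Y.eq_empty_or_nonempty with rfl | ⟨z, hz⟩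
    · simp
    · obtain ⟨Y', -, h2, h3, h4⟩ := peel Y hY hz
      have : (stabilizer H z).index ≠ 0 := index_ne_zero_of_finite
      rw [h3]
      exact dvd_add dvd_rfl (ih Y'.card (by omega) Y' h2 rfl)

/-- A finite subgroup acting freely on a finite invariant set has order dividing its size. -/
theorem card_dvd_of_free (S : Subgroup H) [Finite S] (Y : Finset X)
    (hY : ∀ h ∈ S, ∀ y ∈ Y, h • y ∈ Y) (hf : ∀ h ∈ S, ∀ y ∈ Y, h • y = y → h = 1) :
    Nat.card S ∣ Y.card := by
  have := card_dvd_sum_card_stabilizer (H := S) Y (fun h y hy => hY h h.2 y hy)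
  rwa [Finset.sum_congr rfl (g := fun _ => 1), ← Finset.card_eq_sum_ones] at this
  intro y hy
  rw [card_eq_one, eq_bot_iff]
  intro h hh
  exact Subtype.ext (hf h h.2 y hy hh)

theorem two_mul_card_le_sum_card_stabilizer [Finite H] (Y : Finset X)
    (hY : ∀ y ∈ Y, stabilizer H y ≠ ⊥) : 2 * Y.card ≤ ∑ y ∈ Y, Nat.card (stabilizer H y) := by
  rw [mul_comm, ← smul_eq_mul, ← Finset.sum_const]
  exact Finset.sum_le_sum fun y hy => (one_lt_card_iff_ne_bot _).2 (hY y hy)

theorem two_mul_index_le [Finite H] {S : Subgroup H} (hS : S ≠ ⊥) : 2 * S.index ≤ Nat.card H := by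
  rw [← S.card_mul_index]
  exact Nat.mul_le_mul_right _ ((one_lt_card_iff_ne_bot _).2 hS)

end Peel

/-- The properties of the action of a subgroup of `PGL₂(K)` on the projective line over an
algebraically closed field `K` of characteristic `p`. -/
structure Moebius (p : ℕ) (K : Type*) [Field K] (H X : Type*) [Group H] [MulAction H X] :
    Prop where
  prime : p.Prime
  fix : ∀ h : H, ∃ x : X, h • x = x
  three : ∀ (h : H) (x y z : X), x ≠ y → x ≠ z → y ≠ z → h • x = x → h • y = y → h • z = z → h = 1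
  unip : ∀ (h : H) (x y : X), h ^ p = 1 → x ≠ y → h • x = x → h • y = y → h = 1
  semi : ∀ (h : H) (x : X), h ^ p ≠ 1 → h • x = x → ∃ y, y ≠ x ∧ h • y = y
  chi : ∀ x : X, ∃ χ : stabilizer H x →* Kˣ, ∀ h, χ h = 1 ↔ (h : H) ^ p = 1

namespace Moebius

variable {p : ℕ} {K : Type*} [Field K] {H X : Type*} [Group H] [MulAction H X]

/-- The structure is inherited along injective homomorphisms compatible with the actions. -/
theorem of_injective (M : Moebius p K H X) {G : Type*} [Group G] [MulAction G X] (f : G →* H)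
    (hf : Function.Injective f) (hs : ∀ (g : G) (x : X), g • x = f g • x) : Moebius p K G X where
  prime := M.prime
  fix g := by simpa only [hs] using M.fix (f g)
  three g x y z h1 h2 h3 := by
    simp only [hs]
    intro h4 h5 h6
    exact (injective_iff_map_eq_one f).1 hf _ (M.three _ x y z h1 h2 h3 h4 h5 h6)
  unip g x y h1 h2 := by
    simp only [hs]
    intro h4 h5
    exact (injective_iff_map_eq_one f).1 hf _
      (M.unip _ x y (by rw [← map_pow, h1, map_one]) h2 h4 h5)
  semi g x h1 := by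
    simp only [hs]
    refine M.semi _ x fun h => h1 ((injective_iff_map_eq_one f).1 hf _ (by rw [map_pow, h]))
  chi x := by
    obtain ⟨χ, hχ⟩ := M.chi x
    let ι : stabilizer G x →* stabilizer H x :=
      (f.comp (stabilizer G x).subtype).codRestrict _ (fun g => by
        have := g.2
        rw [mem_stabilizer_iff, hs] at this
        exact this)
    refine ⟨χ.comp ι, fun g => ?_⟩
    rw [MonoidHom.comp_apply, hχ]
    change (f g) ^ p = 1 ↔ _
    rw [← map_pow]
    exact (injective_iff_map_eq_one' f).1 hf _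

theorem subgroup (M : Moebius p K H X) (S : Subgroup H) : Moebius p K S X :=
  M.of_injective S.subtype S.subtype_injective fun _ _ => rfl

/-- The unipotent radical of the stabiliser of `x`. -/
def uSub (M : Moebius p K H X) (x : X) : Subgroup H where
  carrier := {h | h • x = x ∧ h ^ p = 1}
  one_mem' := by simp
  mul_mem' := by
    rintro a b ⟨ha, ha'⟩ ⟨hb, hb'⟩
    obtain ⟨χ, hχ⟩ := M.chi x
    refine ⟨by rw [mul_smul, hb, ha], ?_⟩
    have h1 := (hχ ⟨a, ha⟩).2 ha'
    have h2 := (hχ ⟨b, hb⟩).2 hb'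
    exact (hχ (⟨a, ha⟩ * ⟨b, hb⟩)).1 (by rw [map_mul, h1, h2, one_mul])
  inv_mem' := by
    rintro a ⟨ha, ha'⟩
    exact ⟨by rw [inv_smul_eq_iff, ha], by rw [inv_pow, ha', inv_one]⟩

variable (M : Moebius p K H X)
include M

theorem mem_uSub {x : X} {h : H} : h ∈ M.uSub x ↔ h • x = x ∧ h ^ p = 1 := Iff.rfl

theorem uSub_le (x : X) : M.uSub x ≤ stabilizer H x := fun _ h => h.1

theorem conj_mem_uSub {x : X} {h : H} (hh : h ∈ M.uSub x) (g : H) :
    g * h * g⁻¹ ∈ M.uSub (g • x) :=
  ⟨by rw [mul_smul, inv_smul_smul, mul_smul, hh.1], by rw [conj_pow, hh.2]; simp⟩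

theorem uSub_smul (x : X) (g : H) : M.uSub (g • x) = (M.uSub x).map (MulAut.conj g).toMonoidHom := by
  ext h
  constructor
  · intro hh
    have := M.conj_mem_uSub hh g⁻¹
    rw [inv_smul_smul] at this
    exact ⟨_, this, by simp [mul_assoc]⟩
  · rintro ⟨k, hk, rfl⟩
    exact M.conj_mem_uSub hk g

theorem card_uSub_smul (x : X) (g : H) : Nat.card (M.uSub (g • x)) = Nat.card (M.uSub x) := by
  rw [uSub_smul, card_map_of_injective (MulAut.conj g).injective]

theorem uSub_smul_eq_bot_iff (x : X) (g : H) : M.uSub (g • x) = ⊥ ↔ M.uSub x = ⊥ := by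
  rw [uSub_smul, map_eq_bot_iff_of_injective _ (MulAut.conj g).injective]

theorem stabilizer_le_normalizer (x : X) : stabilizer H x ≤ normalizer (M.uSub x : Set H) := by
  intro g hg
  rw [mem_normalizer_iff]
  intro h
  have hg' : g • x = x := hg
  constructor
  · intro hh
    simpa [hg'] using M.conj_mem_uSub hh g
  · intro hh
    have h1 := M.conj_mem_uSub hh g⁻¹
    rw [show g⁻¹ • x = x by rw [inv_smul_eq_iff, hg']] at h1
    simpa [mul_assoc] using h1

theorem isPGroup_uSub (x : X) : IsPGroup p (M.uSub x) := fun h =>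
  ⟨1, Subtype.ext (by simpa using h.2.2)⟩

theorem eq_of_mem_uSub {x y : X} {h : H} (hh : h ∈ M.uSub x) (h1 : h ≠ 1) (hy : h • y = y) :
    y = x := by
  by_contra hne
  exact h1 (M.unip h y x hh.2 hne hy hh.1)

theorem not_dvd_orderOf [Finite H] {h : H} (hh : h ^ p ≠ 1) : ¬ p ∣ orderOf h := by
  rintro ⟨m, hm⟩
  obtain ⟨x, hx⟩ := M.fix h
  obtain ⟨y, hyx, hy⟩ := M.semi h x hh hx
  have h1 : h ^ m = 1 := M.unip _ y x (by rw [← pow_mul, mul_comm, ← hm, pow_orderOf_eq_one]) hyx
    ((stabilizer H y).pow_mem hy m) ((stabilizer H x).pow_mem hx m)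
  have h2 := orderOf_dvd_of_pow_eq_one h1
  have h3 : 0 < orderOf h := orderOf_pos h
  have h4 : 0 < m := by
    rcases Nat.eq_zero_or_pos m with rfl | h
    · simp [hm] at h3
    · exact h
  have h5 := Nat.le_of_dvd h4 h2
  have := M.prime.two_le
  nlinarith

theorem pow_eq_one_of_isPGroup [Finite H] {P : Subgroup H} (hP : IsPGroup p P) {h : H}
    (hh : h ∈ P) : h ^ p = 1 := by
  by_contra hne
  have := Fact.mk M.prime
  obtain ⟨k, hk⟩ := IsPGroup.iff_orderOf.1 hP ⟨h, hh⟩
  rw [← orderOf_coe] at hk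
  have h1 := M.not_dvd_orderOf hne
  rcases k with _ | k
  · simp only [pow_zero, orderOf_eq_one_iff] at hk
    exact hne (by rw [hk, one_pow])
  · exact h1 (by rw [hk]; exact dvd_pow_self p (by omega))

/-- A `p`-subgroup fixes a point. -/
theorem exists_le_uSub [Finite H] {P : Subgroup H} (hP : IsPGroup p P) : ∃ x, P ≤ M.uSub x := by
  have := Fact.mk M.prime
  rcases P.bot_or_nontrivial with rfl | hn
  · obtain ⟨x, -⟩ := M.fix 1
    exact ⟨x, bot_le⟩
  have := hP.center_nontrivial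
  obtain ⟨z, hz⟩ := exists_ne (1 : center P)
  obtain ⟨x, hx⟩ := M.fix (z.1 : H)
  have hz' : (z.1 : H) ∈ M.uSub x := ⟨hx, M.pow_eq_one_of_isPGroup hP z.1.2⟩
  refine ⟨x, fun g hg => ⟨?_, M.pow_eq_one_of_isPGroup hP hg⟩⟩
  refine M.eq_of_mem_uSub hz' (fun h => hz (Subtype.ext (Subtype.ext h))) ?_
  have : (⟨g, hg⟩ : P) * z.1 = z.1 * ⟨g, hg⟩ := mem_center_iff.1 z.2 _
  have h2 : g * (z.1 : H) = z.1 * g := congrArg Subtype.val this
  rw [← mul_smul, ← h2, mul_smul, hx]

theorem eq_of_uSub_le {x y : X} (hx : M.uSub x ≠ ⊥) (h : M.uSub x ≤ M.uSub y) : x = y := by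
  obtain ⟨⟨u, hu⟩, hu1⟩ := ne_bot_iff_exists_ne_one.1 hx
  exact M.eq_of_mem_uSub (h hu) (by simpa using hu1) hu.1

/-- A nontrivial `uSub x` is a Sylow `p`-subgroup. -/
theorem exists_sylow [Finite H] {x : X} (hx : M.uSub x ≠ ⊥) :
    ∃ P : Sylow p H, (P : Subgroup H) = M.uSub x := by
  obtain ⟨P, hP⟩ := (M.isPGroup_uSub x).exists_le_sylow
  obtain ⟨y, hy⟩ := M.exists_le_uSub P.2
  obtain rfl := M.eq_of_uSub_le hx (hP.trans hy)
  exact ⟨P, le_antisymm hy hP⟩

theorem exists_eq_uSub [Finite H] (P : Sylow p H) : ∃ x, (P : Subgroup H) = M.uSub x := by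
  obtain ⟨x, hx⟩ := M.exists_le_uSub P.2
  exact ⟨x, (P.3 (M.isPGroup_uSub x) hx).symm⟩

theorem exists_smul_eq [Finite H] {x y : X} (hx : M.uSub x ≠ ⊥) (hy : M.uSub y ≠ ⊥) :
    ∃ g : H, g • x = y := by
  have := Fact.mk M.prime
  obtain ⟨P, hP⟩ := M.exists_sylow hx
  obtain ⟨Q, hQ⟩ := M.exists_sylow hy
  obtain ⟨g, hg⟩ := MulAction.exists_smul_eq H P Q
  refine ⟨g, M.eq_of_uSub_le (by rwa [Ne, uSub_smul_eq_bot_iff]) ?_⟩
  rw [uSub_smul, ← hP, ← hQ, ← hg]
  rfl

theorem mem_orbit_iff [Finite H] {x y : X} (hx : M.uSub x ≠ ⊥) :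
    y ∈ orbit H x ↔ M.uSub y ≠ ⊥ :=
  ⟨by rintro ⟨g, rfl⟩; simpa [uSub_smul_eq_bot_iff] using hx, fun hy => M.exists_smul_eq hx hy⟩

theorem exists_uSub_ne_bot [Finite H] (hp : p ∣ Nat.card H) : ∃ x, M.uSub x ≠ ⊥ := by
  have := Fact.mk M.prime
  obtain ⟨g, hg⟩ := exists_prime_orderOf_dvd_card' p hp
  obtain ⟨x, hx⟩ := M.fix g
  refine ⟨x, ne_bot_iff_exists_ne_one.2 ⟨⟨g, hx, by rw [← hg, pow_orderOf_eq_one]⟩, fun h => ?_⟩⟩
  have : g = 1 := congrArg Subtype.val h
  rw [this, orderOf_one] at hg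
  exact M.prime.one_lt.ne hg

theorem dvd_card_uSub [Finite H] {x : X} (hx : M.uSub x ≠ ⊥) : p ∣ Nat.card (M.uSub x) := by
  have := Fact.mk M.prime
  obtain ⟨k, hk⟩ := IsPGroup.iff_card.1 (M.isPGroup_uSub x)
  rcases k with _ | k
  · exact absurd (card_eq_one.1 hk) hx
  · rw [hk]; exact dvd_pow_self p (by omega)

theorem uSub_eq_bot_of_not_dvd [Finite H] (hp : ¬ p ∣ Nat.card H) (x : X) : M.uSub x = ⊥ := by
  by_contra hx
  exact hp ((M.dvd_card_uSub hx).trans (card_subgroup_dvd_card _))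

/-- A subgroup of a point stabiliser without elements of order `p` is cyclic. -/
theorem isCyclic_of_le [Finite H] {x : X} {S : Subgroup H} (hS : S ≤ stabilizer H x)
    (h : ∀ g ∈ S, g ^ p = 1 → g = 1) : IsCyclic S := by
  obtain ⟨χ, hχ⟩ := M.chi x
  refine isCyclic_of_injective_ringHom ((Units.coeHom K).comp (χ.comp (inclusion hS))) ?_
  rw [injective_iff_map_eq_one]
  intro g hg
  exact Subtype.ext (h g g.2 ((hχ (inclusion hS g)).1 (Units.ext hg)))

theorem card_le_relIndex [Finite H] {x : X} {S : Subgroup H} (hS : S ≤ stabilizer H x)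
    (h : ∀ g ∈ S, g ^ p = 1 → g = 1) : Nat.card S ≤ (M.uSub x).relIndex (stabilizer H x) := by
  rw [relIndex, index_eq_card]
  refine Nat.card_le_card_of_injective (fun g => QuotientGroup.mk (inclusion hS g)) ?_
  intro a b hab
  rw [QuotientGroup.eq, mem_subgroupOf] at hab
  have := h _ (S.mul_mem (S.inv_mem a.2) b.2) hab.2
  exact Subtype.ext (inv_mul_eq_one.1 this)

theorem isCyclic_stabilizer [Finite H] {z : X} (hz : M.uSub z = ⊥) : IsCyclic (stabilizer H z) :=
  M.isCyclic_of_le le_rfl fun g hg hp => by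
    have : g ∈ M.uSub z := ⟨hg, hp⟩
    rwa [hz, mem_bot] at this

theorem isCyclic_stabilizer_inf [Finite H] {x y : X} (hxy : x ≠ y) :
    IsCyclic (stabilizer H x ⊓ stabilizer H y : Subgroup H) :=
  M.isCyclic_of_le inf_le_left fun g hg hp => M.unip g x y hp hxy hg.1 hg.2

theorem centralizer_le {x : X} {u : H} (hu : u ∈ M.uSub x) (hu1 : u ≠ 1) :
    centralizer {u} ≤ M.uSub x := by
  intro g hg
  have hc : g * u = u * g := mem_centralizer_singleton_iff.1 hg
  have hgx : g • x = x := M.eq_of_mem_uSub hu hu1 (by rw [← mul_smul, ← hc, mul_smul, hu.1])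
  refine ⟨hgx, ?_⟩
  by_contra hp
  obtain ⟨y, hyx, hy⟩ := M.semi g x hp hgx
  have h1 : u • y ≠ y := fun h => hyx (M.eq_of_mem_uSub hu hu1 h)
  have h2 : u • y ≠ x := fun h => hyx (by rw [← hu.1] at h; exact MulAction.injective u h)
  apply hp
  rw [M.three g y (u • y) x h1.symm hyx h2 hy (by rw [← mul_smul, hc, mul_smul, hy]) hgx, one_pow]

theorem relIndex_lt [Finite H] {x : X} (hx : M.uSub x ≠ ⊥) :
    (M.uSub x).relIndex (stabilizer H x) < Nat.card (M.uSub x) := by
  obtain ⟨⟨u, hu⟩, hu1⟩ := ne_bot_iff_exists_ne_one.1 hx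
  have hu1 : u ≠ 1 := by simpa using hu1
  refine lt_of_le_of_lt ?_ (Recog.relIndex_centralizer_lt (stabilizer H x) (M.uSub x)
    (fun n hn v hv => (mem_normalizer_iff.1 (M.stabilizer_le_normalizer x hn) v).1 hv) hu hu1)
  exact relIndex_le_of_le_left (M.centralizer_le hu hu1) index_ne_zero_of_finite

theorem card_stabilizer (x : X) : Nat.card (stabilizer H x) =
    Nat.card (M.uSub x) * (M.uSub x).relIndex (stabilizer H x) := by
  rw [← card_mul_index ((M.uSub x).subgroupOf (stabilizer H x)), relIndex,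
    Nat.card_congr (subgroupOfEquivOfLe (M.uSub_le x)).toEquiv]

theorem finite_support [Finite H] : {x : X | stabilizer H x ≠ ⊥}.Finite := by
  have : {x : X | stabilizer H x ≠ ⊥} ⊆ ⋃ h ∈ {h : H | h ≠ 1}, {x | h • x = x} := by
    intro x hx
    obtain ⟨⟨g, hg⟩, hg1⟩ := ne_bot_iff_exists_ne_one.1 hx
    exact Set.mem_biUnion (show g ≠ 1 by simpa using hg1) hg
  refine Set.Finite.subset (Set.Finite.biUnion (Set.toFinite _) fun h hh => ?_) this
  by_contra hinf
  obtain ⟨s, hs, hc⟩ := Set.Infinite.exists_subset_card_eq hinf 3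
  classical
  obtain ⟨x, y, z, h1, h2, h3, rfl⟩ := Finset.card_eq_three.1 hc
  exact hh (M.three h x y z h1 h2 h3 (hs (by simp)) (hs (by simp)) (hs (by simp)))

/-- The basic count of pairs (non-identity element, fixed point). -/
theorem count [Finite H] (Y : Finset X) (hY : ∀ x, x ∈ Y ↔ stabilizer H x ≠ ⊥) :
    ∑ x ∈ Y, Nat.card (stabilizer H x) + ∑ x ∈ Y, Nat.card (M.uSub x) + 2 =
      2 * Nat.card H + 2 * Y.card := by
  classical
  have := Fintype.ofFinite H
  have key : ∀ (P : H → Prop) [DecidablePred P], ∑ h ∈ Finset.univ.filter P, (Y.filter (fun y => h • y = y)).card =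
      ∑ y ∈ Y, (Finset.univ.filter (fun h => P h ∧ h • y = y)).card := by
    intro P _
    simp only [Finset.card_filter]
    rw [Finset.sum_comm, Finset.sum_congr rfl]
    intro y _
    rw [Finset.sum_filter]
    refine Finset.sum_congr rfl fun h _ => ?_
    by_cases h1 : P h <;> simp [h1]
  have hmem : ∀ (h : H) (y : X), h ≠ 1 → h • y = y → y ∈ Y := fun h y h1 hy =>
    (hY y).2 (ne_bot_iff_exists_ne_one.2 ⟨⟨h, hy⟩, fun h2 => h1 (congrArg Subtype.val h2)⟩)
  have hA := key (fun h => h ≠ 1 ∧ h ^ p = 1)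
  have hB := key (fun h => h ^ p ≠ 1)
  rw [Finset.sum_congr rfl (g := fun _ => 1), ← Finset.card_eq_sum_ones] at hA
  swap
  · intro h hh
    obtain ⟨h1, h2⟩ := (Finset.mem_filter.1 hh).2
    obtain ⟨x, hx⟩ := M.fix h
    rw [Finset.card_eq_one]
    refine ⟨x, ?_⟩
    ext y
    simp only [Finset.mem_filter, Finset.mem_singleton]
    exact ⟨fun hy => M.eq_of_mem_uSub ⟨hx, h2⟩ h1 hy.2, by rintro rfl; exact ⟨hmem h _ h1 hx, hx⟩⟩
  rw [Finset.sum_congr rfl (g := fun _ => 2), Finset.sum_const, smul_eq_mul] at hB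
  swap
  · intro h hh
    have h2 := (Finset.mem_filter.1 hh).2
    have h1 : h ≠ 1 := by rintro rfl; simp at h2
    obtain ⟨x, hx⟩ := M.fix h
    obtain ⟨y, hyx, hy⟩ := M.semi h x h2 hx
    rw [Finset.card_eq_two]
    refine ⟨y, x, hyx, ?_⟩
    ext w
    simp only [Finset.mem_filter, Finset.mem_insert, Finset.mem_singleton]
    constructor
    · rintro ⟨-, hw⟩
      by_contra hne
      push Not at hne
      exact h1 (M.three h w y x hne.1 hne.2 hyx hw hy hx)
    · rintro (rfl | rfl)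
      · exact ⟨hmem h _ h1 hy, hy⟩
      · exact ⟨hmem h _ h1 hx, hx⟩
  have hU : ∀ y, Nat.card (M.uSub y) = (Finset.univ.filter (fun h : H => h ∈ M.uSub y)).card :=
    fun y => by rw [Nat.card_eq_fintype_card, Fintype.card_subtype]
  have hS : ∀ y : X, Nat.card (stabilizer H y) =
      (Finset.univ.filter (fun h : H => h ∈ stabilizer H y)).card :=
    fun y => by rw [Nat.card_eq_fintype_card, Fintype.card_subtype]
  have e1 : ∀ y, Nat.card (M.uSub y) =
      (Finset.univ.filter (fun h : H => (h ≠ 1 ∧ h ^ p = 1) ∧ h • y = y)).card + 1 := by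
    intro y
    rw [hU, ← Finset.card_insert_of_notMem (a := (1 : H)) (by simp)]
    congr 1
    ext h
    by_cases h1 : h = 1 <;> simp [h1, mem_uSub, and_comm]
  have e2 : ∀ y, Nat.card (stabilizer H y) =
      (Finset.univ.filter (fun h : H => h ^ p ≠ 1 ∧ h • y = y)).card + Nat.card (M.uSub y) := by
    intro y
    rw [hU, hS, ← Finset.card_union_of_disjoint]
    · congr 1
      ext h
      by_cases h1 : h ^ p = 1 <;> simp [h1, mem_uSub]
    · rw [Finset.disjoint_left]
      intro h h1 h2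
      exact (Finset.mem_filter.1 h1).2.1 (Finset.mem_filter.1 h2).2.2
  have e3 : Nat.card H = (Finset.univ.filter (fun h : H => h ≠ 1 ∧ h ^ p = 1)).card +
      (Finset.univ.filter (fun h : H => h ^ p ≠ 1)).card + 1 := by
    rw [← Finset.card_union_of_disjoint, ← Finset.card_insert_of_notMem (a := (1 : H)) (by simp),
      Nat.card_eq_fintype_card, ← Finset.card_univ]
    · congr 1
      ext h
      by_cases h1 : h = 1 <;> simp [h1, em]
    · rw [Finset.disjoint_left]
      intro h h1 h2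
      exact (Finset.mem_filter.1 h2).2 (Finset.mem_filter.1 h1).2.2
  have s1 : ∑ x ∈ Y, Nat.card (M.uSub x) = _ := Finset.sum_congr rfl fun y _ => e1 y
  have s2 : ∑ x ∈ Y, Nat.card (stabilizer H x) = _ := Finset.sum_congr rfl fun y _ => e2 y
  rw [Finset.sum_add_distrib, ← hA, ← Finset.card_eq_sum_ones] at s1
  rw [Finset.sum_add_distrib, ← hB] at s2
  omega

end Moebius

end CL.PSL2
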