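import Cfsg.Agent.Base
import Cfsg.Agent.PSL2.Moebius

/-!
The action of `PGL₂(K)` on the projective line; eigenvalues of `2 × 2` matrices.
-/

set_option autoImplicit false

namespace CL.PSL2

open MulAction Subgroup Matrix
open scoped LinearAlgebra.Projectivization MatrixGroups

section Eigen

variable {K : Type*} [Field K]

theorem sub_mul_sub_eq_zero (g : Matrix (Fin 2) (Fin 2) K) {l m : K} (ht : l + m = g.trace)
    (hd : l * m = g.det) : (g - l • 1) * (g - m • 1) = 0 := by
  rw [trace_fin_two] at ht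
  rw [det_fin_two] at hd
  ext i j
  fin_cases i <;> fin_cases j <;> simp [Matrix.mul_apply, Fin.sum_univ_two]
  · linear_combination hd - g 0 0 * ht
  · linear_combination - g 0 1 * ht
  · linear_combination - g 1 0 * ht
  · linear_combination hd - g 1 1 * ht

theorem pow_mul_sub (g : Matrix (Fin 2) (Fin 2) K) {l m : K} (ht : l + m = g.trace)
    (hd : l * m = g.det) (k : ℕ) : g ^ k * (g - m • 1) = l ^ k • (g - m • 1) := by
  have h1 : g * (g - m • 1) = l • (g - m • 1) := by
    have := sub_mul_sub_eq_zero g ht hd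
    rwa [sub_mul, sub_eq_zero, smul_mul_assoc, one_mul] at this
  induction k with
  | zero => simp
  | succ k ih => rw [pow_succ, mul_assoc, h1, mul_smul_comm, ih, smul_smul, pow_succ, mul_comm]

theorem pow_eq_smul_one_of_ne (g : Matrix (Fin 2) (Fin 2) K) {l m : K} (ht : l + m = g.trace)
    (hd : l * m = g.det) (hne : l ≠ m) {k : ℕ} (hk : l ^ k = m ^ k) : g ^ k = l ^ k • 1 := by
  have h1 := pow_mul_sub g ht hd k
  have h2 := pow_mul_sub g (by rw [add_comm]; exact ht) (by rw [mul_comm]; exact hd) k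
  rw [← hk] at h2
  have h3 : (l - m) • g ^ k = (l - m) • (l ^ k • (1 : Matrix (Fin 2) (Fin 2) K)) := by
    calc (l - m) • g ^ k = g ^ k * (g - m • 1) - g ^ k * (g - l • 1) := by
          rw [← mul_sub, sub_sub_sub_cancel_left, ← sub_smul, mul_smul_comm, mul_one]
      _ = _ := by
          rw [h1, h2, ← smul_sub, sub_sub_sub_cancel_left, ← sub_smul, smul_comm]
  exact smul_right_injective _ (sub_ne_zero.2 hne) h3

theorem pow_char_eq_smul_one (p : ℕ) [Fact p.Prime] [CharP K p] (g : Matrix (Fin 2) (Fin 2) K)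
    {l : K} (ht : l + l = g.trace) (hd : l * l = g.det) : g ^ p = l ^ p • 1 := by
  have h1 := sub_mul_sub_eq_zero g ht hd
  have h2 : (g - l • 1) ^ p = 0 := by
    obtain ⟨k, hk⟩ : ∃ k, p = k + 2 := ⟨p - 2, by have := (Fact.out : p.Prime).two_le; omega⟩
    rw [hk, pow_add, sq, h1, mul_zero]
  have h3 : Commute (g - l • 1) (l • 1 : Matrix (Fin 2) (Fin 2) K) :=
    (Commute.one_right _).smul_right l
  calc g ^ p = ((g - l • 1) + l • 1) ^ p := by rw [sub_add_cancel]
    _ = _ := by rw [add_pow_char_of_commute p h3, h2, zero_add, smul_pow, one_pow]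

theorem pow_eq_of_pow_eq_smul_one (g : Matrix (Fin 2) (Fin 2) K) {l m : K} (ht : l + m = g.trace)
    (hd : l * m = g.det) {k : ℕ} {c : K} (hk : g ^ k = c • 1) : l ^ k = c := by
  have h1 := pow_mul_sub g ht hd k
  rw [hk, smul_mul_assoc, one_mul] at h1
  by_cases h : g - m • 1 = 0
  · rw [sub_eq_zero] at h
    have hl : l = m := by
      rw [h] at ht
      simp only [trace_fin_two, Matrix.smul_apply, one_apply_eq, smul_eq_mul, mul_one] at ht
      exact add_right_cancel ht
    rw [h, smul_pow, one_pow] at hk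
    have := congrFun (congrFun hk 0) 0
    simpa [hl] using this
  · exact (smul_left_injective K h h1).symm

theorem exists_eigenvalues [IsAlgClosed K] (t d : K) : ∃ l m : K, l + m = t ∧ l * m = d := by
  open Polynomial in
  obtain ⟨x, hx⟩ := IsAlgClosed.exists_root (X ^ 2 - C t * X + C d : K[X]) (by
    have : (X ^ 2 - C t * X + C d : K[X]).degree = 2 := by compute_degree!
    rw [this]; norm_num)
  refine ⟨x, t - x, by ring, ?_⟩
  simp only [Polynomial.IsRoot.def, Polynomial.eval_add, Polynomial.eval_sub, Polynomial.eval_pow,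
    Polynomial.eval_X, Polynomial.eval_mul, Polynomial.eval_C] at hx
  linear_combination -hx

end Eigen

section Points

variable {K : Type*} [Field K]

/-- The projective line. -/
abbrev P1 (K : Type*) [Field K] : Type _ := ℙ K (Fin 2 → K)

/-- The point at infinity `[1 : 0]`. -/
def inf : P1 K := Projectivization.mk K ![1, 0] (by simp)

/-- The point `[a : 1]`. -/
def pt (a : K) : P1 K := Projectivization.mk K ![a, 1] (by simp)

theorem mk_eq_mk_iff_cross {v w : Fin 2 → K} (hv : v ≠ 0) (hw : w ≠ 0) :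
    Projectivization.mk K v hv = Projectivization.mk K w hw ↔ v 0 * w 1 = v 1 * w 0 := by
  rw [Projectivization.mk_eq_mk_iff']
  constructor
  · rintro ⟨a, rfl⟩
    simp only [Pi.smul_apply, smul_eq_mul]
    ring
  · intro h
    by_cases h0 : w 0 = 0
    · have h1 : w 1 ≠ 0 := fun h1 => hw (by ext i; fin_cases i <;> simp [h0, h1])
      refine ⟨v 1 / w 1, ?_⟩
      ext i
      fin_cases i
      · rw [h0, mul_zero, mul_eq_zero] at h
        simp [h0, h.resolve_right h1]
      · simp [h1]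
    · refine ⟨v 0 / w 0, ?_⟩
      ext i
      fin_cases i
      · simp [h0]
      · simp only [Fin.mk_one, Fin.isValue, Pi.smul_apply, smul_eq_mul]
        field_simp
        linear_combination h

theorem eq_inf_or_eq_pt (x : P1 K) : x = inf ∨ ∃ a, x = pt a := by
  induction x using Projectivization.ind with
  | h v hv =>
    by_cases h : v 1 = 0
    · left; simp [inf, mk_eq_mk_iff_cross, h]
    · right; exact ⟨v 0 / v 1, by simp [pt, mk_eq_mk_iff_cross, mul_div_cancel₀ _ h]⟩

theorem pt_inj {a b : K} : pt a = pt b ↔ a = b := by simp [pt, mk_eq_mk_iff_cross]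

theorem pt_ne_inf (a : K) : pt a ≠ inf := by simp [pt, inf, mk_eq_mk_iff_cross]

theorem smul_inf_eq_inf_iff (g : GL (Fin 2) K) :
    ProjGenLinGroup.mk g • (inf : P1 K) = inf ↔ g 1 0 = 0 := by
  simp [inf, mk_eq_mk_iff_cross, eq_comm]

theorem smul_inf_eq_pt_iff (g : GL (Fin 2) K) (b : K) :
    ProjGenLinGroup.mk g • (inf : P1 K) = pt b ↔ g 0 0 = g 1 0 * b := by
  simp [inf, pt, mk_eq_mk_iff_cross]

theorem smul_pt_eq_inf_iff (g : GL (Fin 2) K) (a : K) :
    ProjGenLinGroup.mk g • pt a = inf ↔ g 1 0 * a + g 1 1 = 0 := by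
  simp [inf, pt, mk_eq_mk_iff_cross, eq_comm]

theorem smul_pt_eq_pt_iff (g : GL (Fin 2) K) (a b : K) :
    ProjGenLinGroup.mk g • pt a = pt b ↔ g 0 0 * a + g 0 1 = (g 1 0 * a + g 1 1) * b := by
  simp [pt, mk_eq_mk_iff_cross]

theorem mk_eq_one_iff (g : GL (Fin 2) K) :
    ProjGenLinGroup.mk g = 1 ↔ g 0 1 = 0 ∧ g 1 0 = 0 ∧ g 0 0 = g 1 1 := by
  rw [ProjGenLinGroup.mk_eq_one, GeneralLinearGroup.mem_center_iff_val_mem_range_scalar]
  constructor
  · rintro ⟨a, ha⟩
    simp [← ha]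
  · rintro ⟨h1, h2, h3⟩
    refine ⟨g 1 1, ?_⟩
    ext i j
    fin_cases i <;> fin_cases j <;> simp [h1, h2, h3]

theorem mk_eq_one_iff' (g : GL (Fin 2) K) :
    ProjGenLinGroup.mk g = 1 ↔ ∃ c : K, (g : Matrix (Fin 2) (Fin 2) K) = c • 1 := by
  rw [mk_eq_one_iff]
  constructor
  · rintro ⟨h1, h2, h3⟩
    refine ⟨g 1 1, ?_⟩
    ext i j
    fin_cases i <;> fin_cases j <;> simp [h1, h2, h3]
  · rintro ⟨c, hc⟩
    simp [hc]

theorem mk_eq_mk_iff_smul (g h : GL (Fin 2) K) :
    ProjGenLinGroup.mk g = ProjGenLinGroup.mk h ↔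
      ∃ c : K, (h : Matrix (Fin 2) (Fin 2) K) = c • (g : Matrix (Fin 2) (Fin 2) K) := by
  rw [← inv_mul_eq_one, ← map_inv, ← map_mul, mk_eq_one_iff']
  refine exists_congr fun c => ?_
  rw [Units.val_mul, Units.inv_mul_eq_iff_eq_mul, mul_smul_comm, mul_one]

/-- `PGL₂` is doubly transitive on the projective line. -/
theorem exists_smul_inf_pt {x y : P1 K} (hxy : x ≠ y) :
    ∃ γ : PGL(2, K), γ • (inf : P1 K) = x ∧ γ • pt 0 = y := by
  induction x using Projectivization.ind with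
  | h v hv =>
  induction y using Projectivization.ind with
  | h w hw =>
    rw [Ne, mk_eq_mk_iff_cross] at hxy
    refine ⟨.mk (GeneralLinearGroup.mkOfDetNeZero !![v 0, w 0; v 1, w 1] ?_), ?_, ?_⟩
    · rw [det_fin_two_of, sub_ne_zero, mul_comm (w 0)]; exact hxy
    · simp [inf, mk_eq_mk_iff_cross, mul_comm]
    · simp [pt, mk_eq_mk_iff_cross, mul_comm]

theorem exists_smul_inf (x : P1 K) : ∃ γ : PGL(2, K), γ • (inf : P1 K) = x := by
  by_cases h : x = inf
  · exact ⟨1, by rw [one_smul, h]⟩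
  · obtain ⟨γ, h, -⟩ := exists_smul_inf_pt h
    exact ⟨γ, h⟩

theorem diag_ne_zero {g : GL (Fin 2) K} (h : g 1 0 = 0) : g 0 0 ≠ 0 ∧ g 1 1 ≠ 0 := by
  have := g.det_ne_zero
  rw [det_fin_two, h, mul_zero, sub_zero] at this
  exact ⟨left_ne_zero_of_mul this, right_ne_zero_of_mul this⟩

theorem mk_pow_char_eq_one_iff (p : ℕ) [Fact p.Prime] [CharP K p] {g : GL (Fin 2) K}
    (h : g 1 0 = 0) : ProjGenLinGroup.mk g ^ p = 1 ↔ g 0 0 = g 1 1 := by
  have ht : g 0 0 + g 1 1 = (g : Matrix (Fin 2) (Fin 2) K).trace := by rw [trace_fin_two]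
  have hd : g 0 0 * g 1 1 = (g : Matrix (Fin 2) (Fin 2) K).det := by
    rw [det_fin_two, h, mul_zero, sub_zero]
  rw [← map_pow, mk_eq_one_iff', Units.val_pow_eq_pow_val]
  constructor
  · rintro ⟨c, hc⟩
    have h1 := pow_eq_of_pow_eq_smul_one _ ht hd hc
    have h2 := pow_eq_of_pow_eq_smul_one _ ((add_comm _ _).trans ht) ((mul_comm _ _).trans hd) hc
    exact frobenius_inj K p (h1.trans h2.symm)
  · intro h1
    rw [← h1] at ht hd
    exact ⟨_, pow_char_eq_smul_one p _ ht hd⟩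

/-- The character of the stabiliser of `∞`. -/
theorem exists_chi_inf : ∃ χ : stabilizer PGL(2, K) (inf : P1 K) →* Kˣ,
    ∀ (g : GL (Fin 2) K) (hg : ProjGenLinGroup.mk g ∈ stabilizer PGL(2, K) (inf : P1 K)),
      (χ ⟨_, hg⟩ : K) = g 0 0 / g 1 1 := by
  have hrep : ∀ h : stabilizer PGL(2, K) (inf : P1 K), ∃ u : Kˣ, ∀ g : GL (Fin 2) K,
      ProjGenLinGroup.mk g = h → (u : K) = g 0 0 / g 1 1 := by
    rintro ⟨h, hh⟩
    induction h using ProjGenLinGroup.induction_on with
    | mk g =>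
      have h0 := diag_ne_zero ((smul_inf_eq_inf_iff g).1 hh)
      refine ⟨Units.mk0 _ (div_ne_zero h0.1 h0.2), fun g' hg' => ?_⟩
      obtain ⟨c, hc⟩ := (mk_eq_mk_iff_smul _ _).1 hg'
      have hc0 : c ≠ 0 := by rintro rfl; simp [hc] at h0
      simp [hc, mul_div_mul_left _ _ hc0]
  choose u hu using hrep
  refine ⟨MonoidHom.mk' u ?_, fun g hg => hu _ g rfl⟩
  rintro ⟨a, ha⟩ ⟨b, hb⟩
  induction a using ProjGenLinGroup.induction_on with
  | mk a =>
  induction b using ProjGenLinGroup.induction_on with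
  | mk b =>
    apply Units.ext
    rw [Units.val_mul, hu ⟨_, ha⟩ a rfl, hu ⟨_, hb⟩ b rfl, hu _ (a * b) (by simp)]
    have h1 := (smul_inf_eq_inf_iff a).1 ha
    have h2 := (smul_inf_eq_inf_iff b).1 hb
    simp [Matrix.mul_apply, Fin.sum_univ_two, h1, h2, div_mul_div_comm]

private theorem conj_fix {G X : Type*} [Group G] [MulAction G X] {γ h : G} {x : X}
    (hx : h • γ • x = γ • x) : (γ⁻¹ * h * γ) • x = x := by
  rw [mul_smul, mul_smul, hx, inv_smul_smul]

private theorem conj_pow_eq_one {G : Type*} [Group G] (γ h : G) (n : ℕ) :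
    (γ⁻¹ * h * γ) ^ n = 1 ↔ h ^ n = 1 := by
  have := conj_pow (a := γ⁻¹) (b := h) (i := n)
  rw [inv_inv] at this
  rw [this]
  constructor
  · intro h1
    calc h ^ n = γ * (γ⁻¹ * h ^ n * γ) * γ⁻¹ := by group
      _ = 1 := by rw [h1]; simp
  · intro h1; simp [h1]

theorem eq_one_of_three_fixed (h : PGL(2, K)) (x y z : P1 K) (hxy : x ≠ y) (hxz : x ≠ z)
    (hyz : y ≠ z) (hx : h • x = x) (hy : h • y = y) (hz : h • z = z) : h = 1 := by
  obtain ⟨γ, rfl, rfl⟩ := exists_smul_inf_pt hxy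
  obtain ⟨z, rfl⟩ := MulAction.surjective γ z
  rw [← pow_one h, ← conj_pow_eq_one γ, pow_one]
  have h1 := conj_fix hx
  have h2 := conj_fix hy
  have h3 := conj_fix hz
  generalize γ⁻¹ * h * γ = k at *
  induction k using ProjGenLinGroup.induction_on with
  | mk g =>
    rcases eq_inf_or_eq_pt z with rfl | ⟨a, rfl⟩
    · exact absurd rfl hxz
    have ha : a ≠ 0 := by rintro rfl; exact hyz rfl
    rw [smul_inf_eq_inf_iff] at h1
    rw [smul_pt_eq_pt_iff] at h2 h3
    simp only [mul_zero, zero_add] at h2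
    rw [h1, h2, zero_mul, zero_add, add_zero] at h3
    exact (mk_eq_one_iff g).2 ⟨h2, h1, mul_right_cancel₀ ha h3⟩

theorem moebius_PGL (p : ℕ) [Fact p.Prime] [CharP K p] [IsAlgClosed K] :
    Moebius p K PGL(2, K) (P1 K) where
  prime := Fact.out
  fix h := by
    induction h using ProjGenLinGroup.induction_on with
    | mk g =>
      by_cases hc : g 1 0 = 0
      · exact ⟨inf, (smul_inf_eq_inf_iff g).2 hc⟩
      · obtain ⟨l, m, h1, h2⟩ := exists_eigenvalues ((g 0 0 - g 1 1) / g 1 0) (- g 0 1 / g 1 0)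
        refine ⟨pt l, (smul_pt_eq_pt_iff g l l).2 ?_⟩
        field_simp at h1 h2
        linear_combination h2 - l * h1
  three := eq_one_of_three_fixed
  unip h x y hp hxy hx hy := by
    obtain ⟨γ, rfl, rfl⟩ := exists_smul_inf_pt hxy
    rw [← pow_one h, ← conj_pow_eq_one γ, pow_one]
    rw [← conj_pow_eq_one γ] at hp
    have h1 := conj_fix hx
    have h2 := conj_fix hy
    generalize γ⁻¹ * h * γ = k at *
    induction k using ProjGenLinGroup.induction_on with
    | mk g =>
      rw [smul_inf_eq_inf_iff] at h1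
      rw [smul_pt_eq_pt_iff] at h2
      simp only [mul_zero, zero_add] at h2
      exact (mk_eq_one_iff g).2 ⟨h2, h1, (mk_pow_char_eq_one_iff p h1).1 hp⟩
  semi h x hp hx := by
    obtain ⟨γ, rfl⟩ := exists_smul_inf x
    rw [Ne, ← conj_pow_eq_one γ] at hp
    have h1 := conj_fix hx
    suffices ∃ y : P1 K, y ≠ inf ∧ (γ⁻¹ * h * γ) • y = y by
      obtain ⟨y, hy, hy'⟩ := this
      refine ⟨γ • y, fun h => hy (MulAction.injective γ h), ?_⟩
      rw [mul_smul, mul_smul, inv_smul_eq_iff] at hy'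
      exact hy'
    generalize γ⁻¹ * h * γ = k at *
    induction k using ProjGenLinGroup.induction_on with
    | mk g =>
      rw [smul_inf_eq_inf_iff] at h1
      rw [mk_pow_char_eq_one_iff p h1] at hp
      refine ⟨pt (g 0 1 / (g 1 1 - g 0 0)), pt_ne_inf _, (smul_pt_eq_pt_iff g _ _).2 ?_⟩
      have : g 1 1 - g 0 0 ≠ 0 := sub_ne_zero.2 (Ne.symm hp)
      rw [h1]
      field_simp
      ring
  chi x := by
    obtain ⟨γ, rfl⟩ := exists_smul_inf x
    obtain ⟨χ, hχ⟩ := exists_chi_inf (K := K)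
    let ι : stabilizer PGL(2, K) (γ • (inf : P1 K)) →* stabilizer PGL(2, K) (inf : P1 K) :=
      ((MulAut.conj γ⁻¹).toMonoidHom.comp (stabilizer PGL(2, K) (γ • (inf : P1 K))).subtype).codRestrict
        _ (fun h => by simpa using conj_fix h.2)
    refine ⟨χ.comp ι, fun h => ?_⟩
    rw [← conj_pow_eq_one γ]
    have e : γ⁻¹ * h * γ = (ι h : PGL(2, K)) := by simp [ι]
    rw [e, MonoidHom.comp_apply]
    generalize ι h = k
    obtain ⟨k, hk⟩ := k
    induction k using ProjGenLinGroup.induction_on with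
    | mk g =>
      have h1 := (smul_inf_eq_inf_iff g).1 hk
      rw [mk_pow_char_eq_one_iff p h1, Units.ext_iff, hχ, Units.val_one,
        div_eq_one_iff_eq (diag_ne_zero h1).2]

end Points

end CL.PSL2
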