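import Cfsg.Agent.Base
import Cfsg.Agent.PSL2.Proj

/-!
Orders of `GL₂`, `SL₂`, `PGL₂`, `PSL₂` over a finite field; the centre of `SL₂`.
-/

set_option autoImplicit false

namespace CL.PSL2

open MulAction Subgroup Matrix
open scoped MatrixGroups

variable {F : Type*} [Field F]

theorem mem_center_SL_iff (g : SL(2, F)) : g ∈ center SL(2, F) ↔ g = 1 ∨ g = -1 := by
  rw [Matrix.SpecialLinearGroup.mem_center_iff]
  constructor
  · rintro ⟨r, hr, h⟩
    rw [Fintype.card_fin, sq_eq_one_iff] at hr
    rcases hr with rfl | rfl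
    · left; exact Subtype.ext (by simp [← h])
    · right; exact Subtype.ext (by rw [← h, map_neg, map_one]; rfl)
  · rintro (rfl | rfl)
    · exact ⟨1, by simp, by simp⟩
    · exact ⟨-1, by simp, by rw [map_neg, map_one]; rfl⟩

theorem PSL_mk_eq_one_iff (g : SL(2, F)) : (g : PSL(2, F)) = 1 ↔ g = 1 ∨ g = -1 := by
  rw [QuotientGroup.eq_one_iff, mem_center_SL_iff]

theorem PSL_mk_eq_mk_iff (g h : SL(2, F)) : (g : PSL(2, F)) = h ↔ h = g ∨ h = -g := by
  rw [QuotientGroup.eq, mem_center_SL_iff, inv_mul_eq_one, inv_mul_eq_iff_eq_mul, mul_neg, mul_one,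
    eq_comm]

theorem neg_one_eq_one_SL_iff : (-1 : SL(2, F)) = 1 ↔ (2 : F) = 0 := by
  constructor
  · intro h
    have := congrFun (congrFun (congrArg Subtype.val h) 0) 0
    have h2 : (-1 : F) = 1 := by simpa using this
    linear_combination -h2
  · intro h
    ext i j
    fin_cases i <;> fin_cases j <;> simp <;> linear_combination -h

theorem two_eq_zero_iff_even_card [Fintype F] : (2 : F) = 0 ↔ Even (Fintype.card F) := by
  rw [Nat.even_iff, ← FiniteField.even_card_iff_char_two]
  constructor
  · intro h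
    exact CharP.ringChar_of_prime_eq_zero Nat.prime_two (by exact_mod_cast h)
  · intro h
    have := ringChar.Nat.cast_ringChar (R := F)
    rw [h] at this
    exact_mod_cast this

theorem two_ne_zero_of_odd_card [Fintype F] (h : Odd (Fintype.card F)) : (2 : F) ≠ 0 := by
  rw [Ne, two_eq_zero_iff_even_card, Nat.not_even_iff_odd]; exact h

theorem gcd_two_of_odd {q : ℕ} (h : Odd q) : Nat.gcd 2 (q - 1) = 2 := by
  obtain ⟨k, rfl⟩ := h
  simp

theorem gcd_two_of_even {q : ℕ} (h : Even q) (h0 : q ≠ 0) : Nat.gcd 2 (q - 1) = 1 := by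
  rw [Nat.even_iff] at h
  apply Nat.Coprime.gcd_eq_one
  rw [Nat.coprime_two_left, Nat.odd_iff]
  omega

theorem card_center_SL [Fintype F] :
    Nat.card (center SL(2, F)) = Nat.gcd 2 (Fintype.card F - 1) := by
  rcases Nat.even_or_odd (Fintype.card F) with h | h
  · rw [gcd_two_of_even h Fintype.card_ne_zero, card_eq_one, eq_bot_iff]
    intro g hg
    rcases (mem_center_SL_iff g).1 hg with rfl | rfl
    · rfl
    · exact neg_one_eq_one_SL_iff.2 (two_eq_zero_iff_even_card.2 h)
  · rw [gcd_two_of_odd h]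
    have : ((center SL(2, F) : Subgroup SL(2, F)) : Set SL(2, F)) = {1, -1} := by
      ext g; simp [mem_center_SL_iff]
    change Nat.card ((center SL(2, F) : Subgroup SL(2, F)) : Set SL(2, F)) = 2
    rw [this, Nat.card_coe_set_eq, Set.ncard_pair]
    exact fun h1 => two_ne_zero_of_odd_card h (neg_one_eq_one_SL_iff.1 h1.symm)

theorem card_GL [Fintype F] : Nat.card (GL (Fin 2) F) =
    (Fintype.card F - 1) * (Fintype.card F * (Fintype.card F ^ 2 - 1)) := by
  rw [card_GL_field, Fin.prod_univ_two]
  simp only [Fin.val_zero, pow_zero, Fin.val_one, pow_one]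
  rw [← mul_assoc, mul_comm]
  congr 1
  rw [sq, Nat.sub_mul, one_mul]

theorem card_PGL [Fintype F] :
    Nat.card PGL(2, F) = Fintype.card F * (Fintype.card F ^ 2 - 1) := by
  have h1 := (ProjGenLinGroup.mk : GL (Fin 2) F →* PGL(2, F)).ker.card_mul_index
  rw [index_ker, MonoidHom.range_eq_top.2 ProjGenLinGroup.mk_surjective, card_top,
    ProjGenLinGroup.ker_mk, GeneralLinearGroup.center_eq_range_scalar, card_GL,
    ← Nat.card_congr (MonoidHom.ofInjective (f := GeneralLinearGroup.scalar (Fin 2)) ?_).toEquiv,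
    Nat.card_units, Nat.card_eq_fintype_card] at h1
  · have : 1 < Fintype.card F := Fintype.one_lt_card
    exact Nat.eq_of_mul_eq_mul_left (by omega) h1
  · intro a b h
    have := (GeneralLinearGroup.ext_iff _ _).1 h 0 0
    exact Units.ext (by simpa using this)

theorem card_SL [Fintype F] :
    Nat.card SL(2, F) = Fintype.card F * (Fintype.card F ^ 2 - 1) := by
  have h1 := (GeneralLinearGroup.det : GL (Fin 2) F →* Fˣ).ker.index_mul_card
  have h2 : (GeneralLinearGroup.det : GL (Fin 2) F →* Fˣ).ker =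
      (SpecialLinearGroup.toGL : SL(2, F) →* _).range := by
    ext g
    constructor
    · intro hg
      exact ⟨⟨g, congrArg Units.val hg⟩, Units.ext rfl⟩
    · rintro ⟨g, rfl⟩
      exact SpecialLinearGroup.coeToGL_det g
  rw [index_ker, MonoidHom.range_eq_top.2 GeneralLinearGroup.det_surjective, card_top, h2, card_GL,
    ← Nat.card_congr (MonoidHom.ofInjective SpecialLinearGroup.toGL_injective).toEquiv,
    Nat.card_units, Nat.card_eq_fintype_card] at h1
  have : 1 < Fintype.card F := Fintype.one_lt_card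
  exact Nat.eq_of_mul_eq_mul_left (by omega) h1

theorem card_PSL [Fintype F] : Nat.gcd 2 (Fintype.card F - 1) * Nat.card PSL(2, F) =
    Fintype.card F * (Fintype.card F ^ 2 - 1) := by
  rw [← card_center_SL, ← card_SL]
  exact (center SL(2, F)).card_mul_index

theorem card_PSL_of_odd [Fintype F] (h : Odd (Fintype.card F)) : 2 * Nat.card PSL(2, F) =
    Fintype.card F * (Fintype.card F ^ 2 - 1) := by
  rw [← card_PSL, gcd_two_of_odd h]

theorem card_PSL_of_even [Fintype F] (h : Even (Fintype.card F)) : Nat.card PSL(2, F) =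
    Fintype.card F * (Fintype.card F ^ 2 - 1) := by
  rw [← card_PSL, gcd_two_of_even h Fintype.card_ne_zero, one_mul]

instance instFinitePGL2 [Finite F] : Finite PGL(2, F) :=
  Finite.of_surjective _ ProjGenLinGroup.mk_surjective

end CL.PSL2
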