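import Cfsg.Agent.Base
import Cfsg.Agent.PSL2.Moebius

/-!
Dickson's classification for abstract Moebius actions: the numerical analysis.
-/

set_option autoImplicit false

namespace CL.PSL2

open MulAction Subgroup

namespace Moebius

variable {p : ℕ} {K : Type*} [Field K] {H X : Type*} [Group H] [MulAction H X]
variable (M : Moebius p K H X)
include M

/-- An element moving `z` whose square fixes `z` is an involution. -/
theorem mul_self_eq_one_of_swap {t : H} {z : X} (h1 : t • z ≠ z) (h2 : t • t • z = z) :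
    t * t = 1 := by
  obtain ⟨v, hv⟩ := M.fix t
  refine M.three _ z (t • z) v h1.symm (by rintro rfl; exact h1 hv) ?_ (by rw [mul_smul, h2])
    (by rw [mul_smul, h2]) (by rw [mul_smul, hv, hv])
  intro h
  rw [← hv] at h
  obtain rfl := MulAction.injective t h
  exact h1 hv

theorem dihedral_of_index_two {z : X} (hc : IsCyclic (stabilizer H z))
    (hi : (stabilizer H z).index = 2) :
    Nonempty (H ≃* DihedralGroup (Nat.card (stabilizer H z))) :=
  Recog.nonempty_mulEquiv_dihedral (stabilizer H z) hi (fun t ht =>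
    M.mul_self_eq_one_of_swap ht (by
      rw [← mul_smul]; exact mul_self_mem_of_index_two hi t)) rfl

theorem exists_support [Finite H] : ∃ Y : Finset X, ∀ x, x ∈ Y ↔ stabilizer H x ≠ ⊥ :=
  ⟨M.finite_support.toFinset, fun x => by simp⟩

omit M in
theorem stabilizer_smul_ne_bot {x : X} (hx : stabilizer H x ≠ ⊥) (h : H) :
    stabilizer H (h • x) ≠ ⊥ := by
  rwa [Ne, ← card_eq_one, card_stabilizer_smul, card_eq_one]

omit M in
theorem orderOf_dvd_card_stabilizer {h : H} {v : X} (hv : h • v = v) :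
    orderOf h ∣ Nat.card (stabilizer H v) := orderOf_dvd_natCard _ hv

omit M in
private theorem triple_numeric {N a b c ma mb mc : ℕ} (ha : a * ma = N) (hb : b * mb = N)
    (hc : c * mc = N) (h2 : 2 ≤ a) (hab : a ≤ b) (hbc : b ≤ c) (h : N + 2 = ma + mb + mc) :
    mc = 2 ∨ (a = 2 ∧ b = 3 ∧ ((c = 3 ∧ N = 12) ∨ (c = 4 ∧ N = 24) ∨ (c = 5 ∧ N = 60))) := by
  have ha2 : a = 2 := by
    by_contra hne
    have : 3 * ma ≤ N := by nlinarith [show 3 ≤ a by omega]
    have : 3 * mb ≤ N := by nlinarith [show 3 ≤ b by omega]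
    have : 3 * mc ≤ N := by nlinarith [show 3 ≤ c by omega]
    omega
  subst ha2
  by_cases hb2 : b = 2
  · subst hb2; omega
  have hb3 : b = 3 := by
    by_contra hne
    have : 4 * mb ≤ N := by nlinarith [show 4 ≤ b by omega]
    have : 4 * mc ≤ N := by nlinarith [show 4 ≤ c by omega]
    omega
  subst hb3
  have hc6 : c < 6 := by
    by_contra hne
    have : 6 * mc ≤ N := by nlinarith [show 6 ≤ c by omega]
    omega
  right
  interval_cases c <;> omega

private theorem triple_sorted [Finite H] {a b c : X}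
    (ha : stabilizer H a ≠ ⊥)
    (hab : Nat.card (stabilizer H a) ≤ Nat.card (stabilizer H b))
    (hbc : Nat.card (stabilizer H b) ≤ Nat.card (stabilizer H c))
    (h : Nat.card H + 2 = (stabilizer H a).index + (stabilizer H b).index + (stabilizer H c).index)
    (hcov : ∀ v, stabilizer H v ≠ ⊥ → v ∈ orbit H a ∨ v ∈ orbit H b ∨ v ∈ orbit H c) :
    (∃ z : X, (stabilizer H z).index = 2) ∨ Nonempty (H ≃* alternatingGroup (Fin 4)) ∨
      Nonempty (H ≃* Equiv.Perm (Fin 4)) ∨ Nonempty (H ≃* alternatingGroup (Fin 5)) := by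
  have hord : ∀ g : H, orderOf g ∣ Nat.card (stabilizer H a) ∨
      orderOf g ∣ Nat.card (stabilizer H b) ∨ orderOf g ∣ Nat.card (stabilizer H c) := by
    intro g
    by_cases hg : g = 1
    · simp [hg]
    obtain ⟨v, hv⟩ := M.fix g
    have h1 := orderOf_dvd_card_stabilizer hv
    rcases hcov v (ne_bot_iff_exists_ne_one.2 ⟨⟨g, hv⟩, fun h2 => hg (congrArg Subtype.val h2)⟩)
      with h | h | h <;> rw [card_stabilizer_of_mem_orbit h] at h1 <;> tauto
  rcases triple_numeric (card_mul_index _) (card_mul_index _) (card_mul_index _)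
    ((one_lt_card_iff_ne_bot _).2 ha) hab hbc h with h | ⟨h1, h2, ⟨h3, h4⟩ | ⟨h3, h4⟩ | ⟨h3, h4⟩⟩
  · exact Or.inl ⟨c, h⟩
  all_goals rw [h1, h2, h3] at hord
  · exact Or.inr (Or.inl (Recog.nonempty_mulEquiv_A4 h4 fun g hg => by
      have := hord g; rw [hg] at this; omega))
  · exact Or.inr (Or.inr (Or.inl (Recog.nonempty_mulEquiv_S4 h4 fun g hg => by
      have := hord g; rw [hg] at this; omega)))
  · exact Or.inr (Or.inr (Or.inr (Recog.nonempty_mulEquiv_A5 h4
      (fun g hg => by have := hord g; rw [hg] at this; omega)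
      (fun g hg => by have := hord g; rw [hg] at this; omega)
      (fun g hg => by have := hord g; rw [hg] at this; omega))))

/-- Classification when there is no element of order `p`: a fixed point (cyclic group), an orbit of
length two (dihedral group), `A₄`, `S₄` or `A₅`. -/
theorem classify_coprime [Finite H] (hp : ∀ x, M.uSub x = ⊥) :
    (∃ z : X, stabilizer H z = ⊤) ∨ (∃ z : X, (stabilizer H z).index = 2) ∨
      Nonempty (H ≃* alternatingGroup (Fin 4)) ∨
      Nonempty (H ≃* Equiv.Perm (Fin 4)) ∨ Nonempty (H ≃* alternatingGroup (Fin 5)) := by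
  obtain ⟨Y, hY⟩ := M.exists_support
  have hc := M.count Y hY
  simp only [hp, card_bot, ← Finset.card_eq_sum_ones] at hc
  have hinv : ∀ (h : H), ∀ y ∈ Y, h • y ∈ Y := fun h y hy =>
    (hY _).2 (stabilizer_smul_ne_bot ((hY y).1 hy) h)
  have hN : 0 < Nat.card H := Nat.card_pos
  rcases Y.eq_empty_or_nonempty with rfl | ⟨a, ha⟩
  · obtain ⟨z, -⟩ := M.fix 1
    have : Nat.card H = 1 := by simp at hc; omega
    have : Subsingleton H := (Nat.card_eq_one_iff_unique.1 this).1
    exact Or.inl ⟨z, Subsingleton.elim _ _⟩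
  have ha' := (hY a).1 ha
  obtain ⟨Y1, hY1, hinv1, hs1, hc1⟩ := peel Y hinv ha
  have hma := two_mul_index_le ha'
  have hma0 : (stabilizer H a).index ≠ 0 := index_ne_zero_of_finite
  rcases Y1.eq_empty_or_nonempty with rfl | ⟨b, hb⟩
  · simp only [Finset.sum_empty, Finset.card_empty, add_zero] at hs1 hc1; omega
  have hb' := (hY b).1 ((hY1 b).1 hb).1
  obtain ⟨Y2, hY2, hinv2, hs2, hc2⟩ := peel Y1 hinv1 hb
  have hmb := two_mul_index_le hb'
  have hmb0 : (stabilizer H b).index ≠ 0 := index_ne_zero_of_finite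
  rcases Y2.eq_empty_or_nonempty with rfl | ⟨c, hc⟩
  · simp only [Finset.sum_empty, Finset.card_empty, add_zero] at hs2 hc2
    exact Or.inl ⟨a, index_eq_one.1 (by omega)⟩
  have hc' := (hY c).1 ((hY1 c).1 ((hY2 c).1 hc).1).1
  obtain ⟨Y3, hY3, hinv3, hs3, hc3⟩ := peel Y2 hinv2 hc
  have hmc := two_mul_index_le hc'
  rcases Y3.eq_empty_or_nonempty with rfl | ⟨d, hd⟩
  · right
    simp only [Finset.sum_empty, Finset.card_empty, add_zero] at hs3 hc3
    have hcov : ∀ v, stabilizer H v ≠ ⊥ → v ∈ orbit H a ∨ v ∈ orbit H b ∨ v ∈ orbit H c := by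
      intro v hv
      have h0 := (hY v).2 hv
      have h1 := hY1 v
      have h2 := hY2 v
      have h3 := hY3 v
      simp only [Finset.notMem_empty] at h3
      tauto
    have hsum : Nat.card H + 2 =
        (stabilizer H a).index + (stabilizer H b).index + (stabilizer H c).index := by omega
    rcases le_total (Nat.card (stabilizer H a)) (Nat.card (stabilizer H b)) with h1 | h1 <;>
    rcases le_total (Nat.card (stabilizer H b)) (Nat.card (stabilizer H c)) with h2 | h2 <;>
    rcases le_total (Nat.card (stabilizer H a)) (Nat.card (stabilizer H c)) with h3 | h3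
    · exact M.triple_sorted ha' h1 h2 hsum hcov
    · exact M.triple_sorted ha' h1 h2 hsum hcov
    · exact M.triple_sorted ha' h3 h2 (by omega) (fun v hv => by have := hcov v hv; tauto)
    · exact M.triple_sorted hc' h3 h1 (by omega) (fun v hv => by have := hcov v hv; tauto)
    · exact M.triple_sorted hb' h1 h3 (by omega) (fun v hv => by have := hcov v hv; tauto)
    · exact M.triple_sorted hb' h2 h3 (by omega) (fun v hv => by have := hcov v hv; tauto)
    · exact M.triple_sorted hc' h2 h1 (by omega) (fun v hv => by have := hcov v hv; tauto)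
    · exact M.triple_sorted hc' h2 h1 (by omega) (fun v hv => by have := hcov v hv; tauto)
  · exfalso
    have hd' := (hY d).1 ((hY1 d).1 ((hY2 d).1 ((hY3 d).1 hd).1).1).1
    obtain ⟨Y4, hY4, -, hs4, hc4⟩ := peel Y3 hinv3 hd
    have hmd := two_mul_index_le hd'
    have := two_mul_card_le_sum_card_stabilizer (H := H) Y4 fun y hy =>
      (hY y).1 ((hY1 y).1 ((hY2 y).1 ((hY3 y).1 ((hY4 y).1 hy).1).1).1).1
    omega

theorem exists_omega [Finite H] {x : X} (hx : M.uSub x ≠ ⊥) :
    ∃ Ω : Finset X, (∀ y, y ∈ Ω ↔ M.uSub y ≠ ⊥) ∧ Ω.card = (stabilizer H x).index := by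
  have hf : (orbit H x).Finite := Set.finite_range _
  refine ⟨hf.toFinset, fun y => by simp [M.mem_orbit_iff hx], ?_⟩
  rw [index_stabilizer, Set.ncard_eq_toFinset_card _ hf]

/-- If `p` divides `|H|` and `H` fixes no point with nontrivial unipotent radical, then the points
with nontrivial stabiliser of order prime to `p` form exactly one orbit, of known length. -/
theorem exists_nonsplit [Finite H] {x : X} (hx : M.uSub x ≠ ⊥) (hs : stabilizer H x ≠ ⊤) :
    ∃ z : X, stabilizer H z ≠ ⊥ ∧ M.uSub z = ⊥ ∧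
      (∀ w, stabilizer H w ≠ ⊥ → M.uSub w = ⊥ → w ∈ orbit H z) ∧
      (stabilizer H x).index * Nat.card (M.uSub x) + 2 =
        2 * (stabilizer H x).index + (stabilizer H z).index := by
  classical
  obtain ⟨Y, hY⟩ := M.exists_support
  have hc := M.count Y hY
  have hinv : ∀ (h : H), ∀ y ∈ Y, h • y ∈ Y := fun h y hy =>
    (hY _).2 (stabilizer_smul_ne_bot ((hY y).1 hy) h)
  have hxY : x ∈ Y := (hY x).2 fun h => hx (eq_bot_iff.2 (h ▸ M.uSub_le x))
  obtain ⟨Y1, hY1, hinv1, hs1, hc1⟩ := peel Y hinv hxY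
  have hY1' : ∀ y, y ∈ Y1 ↔ stabilizer H y ≠ ⊥ ∧ M.uSub y = ⊥ := fun y => by
    rw [hY1, hY, M.mem_orbit_iff hx, not_not]
  have hu : ∑ y ∈ Y, Nat.card (M.uSub y) =
      (stabilizer H x).index * Nat.card (M.uSub x) + Y1.card := by
    have hsub : Y1 ⊆ Y := fun y hy => ((hY1 y).1 hy).1
    rw [← Finset.sum_sdiff hsub, Finset.sum_congr rfl (g := fun _ => Nat.card (M.uSub x)),
      Finset.sum_congr (s₁ := Y1) rfl (g := fun _ => 1), ← Finset.card_eq_sum_ones,
      Finset.sum_const, Finset.card_sdiff_of_subset hsub, smul_eq_mul]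
    · congr 2; omega
    · intro y hy
      rw [((hY1' y).1 hy).2, card_bot]
    · intro y hy
      rw [Finset.mem_sdiff, hY1] at hy
      obtain ⟨g, rfl⟩ : y ∈ orbit H x := by tauto
      exact M.card_uSub_smul x g
  have hq : 2 ≤ Nat.card (M.uSub x) := (one_lt_card_iff_ne_bot _).2 hx
  have hs0 : (stabilizer H x).index ≠ 0 := index_ne_zero_of_finite
  have hs1' : (stabilizer H x).index ≠ 1 := fun h => hs (index_eq_one.1 h)
  have hN : (stabilizer H x).index * Nat.card (M.uSub x) ≤ Nat.card H := by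
    rw [← (stabilizer H x).index_mul_card]
    exact Nat.mul_le_mul_left _ (card_le_of_le (M.uSub_le x))
  have hsq : 2 * (stabilizer H x).index ≤ (stabilizer H x).index * Nat.card (M.uSub x) := by
    rw [mul_comm]; exact Nat.mul_le_mul_left _ hq
  rcases Y1.eq_empty_or_nonempty with rfl | ⟨z, hz⟩
  · simp only [Finset.sum_empty, Finset.card_empty, add_zero] at hs1 hc1 hu; omega
  obtain ⟨hz1, hz2⟩ := (hY1' z).1 hz
  obtain ⟨Y2, hY2, hinv2, hs2, hc2⟩ := peel Y1 hinv1 hz
  have hmz := two_mul_index_le hz1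
  rcases Y2.eq_empty_or_nonempty with rfl | ⟨w, hw⟩
  · refine ⟨z, hz1, hz2, fun w h1 h2 => ?_, ?_⟩
    · have := hY2 w
      have := (hY1' w).2 ⟨h1, h2⟩
      simp only [Finset.notMem_empty] at *
      tauto
    · simp only [Finset.sum_empty, Finset.card_empty, add_zero] at hs2 hc2; omega
  · exfalso
    obtain ⟨Y3, hY3, -, hs3, hc3⟩ := peel Y2 hinv2 hw
    have hmw := two_mul_index_le ((hY1' w).1 ((hY2 w).1 hw).1).1
    have := two_mul_card_le_sum_card_stabilizer (H := H) Y3 fun y hy =>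
      ((hY1' y).1 ((hY2 y).1 ((hY3 y).1 hy).1).1).1
    omega

/-- A cyclic group fixing `z`, one of whose nontrivial elements fixes `w`, fixes `w`. -/
theorem le_stabilizer_of_isCyclic {S : Subgroup H} [IsCyclic S] {z w : X}
    (hS : S ≤ stabilizer H z) {g : H} (hg : g ∈ S) (hg1 : g ≠ 1) (hw : g • w = w) :
    S ≤ stabilizer H w := by
  by_cases hzw : w = z
  · rw [hzw]; exact hS
  intro k hk
  obtain ⟨-, hcomm⟩ : True ∧ k * g = g * k := ⟨trivial, congrArg Subtype.val
    ((IsCyclic.isMulCommutative (α := S)).is_comm.comm (⟨k, hk⟩ : S) ⟨g, hg⟩)⟩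
  by_contra hne
  refine hg1 (M.three g z w (k • w) (Ne.symm hzw) ?_ (Ne.symm hne) (hS hg) hw
    (by rw [← mul_smul, ← hcomm, mul_smul, hw]))
  intro h
  have hkz : k • z = z := hS hk
  rw [← hkz] at h
  exact hzw (MulAction.injective k h).symm

/-- The stabiliser of a point with trivial unipotent radical acts freely on the points with
nontrivial unipotent radical. -/
theorem eq_one_of_nonsplit [Finite H] {x : X} (hx : M.uSub x ≠ ⊥) (hs : stabilizer H x ≠ ⊤)
    {z w : X} (hz : M.uSub z = ⊥) (hw : M.uSub w ≠ ⊥) {g : H} (hgz : g • z = z)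
    (hgw : g • w = w) : g = 1 := by
  by_contra hg1
  obtain ⟨z0, -, -, horb, heq⟩ := M.exists_nonsplit hx hs
  have hz1 : stabilizer H z ≠ ⊥ :=
    ne_bot_iff_exists_ne_one.2 ⟨⟨g, hgz⟩, fun h2 => hg1 (congrArg Subtype.val h2)⟩
  rw [← index_stabilizer_of_mem_orbit (horb z hz1 hz),
    ← index_stabilizer_of_mem_orbit ((M.mem_orbit_iff hx).2 hw)] at heq
  obtain ⟨k, rfl⟩ := M.exists_smul_eq hx hw
  rw [← M.card_uSub_smul x k] at heq
  have hs' : (stabilizer H (k • x)).index ≠ 1 := by
    rw [index_stabilizer_of_mem_orbit (mem_orbit x k)]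
    exact fun h => hs (index_eq_one.1 h)
  generalize k • x = w at *
  have := M.isCyclic_stabilizer hz
  have hle := M.le_stabilizer_of_isCyclic (S := stabilizer H z) le_rfl hgz hg1 hgw
  have h1 := M.card_le_relIndex hle fun k hk hp => by
    have : k ∈ M.uSub z := ⟨hk, hp⟩
    rwa [hz, mem_bot] at this
  have h2 := (stabilizer H z).card_mul_index
  have h3 := (stabilizer H w).card_mul_index
  rw [M.card_stabilizer w] at h3
  have hs0 : (stabilizer H w).index ≠ 0 := index_ne_zero_of_finite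
  have hc0 : (M.uSub w).relIndex (stabilizer H w) ≠ 0 := index_ne_zero_of_finite
  have h4 : (stabilizer H w).index * Nat.card (M.uSub w) ≤ (stabilizer H z).index := by
    refine Nat.le_of_mul_le_mul_left ?_ (Nat.pos_of_ne_zero hc0)
    calc _ = Nat.card H := by rw [← h3]; ring
      _ ≤ _ := by rw [← h2]; exact Nat.mul_le_mul_right _ h1
  omega

theorem card_uSub_dvd [Finite H] {x : X} (hx : M.uSub x ≠ ⊥) :
    Nat.card (M.uSub x) ∣ (stabilizer H x).index - 1 := by
  classical
  obtain ⟨Ω, hΩ, hc⟩ := M.exists_omega hx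
  rw [← hc, ← Finset.card_erase_of_mem ((hΩ x).2 hx)]
  refine card_dvd_of_free _ _ (fun h hh y hy => ?_) (fun h hh y hy hf => ?_)
  · rw [Finset.mem_erase, hΩ] at hy ⊢
    refine ⟨fun h' => hy.1 ?_, by rw [Ne, uSub_smul_eq_bot_iff]; exact hy.2⟩
    rw [← hh.1] at h'
    exact MulAction.injective h h'
  · by_contra h1
    exact (Finset.mem_erase.1 hy).1 (M.eq_of_mem_uSub hh h1 hf)

omit M in
private theorem p_numeric {N s q c n m : ℕ} (hN : q * c * s = N) (hn : n * m = N) (hq : 2 ≤ q)
    (hc : c < q) (hs : s ≠ 1) (hs0 : s ≠ 0) (hns : n ∣ s) (hqs : q ∣ s - 1)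
    (h : s * q + 2 = 2 * s + m) :
    (s = q + 1 ∧ (c + 1 = q ∨ 2 * c + 1 = q)) ∨ (q = 2 ∧ m = 2) ∨
      (q = 3 ∧ c = 2 ∧ n = 5 ∧ N = 60) := by
  obtain ⟨u, rfl⟩ := hns
  obtain ⟨w, hw⟩ := hqs
  obtain ⟨r, rfl⟩ : ∃ r, q = r + 2 := ⟨q - 2, by omega⟩
  have hn0 : 0 < n := Nat.pos_of_ne_zero (by rintro rfl; simp at hs0)
  have hm : m = (r + 2) * c * u := by
    apply Nat.eq_of_mul_eq_mul_left hn0
    rw [hn, ← hN]; ring
  have hm2 : m = n * u * r + 2 := by nlinarith
  have hu : u ∣ 2 := by
    have h1 : u ∣ n * u * r + 2 := by rw [← hm2, hm]; exact dvd_mul_left _ _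
    exact (Nat.dvd_add_right (Dvd.intro (n * r) (by ring))).1 h1
  have hs2 : n * u = (r + 2) * w + 1 := by omega
  have hw0 : w ≠ 0 := by rintro rfl; omega
  have key : c * u = w * r + 1 := by
    apply Nat.eq_of_mul_eq_mul_left (show 0 < r + 2 by omega)
    rw [hs2] at hm2
    nlinarith
  rcases (Nat.dvd_prime Nat.prime_two).1 hu with rfl | rfl
  · by_cases hr : r = 0
    · subst hr; right; left; omega
    · left
      have : w = 1 := by
        by_contra hne
        have : 2 * r ≤ w * r := Nat.mul_le_mul_right _ (by omega)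
        omega
      subst this
      omega
  · by_cases hw1 : w = 1
    · subst hw1; left; omega
    · right; right
      have h2 : 2 * r ≤ w * r := Nat.mul_le_mul_right _ (by omega)
      have hc' : c = r + 1 := by omega
      have h3 : (w - 2) * r = 1 := by
        obtain ⟨w', rfl⟩ : ∃ w', w = w' + 2 := ⟨w - 2, by omega⟩
        simp only [Nat.add_sub_cancel]
        nlinarith
      have h4 := Nat.eq_one_of_mul_eq_one_left h3
      have h5 := Nat.eq_one_of_mul_eq_one_right h3
      subst h4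
      have : w = 3 := by omega
      subst this
      have : n = 5 := by omega
      subst this
      omega

/-- Classification when `p` divides the order and no point is fixed. -/
theorem classify_p [Finite H] {x : X} (hx : M.uSub x ≠ ⊥) (hs : stabilizer H x ≠ ⊤) :
    ((stabilizer H x).index = Nat.card (M.uSub x) + 1 ∧
      ((M.uSub x).relIndex (stabilizer H x) + 1 = Nat.card (M.uSub x) ∨
        2 * (M.uSub x).relIndex (stabilizer H x) + 1 = Nat.card (M.uSub x))) ∨
    (p = 2 ∧ ∃ z : X, M.uSub z = ⊥ ∧ (stabilizer H z).index = 2) ∨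
    (p = 3 ∧ Nonempty (H ≃* alternatingGroup (Fin 5))) := by
  obtain ⟨z, hz1, hz2, horb, heq⟩ := M.exists_nonsplit hx hs
  obtain ⟨Ω, hΩ, hc⟩ := M.exists_omega hx
  have hns : Nat.card (stabilizer H z) ∣ (stabilizer H x).index := by
    rw [← hc]
    refine card_dvd_of_free _ _ (fun h _ y hy => ?_) (fun h hh y hy hf => ?_)
    · rw [hΩ] at hy ⊢
      rwa [Ne, uSub_smul_eq_bot_iff]
    · exact M.eq_one_of_nonsplit hx hs hz2 ((hΩ y).1 hy) hh hf
  have h3 := (stabilizer H x).card_mul_index
  rw [M.card_stabilizer x] at h3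
  have hpq := M.dvd_card_uSub hx
  rcases p_numeric h3 (stabilizer H z).card_mul_index ((one_lt_card_iff_ne_bot _).2 hx)
    (M.relIndex_lt hx) (fun h => hs (index_eq_one.1 h))
    index_ne_zero_of_finite hns (M.card_uSub_dvd hx) heq with h | ⟨h1, h2⟩ | ⟨h1, h2, h4, h5⟩
  · exact Or.inl h
  · rw [h1] at hpq
    exact Or.inr (Or.inl ⟨(Nat.prime_dvd_prime_iff_eq M.prime Nat.prime_two).1 hpq, z, hz2, h2⟩)
  · rw [h1] at hpq
    have hp3 := (Nat.prime_dvd_prime_iff_eq M.prime Nat.prime_three).1 hpq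
    have h3' : ∀ g : H, 3 ∣ orderOf g → orderOf g ∣ 3 := fun g hg => by
      by_contra hne
      refine M.not_dvd_orderOf (h := g) (fun h => hne ?_) (hp3 ▸ hg)
      rw [← hp3]; exact orderOf_dvd_of_pow_eq_one h
    refine Or.inr (Or.inr ⟨hp3, Recog.nonempty_mulEquiv_A5 h5
      (fun g hg => by have := h3' g; rw [hg] at this; omega) (fun g hg => ?_)
      (fun g hg => by have := h3' g; rw [hg] at this; omega)⟩)
    obtain ⟨v, hv⟩ := M.fix g
    have hd := orderOf_dvd_card_stabilizer hv
    have hg1 : g ≠ 1 := by rintro rfl; simp at hg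
    by_cases hu : M.uSub v = ⊥
    · rw [card_stabilizer_of_mem_orbit (horb v (ne_bot_iff_exists_ne_one.2
        ⟨⟨g, hv⟩, fun h2 => hg1 (congrArg Subtype.val h2)⟩) hu), h4, hg] at hd
      omega
    · rw [card_stabilizer_of_mem_orbit ((M.mem_orbit_iff hx).2 hu), M.card_stabilizer x, h1, h2,
        hg] at hd
      omega

end Moebius

end CL.PSL2
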