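import Cfsg.Agent.Base
import Cfsg.Agent.PSL2.Card
import Cfsg.Agent.PSL2.Classify

/-!
Base change for projective lines, the action of `PGL₂(F)` and `PSL₂(F)` on the projective line over
the algebraic closure, translations and diagonal elements.
-/

set_option autoImplicit false

namespace CL.PSL2

open MulAction Subgroup Matrix
open scoped MatrixGroups

section Emb

variable {k F : Type*} [Field k] [Field F]

/-- Coordinatewise application of a field embedding, as a semilinear map. -/
def vecMap (f : k →+* F) : (Fin 2 → k) →ₛₗ[f] (Fin 2 → F) where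
  toFun v := f ∘ v
  map_add' v w := by ext i; simp
  map_smul' a v := by ext i; simp

theorem vecMap_injective (f : k →+* F) : Function.Injective (vecMap f) :=
  fun _ _ h => funext fun i => f.injective (congrFun h i)

/-- The map of projective lines induced by a field embedding. -/
def emb (f : k →+* F) : P1 k → P1 F := Projectivization.map (vecMap f) (vecMap_injective f)

theorem emb_mk (f : k →+* F) (v : Fin 2 → k) (hv : v ≠ 0) :
    emb f (Projectivization.mk k v hv) = Projectivization.mk F (f ∘ v)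
      (fun h => hv (vecMap_injective f (h.trans (map_zero (vecMap f)).symm))) := rfl

theorem emb_inf (f : k →+* F) : emb f inf = inf := by
  simp [inf, emb_mk, mk_eq_mk_iff_cross]

theorem emb_pt (f : k →+* F) (a : k) : emb f (pt a) = pt (f a) := by
  simp [pt, emb_mk, mk_eq_mk_iff_cross]

theorem emb_injective (f : k →+* F) : Function.Injective (emb f) := by
  intro x y h
  rcases eq_inf_or_eq_pt x with rfl | ⟨a, rfl⟩ <;> rcases eq_inf_or_eq_pt y with rfl | ⟨b, rfl⟩
  · rfl
  · rw [emb_inf, emb_pt] at h; exact absurd h.symm (pt_ne_inf _)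
  · rw [emb_inf, emb_pt] at h; exact absurd h (pt_ne_inf _)
  · rw [emb_pt, emb_pt, pt_inj] at h; rw [f.injective h]

theorem emb_smul (f : k →+* F) (g : PGL(2, k)) (x : P1 k) :
    emb f (g • x) = ProjGenLinGroup.map f g • emb f x := by
  induction g using ProjGenLinGroup.induction_on with
  | mk g =>
  induction x using Projectivization.ind with
  | h v hv => simp [emb_mk, mk_eq_mk_iff_cross, mul_comm]

theorem map_injective (f : k →+* F) :
    Function.Injective (ProjGenLinGroup.map f : PGL(2, k) →* PGL(2, F)) := by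
  rw [injective_iff_map_eq_one]
  intro g hg
  induction g using ProjGenLinGroup.induction_on with
  | mk g =>
    rw [ProjGenLinGroup.map_mk, mk_eq_one_iff] at hg
    rw [mk_eq_one_iff]
    simpa [f.injective.eq_iff] using hg

end Emb

section Elements

variable {F : Type*} [Field F]

/-- The translation `z ↦ z + a`. -/
def tau (a : F) : PGL(2, F) := .mk (GeneralLinearGroup.upperRightHom a)

/-- The homothety `z ↦ a z`. -/
noncomputable def homo (a : Fˣ) : PGL(2, F) :=
  .mk (GeneralLinearGroup.mkOfDetNeZero !![(a : F), 0; 0, 1] (by simp))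

theorem tau_add (a b : F) : tau (a + b) = tau a * tau b := by
  rw [tau, AddChar.map_add_eq_mul, map_mul]; rfl

theorem tau_zero : tau (0 : F) = 1 := by simp [tau]

theorem tau_neg (a : F) : tau (-a) = (tau a)⁻¹ := by
  rw [eq_inv_iff_mul_eq_one, ← tau_add, neg_add_cancel, tau_zero]

theorem tau_smul_inf (a : F) : tau a • (inf : P1 F) = inf := by
  simp [tau, smul_inf_eq_inf_iff]

theorem tau_smul_pt (a b : F) : tau a • pt b = pt (b + a) := by
  simp [tau, smul_pt_eq_pt_iff]

theorem tau_injective : Function.Injective (tau : F → PGL(2, F)) := fun a b h => by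
  have := tau_smul_pt a 0
  rw [h, tau_smul_pt, pt_inj] at this
  simpa using this.symm

theorem tau_eq_one_iff {a : F} : tau a = 1 ↔ a = 0 := by
  rw [← tau_zero, tau_injective.eq_iff]

theorem tau_pow_char (p : ℕ) [Fact p.Prime] [CharP F p] (a : F) : tau a ^ p = 1 := by
  rw [tau, mk_pow_char_eq_one_iff p (by simp)]
  simp

theorem homo_smul_inf (a : Fˣ) : homo a • (inf : P1 F) = inf := by
  simp [homo, smul_inf_eq_inf_iff]

theorem homo_smul_pt (a : Fˣ) (b : F) : homo a • pt b = pt (a * b) := by
  simp [homo, smul_pt_eq_pt_iff]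

theorem eq_of_smul_eq {g h : PGL(2, F)} (h1 : g • (inf : P1 F) = h • inf)
    (h2 : g • pt (0 : F) = h • pt 0) (h3 : g • pt (1 : F) = h • pt 1) : g = h := by
  rw [← inv_smul_eq_iff, ← mul_smul] at h1 h2 h3
  exact (inv_mul_eq_one.1 (eq_one_of_three_fixed _ inf (pt 0) (pt 1) (pt_ne_inf _).symm
    (pt_ne_inf _).symm (by rw [Ne, pt_inj]; exact zero_ne_one) h1 h2 h3)).symm

theorem homo_mul (a b : Fˣ) : homo (a * b) = homo a * homo b :=
  eq_of_smul_eq (by simp [mul_smul, homo_smul_inf]) (by simp [mul_smul, homo_smul_pt])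
    (by simp [mul_smul, homo_smul_pt])

theorem homo_one : homo (1 : Fˣ) = 1 :=
  eq_of_smul_eq (by simp [homo_smul_inf]) (by simp [homo_smul_pt]) (by simp [homo_smul_pt])

/-- An element fixing `∞` acts as an affine map. -/
theorem exists_eq_tau_mul_homo {g : PGL(2, F)} (hg : g • (inf : P1 F) = inf) :
    ∃ (b : F) (a : Fˣ), g = tau b * homo a := by
  induction g using ProjGenLinGroup.induction_on with
  | mk g =>
    rw [smul_inf_eq_inf_iff] at hg
    obtain ⟨h0, h1⟩ := diag_ne_zero hg
    refine ⟨g 0 1 / g 1 1, Units.mk0 _ (div_ne_zero h0 h1), eq_of_smul_eq ?_ ?_ ?_⟩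
    · rw [mul_smul, homo_smul_inf, tau_smul_inf, smul_inf_eq_inf_iff, hg]
    · rw [mul_smul, homo_smul_pt, tau_smul_pt, smul_pt_eq_pt_iff, hg]
      simp only [Units.val_mk0]
      field_simp
      ring
    · rw [mul_smul, homo_smul_pt, tau_smul_pt, smul_pt_eq_pt_iff, hg]
      simp only [Units.val_mk0]
      field_simp
      ring

theorem homo_mul_tau (a : Fˣ) (b : F) : homo a * tau b = tau (a * b) * homo a :=
  eq_of_smul_eq (by simp [mul_smul, homo_smul_inf, tau_smul_inf])
    (by simp [mul_smul, homo_smul_pt, tau_smul_pt])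
    (by simp [mul_smul, homo_smul_pt, tau_smul_pt, mul_add])

theorem affine_conj_tau (a : Fˣ) (b c : F) :
    tau b * homo a * tau c * (tau b * homo a)⁻¹ = tau (a * c) := by
  rw [mul_inv_eq_iff_eq_mul, mul_assoc, homo_mul_tau, ← mul_assoc, ← mul_assoc, ← tau_add,
    ← tau_add, add_comm]

theorem affine_pow_char_eq_one_iff (p : ℕ) [Fact p.Prime] [CharP F p] (a : Fˣ) (b : F) :
    (tau b * homo a) ^ p = 1 ↔ a = 1 := by
  rw [tau, homo, ← map_mul, mk_pow_char_eq_one_iff p (by simp [Matrix.mul_apply])]
  simp [Matrix.mul_apply]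

theorem exists_eq_tau (p : ℕ) [Fact p.Prime] [CharP F p] {g : PGL(2, F)}
    (hg : g • (inf : P1 F) = inf) (hp : g ^ p = 1) : ∃ b : F, g = tau b := by
  obtain ⟨b, a, rfl⟩ := exists_eq_tau_mul_homo hg
  rw [affine_pow_char_eq_one_iff] at hp
  exact ⟨b, by rw [hp, homo_one, mul_one]⟩

/-- `PGL₂` is triply transitive on the projective line. -/
theorem exists_smul_three {x y z : P1 F} (hxy : x ≠ y) (hxz : x ≠ z) (hyz : y ≠ z) :
    ∃ γ : PGL(2, F), γ • (inf : P1 F) = x ∧ γ • pt 0 = y ∧ γ • pt 1 = z := by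
  obtain ⟨γ, rfl, rfl⟩ := exists_smul_inf_pt hxy
  obtain ⟨z, rfl⟩ := MulAction.surjective γ z
  rcases eq_inf_or_eq_pt z with rfl | ⟨a, rfl⟩
  · exact absurd rfl hxz
  have ha : a ≠ 0 := by rintro rfl; exact hyz rfl
  exact ⟨γ * homo (Units.mk0 a ha), by simp [mul_smul, homo_smul_inf],
    by simp [mul_smul, homo_smul_pt], by simp [mul_smul, homo_smul_pt]⟩

theorem mem_range_map_of_smul {k : Type*} [Field k] (f : k →+* F) {g : PGL(2, F)}
    (h1 : g • (inf : P1 F) ∈ Set.range (emb f)) (h2 : g • pt (0 : F) ∈ Set.range (emb f))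
    (h3 : g • pt (1 : F) ∈ Set.range (emb f)) : g ∈ (ProjGenLinGroup.map f).range := by
  obtain ⟨x, hx⟩ := h1
  obtain ⟨y, hy⟩ := h2
  obtain ⟨z, hz⟩ := h3
  obtain ⟨γ, rfl, rfl, rfl⟩ := exists_smul_three (x := x) (y := y) (z := z)
    (by rintro rfl; exact pt_ne_inf _ (MulAction.injective g (hy.symm.trans hx)))
    (by rintro rfl; exact pt_ne_inf _ (MulAction.injective g (hz.symm.trans hx)))
    (by rintro rfl; exact zero_ne_one (pt_inj.1 (MulAction.injective g (hy.symm.trans hz))))
  rw [emb_smul, emb_inf] at hx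
  rw [emb_smul, emb_pt, map_zero] at hy
  rw [emb_smul, emb_pt, map_one] at hz
  exact ⟨γ, eq_of_smul_eq hx hy hz⟩

/-- An element of order dividing the characteristic fixes a rational point. -/
theorem exists_fixed_of_pow_char (p : ℕ) [Fact p.Prime] [CharP F p] [Finite F] {g : PGL(2, F)}
    (hg : g ^ p = 1) : ∃ x : P1 F, g • x = x := by
  induction g using ProjGenLinGroup.induction_on with
  | mk g =>
    by_cases hc : g 1 0 = 0
    · exact ⟨inf, (smul_inf_eq_inf_iff g).2 hc⟩
    rw [← map_pow, mk_eq_one_iff', Units.val_pow_eq_pow_val] at hg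
    obtain ⟨c, hg⟩ := hg
    obtain ⟨e, rfl⟩ := surjective_frobenius F p c
    let ι := algebraMap F (AlgebraicClosure F)
    obtain ⟨l, m, h1, h2⟩ := exists_eigenvalues ((g : Matrix (Fin 2) (Fin 2) F).map ι).trace
      ((g : Matrix (Fin 2) (Fin 2) F).map ι).det
    have hg' : ((g : Matrix (Fin 2) (Fin 2) F).map ι) ^ p = (ι e) ^ p • 1 := by
      rw [← Matrix.map_pow, hg, frobenius_def]
      ext i j
      fin_cases i <;> fin_cases j <;> simp
    have hl := frobenius_inj _ p (pow_eq_of_pow_eq_smul_one _ h1 h2 hg')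
    have hm := frobenius_inj _ p
      (pow_eq_of_pow_eq_smul_one _ ((add_comm _ _).trans h1) ((mul_comm _ _).trans h2) hg')
    rw [hl, hm] at h1 h2
    simp only [trace_fin_two, det_fin_two, map_apply, ← map_add, ← map_mul, ← map_sub,
      ι.injective.eq_iff] at h1 h2
    refine ⟨pt ((e - g 1 1) / g 1 0), (smul_pt_eq_pt_iff _ _ _).2 ?_⟩
    field_simp
    linear_combination h2 - e * h1

end Elements

section Bar

/-- The projective line over the algebraic closure of `F`. -/
def Pbar (F : Type*) [Field F] : Type _ := P1 (AlgebraicClosure F)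

variable {F : Type*} [Field F]

noncomputable instance instActPGLPbar : MulAction PGL(2, F) (Pbar F) :=
  MulAction.compHom (P1 (AlgebraicClosure F))
    (ProjGenLinGroup.map (algebraMap F (AlgebraicClosure F)))

noncomputable instance instActPSLPbar : MulAction PSL(2, F) (Pbar F) :=
  MulAction.compHom (Pbar F) ProjectiveSpecialLinearGroup.toPGL

theorem toPGL_smul (g : PSL(2, F)) (x : Pbar F) :
    ProjectiveSpecialLinearGroup.toPGL g • x = g • x := rfl

/-- Rational points. -/
noncomputable def rat (x : P1 F) : Pbar F := emb (algebraMap F _) x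

theorem rat_injective : Function.Injective (rat : P1 F → Pbar F) := emb_injective _

theorem rat_smul (g : PGL(2, F)) (x : P1 F) : rat (g • x) = g • rat x := emb_smul _ g x

theorem smul_rat_eq_iff (g : PGL(2, F)) (x y : P1 F) : g • rat x = rat y ↔ g • x = y := by
  rw [← rat_smul, rat_injective.eq_iff]

theorem moebius_PGLbar (p : ℕ) [Fact p.Prime] [CharP F p] :
    Moebius p (AlgebraicClosure F) PGL(2, F) (Pbar F) :=
  @Moebius.of_injective p (AlgebraicClosure F) _ PGL(2, AlgebraicClosure F)
    (P1 (AlgebraicClosure F)) _ _ (moebius_PGL p) PGL(2, F) _ instActPGLPbar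
    (ProjGenLinGroup.map (algebraMap F _)) (map_injective _) fun _ _ => rfl

theorem moebius_PSLbar (p : ℕ) [Fact p.Prime] [CharP F p] :
    Moebius p (AlgebraicClosure F) PSL(2, F) (Pbar F) :=
  (moebius_PGLbar p).of_injective ProjectiveSpecialLinearGroup.toPGL
    ProjectiveSpecialLinearGroup.toPGL_injective fun _ _ => rfl

end Bar

end CL.PSL2
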