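import Cfsg.Agent.Base
import Cfsg.Agent.PSL2.Bar

/-!
Dickson's theorem for subgroups of `PGL₂(F)`, `F` finite, in the strong (conjugacy) form.
-/

set_option autoImplicit false

namespace CL.PSL2

open MulAction Subgroup Matrix
open scoped MatrixGroups

theorem Moebius.not_dvd_card_stabilizer {p : ℕ} {K : Type*} [Field K] {H X : Type*} [Group H]
    [MulAction H X] [Finite H] (M : Moebius p K H X) {z : X} (hz : M.uSub z = ⊥) :
    ¬ p ∣ Nat.card (stabilizer H z) := by
  intro h
  have := Fact.mk M.prime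
  obtain ⟨g, hg⟩ := exists_prime_orderOf_dvd_card' p h
  have h1 : (g : H) ∈ M.uSub z := ⟨g.2, by rw [← hg, ← orderOf_coe, pow_orderOf_eq_one]⟩
  rw [hz, mem_bot] at h1
  rw [← orderOf_coe, h1, orderOf_one] at hg
  exact M.prime.one_lt.ne hg

theorem Moebius.exists_dihedral {p : ℕ} {K : Type*} [Field K] {H X : Type*} [Group H]
    [MulAction H X] [Finite H] (M : Moebius p K H X) {z : X} (hz : M.uSub z = ⊥)
    (hi : (stabilizer H z).index = 2) : ∃ n, ¬ p ∣ n ∧ Nonempty (H ≃* DihedralGroup n) :=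
  ⟨_, M.not_dvd_card_stabilizer hz, M.dihedral_of_index_two (M.isCyclic_stabilizer hz) hi⟩

variable {F : Type*} [Field F]

/-- The image of `PGL₂(k)` in `PGL₂(F)` for a subfield `k`. -/
def subPGL (k : Subfield F) : Subgroup PGL(2, F) := (ProjGenLinGroup.map k.subtype).range

/-- The image of `PSL₂(k)` in `PGL₂(F)` for a subfield `k`. -/
def subPSL (k : Subfield F) : Subgroup PGL(2, F) :=
  ((ProjGenLinGroup.map k.subtype).comp ProjectiveSpecialLinearGroup.toPGL).range

theorem subPSL_le_subPGL (k : Subfield F) : subPSL k ≤ subPGL k := by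
  rintro _ ⟨g, rfl⟩
  exact ⟨_, rfl⟩

/-- `subPGL k ≅ PGL₂(k)`. -/
noncomputable def subPGLEquiv (k : Subfield F) : PGL(2, k) ≃* subPGL k :=
  MonoidHom.ofInjective (map_injective k.subtype)

/-- `subPSL k ≅ PSL₂(k)`. -/
noncomputable def subPSLEquiv (k : Subfield F) : PSL(2, k) ≃* subPSL k :=
  MonoidHom.ofInjective (f := (ProjGenLinGroup.map k.subtype).comp
    ProjectiveSpecialLinearGroup.toPGL)
    ((map_injective k.subtype).comp ProjectiveSpecialLinearGroup.toPGL_injective)

theorem transvection_pow_char (p : ℕ) [CharP F p] {i j : Fin 2} (hij : i ≠ j) (c : F) :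
    Matrix.SpecialLinearGroup.transvection hij c ^ p = 1 := by
  have : ∀ n : ℕ, Matrix.SpecialLinearGroup.transvection hij c ^ n =
      Matrix.SpecialLinearGroup.transvection hij (n * c) := by
    intro n
    induction n with
    | zero => simp [Matrix.SpecialLinearGroup.transvection_coeff_zero]
    | succ n ih =>
      rw [pow_succ, ih, ← Matrix.SpecialLinearGroup.transvection_add, Nat.cast_succ, add_mul,
        one_mul]
  rw [this, CharP.cast_eq_zero, zero_mul, Matrix.SpecialLinearGroup.transvection_coeff_zero]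

theorem mem_of_index_two_of_odd {G : Type*} [Group G] {S : Subgroup G} (hS : S.index = 2) {g : G}
    {n : ℕ} (hn : Odd n) (hg : g ^ n = 1) : g ∈ S := by
  obtain ⟨m, rfl⟩ := hn
  have : g = g ^ (m + 1) * g ^ (m + 1) := by
    rw [← pow_add, show m + 1 + (m + 1) = 2 * m + 1 + 1 by ring, pow_succ, hg, one_mul]
  rw [this]
  exact mul_self_mem_of_index_two hS _

theorem range_toPGL_le_of_index_two (p : ℕ) [CharP F p] (hp : Odd p) {S : Subgroup PGL(2, F)}
    (hS : S.index = 2) : (ProjectiveSpecialLinearGroup.toPGL : PSL(2, F) →* _).range ≤ S := by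
  rintro _ ⟨g, rfl⟩
  induction g using QuotientGroup.induction_on with
  | H g =>
    refine Matrix.SL2.transvection_induction
      (fun g => ProjectiveSpecialLinearGroup.toPGL (g : PSL(2, F)) ∈ S) (fun i j hij a => ?_)
      (fun a b ha hb => ?_) g
    · refine mem_of_index_two_of_odd hS hp ?_
      rw [← map_pow, ← QuotientGroup.mk_pow, transvection_pow_char, QuotientGroup.mk_one, map_one]
    · rw [QuotientGroup.mk_mul, map_mul]
      exact S.mul_mem ha hb

section Normalised

variable (H : Subgroup PGL(2, F))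

/-- The translations contained in `H`. -/
def transl : AddSubgroup F where
  carrier := {a | tau a ∈ H}
  zero_mem' := by simp [tau_zero]
  add_mem' ha hb := by simpa [tau_add] using H.mul_mem ha hb
  neg_mem' ha := by simpa [tau_neg] using ha

/-- The multiplier field of an additive subgroup of a finite field. -/
def multField [Finite F] (A : AddSubgroup F) : Subfield F where
  carrier := {m | ∀ a ∈ A, m * a ∈ A}
  mul_mem' hm hn a ha := by rw [mul_assoc]; exact hm _ (hn a ha)
  one_mem' a ha := by rwa [one_mul]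
  add_mem' hm hn a ha := by rw [add_mul]; exact A.add_mem (hm a ha) (hn a ha)
  zero_mem' a _ := by rw [zero_mul]; exact A.zero_mem
  neg_mem' hm a ha := by rw [neg_mul]; exact A.neg_mem (hm a ha)
  inv_mem' m hm := by
    have hpow : ∀ n : ℕ, ∀ a ∈ A, m ^ n * a ∈ A := by
      intro n
      induction n with
      | zero => simp
      | succ n ih => intro a ha; rw [pow_succ, mul_assoc]; exact ih _ (hm a ha)
    by_cases h0 : m = 0
    · intro a _; simp [h0]
    have := Fintype.ofFinite F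
    have h1 := FiniteField.pow_card_sub_one_eq_one m h0
    have h2 : 1 < Fintype.card F := Fintype.one_lt_card
    have h3 : m⁻¹ = m ^ (Fintype.card F - 2) := by
      rw [eq_comm, ← mul_eq_one_iff_eq_inv₀ h0, ← pow_succ, ← h1]
      congr 1; omega
    rw [h3]
    exact hpow _

variable (p : ℕ) [Fact p.Prime] [CharP F p]

theorem card_transl : Nat.card (transl H) =
    Nat.card (((moebius_PGLbar p).subgroup H).uSub (rat inf)) := by
  refine Nat.card_congr (Equiv.ofBijective (fun a => ⟨⟨tau a, a.2⟩,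
    (smul_rat_eq_iff _ _ _).2 (tau_smul_inf _), Subtype.ext (tau_pow_char p _)⟩) ⟨?_, ?_⟩)
  · intro a b h
    exact Subtype.ext (tau_injective (congrArg (fun x => x.1.1) h))
  · rintro ⟨⟨g, hg⟩, h1, h2⟩
    obtain ⟨b, rfl⟩ := exists_eq_tau p ((smul_rat_eq_iff _ _ _).1 h1) (congrArg Subtype.val h2)
    exact ⟨⟨b, hg⟩, rfl⟩

theorem relIndex_lt_card_multField [Finite F] :
    (((moebius_PGLbar p).subgroup H).uSub (rat inf)).relIndex (stabilizer H (rat (F := F) inf)) <
      Nat.card (multField (transl H)) := by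
  set U := ((moebius_PGLbar p).subgroup H).uSub (rat inf) with hU
  have hrep : ∀ h : stabilizer H (rat (F := F) inf), ∃ (b : F) (a : Fˣ),
      (h : PGL(2, F)) = tau b * homo a := fun h =>
    exists_eq_tau_mul_homo ((smul_rat_eq_iff _ _ _).1 h.2)
  choose b a hab using hrep
  have hmem : ∀ h, (a h : F) ∈ multField (transl H) := fun h c hc => by
    change tau _ ∈ H
    rw [← affine_conj_tau (a h) (b h) c, ← hab]
    exact H.mul_mem (H.mul_mem h.1.2 hc) (H.inv_mem h.1.2)
  let f : stabilizer H (rat (F := F) inf) ⧸ U.subgroupOf _ → multField (transl H) :=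
    fun c => ⟨a c.out, hmem _⟩
  have hf : Function.Injective f := by
    intro c d h
    have h1 : a c.out = a d.out := Units.ext (congrArg Subtype.val h)
    rw [← QuotientGroup.out_eq' c, ← QuotientGroup.out_eq' d, QuotientGroup.eq, mem_subgroupOf]
    refine ⟨(c.out⁻¹ * d.out).2, Subtype.ext ?_⟩
    have : ((c.out : H) : PGL(2, F))⁻¹ * (d.out : H) =
        (homo (a c.out))⁻¹ * tau (-b c.out + b d.out) * ((homo (a c.out))⁻¹)⁻¹ := by
      rw [hab, hab, h1, tau_add, tau_neg]; group
    simp only [coe_mul, coe_inv, SubmonoidClass.coe_pow, OneMemClass.coe_one]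
    rw [this, conj_pow, tau_pow_char]
    simp
  have hns : ¬ Function.Surjective f := fun h => by
    obtain ⟨c, hc⟩ := h 0
    exact (a c.out).ne_zero (congrArg Subtype.val hc)
  rw [relIndex, index_eq_card]
  refine lt_of_le_of_ne (Nat.card_le_card_of_injective f hf) fun h => hns ?_
  exact ((Nat.bijective_iff_injective_and_card f).2 ⟨hf, h⟩).2

theorem dickson_normalised [Finite F] (h1 : tau 1 ∈ H)
    (h0 : ∃ h ∈ H, h • (inf : P1 F) = pt 0) :
    (∃ k : Subfield F, H = subPGL k ∨ (p ≠ 2 ∧ H = subPSL k)) ∨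
    (p = 2 ∧ ∃ n, ¬ p ∣ n ∧ Nonempty (H ≃* DihedralGroup n)) ∨
    (p = 3 ∧ Nonempty (H ≃* alternatingGroup (Fin 5))) := by
  set M := (moebius_PGLbar (F := F) p).subgroup H with hM
  obtain ⟨w, hw, hw0⟩ := h0
  have hcard := card_transl H p
  rw [← hM] at hcard
  have hx : M.uSub (rat inf) ≠ ⊥ := by
    rw [Ne, ← card_eq_one, ← hcard, AddSubgroup.card_eq_one]
    intro h
    have : (1 : F) ∈ transl H := h1
    rw [h, AddSubgroup.mem_bot] at this
    exact one_ne_zero this
  have hs : stabilizer H (rat (F := F) inf) ≠ ⊤ := by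
    intro h
    have : (⟨w, hw⟩ : H) ∈ stabilizer H (rat (F := F) inf) := h ▸ mem_top _
    have h2 := (smul_rat_eq_iff w _ _).1 this
    exact pt_ne_inf _ (hw0.symm.trans h2)
  rcases M.classify_p hx hs with ⟨hi, hc⟩ | ⟨h, z, hz1, hz2⟩ | h
  swap; · exact Or.inr (Or.inl ⟨h, M.exists_dihedral hz1 hz2⟩)
  swap; · exact Or.inr (Or.inr h)
  left
  have hlt := relIndex_lt_card_multField H p
  rw [← hM] at hlt
  set k := multField (transl H) with hk
  have hkA : k.toAddSubgroup ≤ transl H := fun m hm => by simpa using hm 1 h1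
  have hdvd : Nat.card k ∣ Nat.card (transl H) := AddSubgroup.card_dvd_of_le hkA
  have hq2 : 2 ≤ Nat.card (M.uSub (rat inf)) := (one_lt_card_iff_ne_bot _).2 hx
  have hkcard : Nat.card k = Nat.card (transl H) := by
    obtain ⟨m, hm⟩ := hdvd
    have : m = 1 := by
      by_contra hne
      rcases Nat.eq_zero_or_pos m with rfl | hpos
      · omega
      · have : Nat.card k * 2 ≤ Nat.card k * m := Nat.mul_le_mul_left _ (by omega)
        omega
    rw [hm, this, mul_one]
  have hkeq : k.toAddSubgroup = transl H := AddSubgroup.eq_of_le_of_card_ge hkA hkcard.ge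
  have := Fintype.ofFinite k
  have hkq : Fintype.card k = Nat.card (M.uSub (rat inf)) := by
    rw [← Nat.card_eq_fintype_card, hkcard, hcard]
  -- the orbit of `∞` is the projective line over `k`
  have horb : Set.range (emb k.subtype) = orbit H (inf : P1 F) := by
    refine Set.eq_of_subset_of_ncard_le ?_ ?_ (Set.finite_range _)
    · rintro _ ⟨x, rfl⟩
      rcases eq_inf_or_eq_pt x with rfl | ⟨a, rfl⟩
      · rw [emb_inf]; exact mem_orbit_self _
      · have ha : tau (a : F) ∈ H := hkA a.2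
        refine ⟨⟨tau (a : F) * w, H.mul_mem ha hw⟩, ?_⟩
        change (tau (a : F) * w) • (inf : P1 F) = _
        rw [mul_smul, hw0, tau_smul_pt, emb_pt, zero_add]; rfl
    · have e : stabilizer H (inf : P1 F) = stabilizer H (rat (F := F) inf) := by
        ext h
        exact (smul_rat_eq_iff h.1 _ _).symm
      rw [← index_stabilizer, e, hi, Set.ncard_range_of_injective (emb_injective _),
        Projectivization.card_of_finrank_two k _ (by simp), ← hkq, Nat.card_eq_fintype_card]
  have hle : H ≤ subPGL k := by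
    intro h hh
    have key : ∀ y ∈ Set.range (emb k.subtype), h • y ∈ Set.range (emb k.subtype) := by
      rw [horb]
      exact fun y hy => mem_orbit_of_mem_orbit (⟨h, hh⟩ : H) hy
    exact mem_range_map_of_smul _ (key _ ⟨inf, emb_inf _⟩) (key _ ⟨pt 0, by simp [emb_pt]⟩)
      (key _ ⟨pt 1, by simp [emb_pt]⟩)
  have hH := (stabilizer H (rat (F := F) inf)).card_mul_index
  rw [M.card_stabilizer, hi, ← hkq] at hH
  rw [← hkq] at hc hq2
  have hPGL : Nat.card (subPGL k) = Fintype.card k * (Fintype.card k ^ 2 - 1) := by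
    rw [← card_PGL, Nat.card_congr (subPGLEquiv k).toEquiv]
  generalize (M.uSub (rat inf)).relIndex (stabilizer H (rat (F := F) inf)) = c at *
  refine ⟨k, ?_⟩
  rcases hc with hc | hc
  · left
    refine eq_of_le_of_card_ge hle ?_
    rw [hPGL, ← hH, ← hc, show (c + 1) ^ 2 - 1 = c * (c + 1 + 1) by
      rw [Nat.sub_eq_iff_eq_add (Nat.one_le_pow _ _ (by omega))]; ring]
    exact le_of_eq (by ring)
  · right
    have hodd : Odd (Fintype.card k) := ⟨c, hc.symm⟩
    have hp2 : p ≠ 2 := by
      rintro rfl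
      have := M.dvd_card_uSub hx
      rw [← hkq] at this
      omega
    refine ⟨hp2, ?_⟩
    have h2H : 2 * Nat.card H = Fintype.card k * (Fintype.card k ^ 2 - 1) := by
      rw [← hH, ← hc, show (2 * c + 1) ^ 2 - 1 = 2 * c * (2 * c + 1 + 1) by
        rw [Nat.sub_eq_iff_eq_add (Nat.one_le_pow _ _ (by omega))]; ring]
      ring
    have hcomap : Nat.card (H.comap (ProjGenLinGroup.map k.subtype)) = Nat.card H := by
      rw [← card_map_of_injective (map_injective k.subtype), map_comap_eq,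
        inf_eq_right.2 (show H ≤ (ProjGenLinGroup.map k.subtype).range from hle)]
    have hidx : (H.comap (ProjGenLinGroup.map k.subtype)).index = 2 := by
      have := (H.comap (ProjGenLinGroup.map k.subtype)).card_mul_index
      rw [hcomap, card_PGL, ← h2H, mul_comm 2] at this
      exact Nat.eq_of_mul_eq_mul_left Nat.card_pos this
    have hle2 := range_toPGL_le_of_index_two p
      ((Fact.out : p.Prime).odd_of_ne_two hp2) hidx
    symm
    refine eq_of_le_of_card_ge ?_ ?_
    · rintro _ ⟨g, rfl⟩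
      exact hle2 ⟨g, rfl⟩
    · have := card_PSL_of_odd hodd
      rw [← Nat.card_congr (subPSLEquiv k).toEquiv]
      omega

end Normalised

/-- Dickson's theorem in `PGL₂(F)` for subgroups containing an element of order `p` whose fixed
point is moved by the subgroup. -/
theorem dickson_of_moved [Finite F] (p : ℕ) [Fact p.Prime] [CharP F p] (H : Subgroup PGL(2, F))
    {u h : PGL(2, F)} {x : P1 F} (hu : u ∈ H) (hu1 : u ≠ 1) (hup : u ^ p = 1) (hux : u • x = x)
    (hh : h ∈ H) (hhx : h • x ≠ x) :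
    (∃ (k : Subfield F) (γ : PGL(2, F)), H = (subPGL k).map (MulAut.conj γ).toMonoidHom ∨
      (p ≠ 2 ∧ H = (subPSL k).map (MulAut.conj γ).toMonoidHom)) ∨
    (p = 2 ∧ ∃ n, ¬ p ∣ n ∧ Nonempty (H ≃* DihedralGroup n)) ∨
    (p = 3 ∧ Nonempty (H ≃* alternatingGroup (Fin 5))) := by
  obtain ⟨γ₁, h1, h2⟩ := exists_smul_inf_pt hhx.symm
  obtain ⟨b, hb⟩ := exists_eq_tau p (g := γ₁⁻¹ * u * γ₁⁻¹⁻¹)
    (by rw [inv_inv, mul_smul, mul_smul, h1, hux, inv_smul_eq_iff, h1])
    (by rw [conj_pow, hup]; simp)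
  have hb0 : b ≠ 0 := by
    rintro rfl
    rw [tau_zero, conj_eq_one_iff] at hb
    exact hu1 hb
  set γ := γ₁ * homo (Units.mk0 b hb0) with hγ
  set H' := H.map (MulAut.conj γ⁻¹).toMonoidHom with hH'
  have hHH' : H = H'.map (MulAut.conj γ).toMonoidHom := by
    rw [hH', Subgroup.map_map]
    ext g
    simp [mul_assoc]
  have hmem : ∀ g ∈ H, γ⁻¹ * g * γ ∈ H' := fun g hg => ⟨g, hg, by simp⟩
  have e : H ≃* H' := H.equivMapOfInjective _ (MulAut.conj γ⁻¹).injective
  rcases dickson_normalised H' p (by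
      have := hmem u hu
      rw [hγ, _root_.mul_inv_rev] at this
      have e1 : tau b * homo (Units.mk0 b hb0) = homo (Units.mk0 b hb0) * tau 1 := by
        rw [homo_mul_tau]; simp
      rw [inv_inv] at hb
      convert this using 1
      calc tau 1 = (homo (Units.mk0 b hb0))⁻¹ * (tau b * homo (Units.mk0 b hb0)) := by
            rw [e1]; group
        _ = _ := by rw [← hb]; group)
    ⟨_, hmem h hh, by
      rw [mul_smul, mul_smul, inv_smul_eq_iff, hγ, mul_smul, mul_smul, homo_smul_inf,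
        homo_smul_pt, mul_zero, h1, h2]⟩ with ⟨k, hk⟩ | ⟨hp, n, hn, ⟨e'⟩⟩ | ⟨hp, ⟨e'⟩⟩
  · refine Or.inl ⟨k, γ, ?_⟩
    rcases hk with hk | ⟨hp, hk⟩
    · left; rw [hHH', hk]
    · right; exact ⟨hp, by rw [hHH', hk]⟩
  · exact Or.inr (Or.inl ⟨hp, n, hn, ⟨e.trans e'⟩⟩)
  · exact Or.inr (Or.inr ⟨hp, ⟨e.trans e'⟩⟩)

/-- **Dickson's theorem** for `PGL₂(F)`, case `p ∣ |H|`. -/
theorem dickson_PGL_dvd [Finite F] (p : ℕ) [Fact p.Prime] [CharP F p] (H : Subgroup PGL(2, F))
    (hp : p ∣ Nat.card H) :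
    (∃ x : P1 F, H ≤ stabilizer PGL(2, F) x) ∨
    (∃ (k : Subfield F) (γ : PGL(2, F)), H = (subPGL k).map (MulAut.conj γ).toMonoidHom ∨
      (p ≠ 2 ∧ H = (subPSL k).map (MulAut.conj γ).toMonoidHom)) ∨
    (p = 2 ∧ ∃ n, ¬ p ∣ n ∧ Nonempty (H ≃* DihedralGroup n)) ∨
    (p = 3 ∧ Nonempty (H ≃* alternatingGroup (Fin 5))) := by
  obtain ⟨u, hu⟩ := exists_prime_orderOf_dvd_card' p hp
  rw [← orderOf_coe] at hu
  have hup : (u : PGL(2, F)) ^ p = 1 := by rw [← hu, pow_orderOf_eq_one]
  have hu1 : (u : PGL(2, F)) ≠ 1 := fun h => by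
    rw [h, orderOf_one] at hu
    exact (Fact.out : p.Prime).one_lt.ne hu
  obtain ⟨x, hx⟩ := exists_fixed_of_pow_char p hup
  by_cases h : H ≤ stabilizer PGL(2, F) x
  · exact Or.inl ⟨x, h⟩
  · obtain ⟨h, hh, hhx⟩ := SetLike.not_le_iff_exists.1 h
    exact Or.inr (dickson_of_moved p H u.2 hu1 hup hx hh hhx)

/-- **Dickson's theorem** for `PGL₂(F)`, case `p ∤ |H|`. -/
theorem dickson_PGL_not_dvd (p : ℕ) [Fact p.Prime] [CharP F p] (H : Subgroup PGL(2, F)) [Finite H]
    (hp : ¬ p ∣ Nat.card H) :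
    IsCyclic H ∨ (∃ n, ¬ p ∣ n ∧ Nonempty (H ≃* DihedralGroup n)) ∨
      Nonempty (H ≃* alternatingGroup (Fin 4)) ∨ Nonempty (H ≃* Equiv.Perm (Fin 4)) ∨
      Nonempty (H ≃* alternatingGroup (Fin 5)) := by
  have M := (moebius_PGLbar (F := F) p).subgroup H
  have hu := M.uSub_eq_bot_of_not_dvd hp
  rcases M.classify_coprime hu with ⟨z, hz⟩ | ⟨z, hz⟩ | h
  · left
    have := M.isCyclic_stabilizer (hu z)
    rw [hz] at this
    exact isCyclic_of_surjective _ (topEquiv (G := H)).surjective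
  · exact Or.inr (Or.inl (M.exists_dihedral (hu z) hz))
  · exact Or.inr (Or.inr h)

/-- In the stabiliser of a point the elements of order dividing `p` form a subgroup. -/
theorem mul_pow_char_of_smul_eq (p : ℕ) [Fact p.Prime] [CharP F p] {a b : PGL(2, F)} {x : P1 F}
    (ha : a • x = x) (hb : b • x = x) (ha' : a ^ p = 1) (hb' : b ^ p = 1) : (a * b) ^ p = 1 :=
  (((moebius_PGLbar p).uSub (rat x)).mul_mem ⟨(smul_rat_eq_iff _ _ _).2 ha, ha'⟩
    ⟨(smul_rat_eq_iff _ _ _).2 hb, hb'⟩).2

end CL.PSL2
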