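import Cfsg.Agent.Base
import Cfsg.Agent.PSL2.Dickson

/-!
Dickson's theorem for subgroups of `SL₂(F)` in odd characteristic with two Sylow `p`-subgroups.
-/

set_option autoImplicit false

namespace CL.PSL2

open MulAction Subgroup Matrix
open scoped MatrixGroups

variable {F : Type*} [Field F]

theorem dickson_of_not_le [Finite F] (p : ℕ) [Fact p.Prime] [CharP F p] (hp : p ≠ 2)
    (H : Subgroup PGL(2, F)) (hd : p ∣ Nat.card H) (hx : ∀ x : P1 F, ¬ H ≤ stabilizer PGL(2, F) x) :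
    (∃ (k : Subfield F) (γ : PGL(2, F)), H = (subPGL k).map (MulAut.conj γ).toMonoidHom ∨
      H = (subPSL k).map (MulAut.conj γ).toMonoidHom) ∨
    (p = 3 ∧ Nonempty (H ≃* alternatingGroup (Fin 5))) := by
  rcases dickson_PGL_dvd p H hd with ⟨x, h⟩ | ⟨k, γ, h | ⟨-, h⟩⟩ | ⟨h, -⟩ | h
  · exact absurd h (hx x)
  · exact Or.inl ⟨k, γ, Or.inl h⟩
  · exact Or.inl ⟨k, γ, Or.inr h⟩
  · exact absurd h hp
  · exact Or.inr h

theorem dickson_of_mul_pow_ne [Finite F] (p : ℕ) [Fact p.Prime] [CharP F p] (hp : p ≠ 2)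
    (H : Subgroup PGL(2, F)) {a b : PGL(2, F)} (ha : a ∈ H) (hb : b ∈ H) (ha' : a ^ p = 1)
    (hb' : b ^ p = 1) (hab : (a * b) ^ p ≠ 1) :
    (∃ (k : Subfield F) (γ : PGL(2, F)), H = (subPGL k).map (MulAut.conj γ).toMonoidHom ∨
      H = (subPSL k).map (MulAut.conj γ).toMonoidHom) ∨
    (p = 3 ∧ Nonempty (H ≃* alternatingGroup (Fin 5))) := by
  have ha1 : a ≠ 1 := by rintro rfl; exact hab (by rw [one_mul, hb'])
  have hd : p ∣ Nat.card H := by
    rw [← orderOf_eq_prime ha' ha1]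
    exact orderOf_dvd_natCard H ha
  exact dickson_of_not_le p hp H hd fun x hx =>
    hab (mul_pow_char_of_smul_eq p (hx ha) (hx hb) ha' hb')

private theorem exists_A5_data : ∃ a b c : alternatingGroup (Fin 5), a • (4 : Fin 5) = 4 ∧
    b • (4 : Fin 5) = 4 ∧ c • (4 : Fin 5) ≠ 4 ∧ a ^ 3 = 1 ∧ b ^ 3 = 1 ∧ (a * b) ^ 3 ≠ 1 :=
  ⟨⟨Equiv.swap 0 1 * Equiv.swap 1 2, Equiv.Perm.mem_alternatingGroup.2 (by decide)⟩,
    ⟨Equiv.swap 1 2 * Equiv.swap 2 3, Equiv.Perm.mem_alternatingGroup.2 (by decide)⟩,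
    ⟨Equiv.swap 2 3 * Equiv.swap 3 4, Equiv.Perm.mem_alternatingGroup.2 (by decide)⟩,
    by decide, by decide, by decide, by decide, by decide, by decide⟩

theorem exists_subPSL_le [Finite F] (p : ℕ) [Fact p.Prime] [CharP F p] (hp : p ≠ 2)
    (H : Subgroup PGL(2, F)) (hd : p ∣ Nat.card H) (hx : ∀ x : P1 F, ¬ H ≤ stabilizer PGL(2, F) x) :
    ∃ (k : Subfield F) (γ : PGL(2, F)), (subPSL k).map (MulAut.conj γ).toMonoidHom ≤ H := by
  rcases dickson_of_not_le p hp H hd hx with ⟨k, γ, h | h⟩ | ⟨rfl, ⟨e⟩⟩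
  · exact ⟨k, γ, h ▸ map_mono (subPSL_le_subPGL k)⟩
  · exact ⟨k, γ, h.ge⟩
  obtain ⟨a, b, c, h1, h2, h3, h4, h5, h6⟩ := exists_A5_data
  let f : alternatingGroup (Fin 5) →* PGL(2, F) := H.subtype.comp e.symm.toMonoidHom
  have hf : Function.Injective f := H.subtype_injective.comp e.symm.injective
  have hle : (stabilizer (alternatingGroup (Fin 5)) (4 : Fin 5)).map f ≤ H := by
    rintro _ ⟨g, -, rfl⟩
    exact (e.symm g).2
  rcases dickson_of_mul_pow_ne 3 hp ((stabilizer (alternatingGroup (Fin 5)) (4 : Fin 5)).map f)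
    (a := f a) (b := f b) ⟨a, h1, rfl⟩ ⟨b, h2, rfl⟩ (by rw [← map_pow, h4, map_one])
    (by rw [← map_pow, h5, map_one])
    (by rw [← map_mul, ← map_pow]; exact fun h => h6 ((injective_iff_map_eq_one f).1 hf _ h))
    with ⟨k, γ, h | h⟩ | ⟨-, ⟨e'⟩⟩
  · exact ⟨k, γ, (h ▸ map_mono (subPSL_le_subPGL k) :).trans hle⟩
  · exact ⟨k, γ, h.ge.trans hle⟩
  · exfalso
    have h7 := Nat.card_congr e'.toEquiv
    rw [card_map_of_injective hf, card_eq_iff_eq_top] at h7
    have : c ∈ stabilizer (alternatingGroup (Fin 5)) (4 : Fin 5) := h7 ▸ mem_top c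
    exact h3 this

/-- Conjugation by an element of `GL₂` on `SL₂`. -/
def conjSL (γ : GL (Fin 2) F) : SL(2, F) →* SL(2, F) where
  toFun g := ⟨γ * g * (γ⁻¹ : GL (Fin 2) F), by
    rw [det_mul, det_mul, g.det_coe, mul_one, ← det_mul, Units.mul_inv, det_one]⟩
  map_one' := Subtype.ext (by simp)
  map_mul' g h := Subtype.ext (by
    change γ.1 * (g.1 * h.1) * (γ⁻¹).1 = γ.1 * g.1 * (γ⁻¹).1 * (γ.1 * h.1 * (γ⁻¹).1)
    simp only [mul_assoc, Units.inv_mul_cancel_left])

theorem coe_conjSL (γ : GL (Fin 2) F) (g : SL(2, F)) :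
    (conjSL γ g : Matrix (Fin 2) (Fin 2) F) = γ * g * (γ⁻¹ : GL (Fin 2) F) := rfl

theorem toGL_conjSL (γ : GL (Fin 2) F) (g : SL(2, F)) :
    Matrix.SpecialLinearGroup.toGL (conjSL γ g) = γ * Matrix.SpecialLinearGroup.toGL g * γ⁻¹ :=
  Units.ext rfl

theorem conjSL_injective (γ : GL (Fin 2) F) : Function.Injective (conjSL γ) := fun a b h => by
  have := congrArg Matrix.SpecialLinearGroup.toGL h
  rw [toGL_conjSL, toGL_conjSL, mul_left_inj, mul_right_inj] at this
  exact Matrix.SpecialLinearGroup.toGL_injective this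

theorem trace_conjSL (γ : GL (Fin 2) F) (g : SL(2, F)) :
    (conjSL γ g : Matrix (Fin 2) (Fin 2) F).trace = (g : Matrix (Fin 2) (Fin 2) F).trace := by
  rw [coe_conjSL, trace_mul_cycle, Units.inv_mul, one_mul]

theorem SL_map_injective {k : Type*} [Field k] (f : k →+* F) :
    Function.Injective (Matrix.SpecialLinearGroup.map f : SL(2, k) →* SL(2, F)) := fun a b h => by
  ext i j
  exact f.injective (congrFun (congrFun (congrArg Subtype.val h) i) j)

/-- The embedding of `SL₂(k)` in `SL₂(F)` twisted by conjugation. -/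
def subSL (k : Subfield F) (γ : GL (Fin 2) F) : SL(2, k) →* SL(2, F) :=
  (conjSL γ).comp (Matrix.SpecialLinearGroup.map k.subtype)

theorem subSL_injective (k : Subfield F) (γ : GL (Fin 2) F) : Function.Injective (subSL k γ) :=
  (conjSL_injective γ).comp (SL_map_injective _)

theorem trace_subSL_mem (k : Subfield F) (γ : GL (Fin 2) F) (g : SL(2, k)) :
    (subSL k γ g : Matrix (Fin 2) (Fin 2) F).trace ∈ k := by
  rw [subSL, MonoidHom.comp_apply, trace_conjSL, trace_fin_two]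
  exact k.add_mem (g 0 0).2 (g 1 1).2

theorem toPGL_subSL (k : Subfield F) (γ : GL (Fin 2) F) (g : SL(2, k)) :
    Matrix.SpecialLinearGroup.toPGL (subSL k γ g) = MulAut.conj (ProjGenLinGroup.mk γ)
      (ProjGenLinGroup.map k.subtype (ProjectiveSpecialLinearGroup.toPGL (g : PSL(2, k)))) := by
  rw [subSL, MonoidHom.comp_apply, MonoidHom.comp_apply, toGL_conjSL, map_mul, map_mul, map_inv,
    MulAut.conj_apply]
  rfl

theorem map_range_subSL (k : Subfield F) (γ : GL (Fin 2) F) :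
    (subSL k γ).range.map Matrix.SpecialLinearGroup.toPGL =
      (subPSL k).map (MulAut.conj (ProjGenLinGroup.mk γ)).toMonoidHom := by
  ext x
  constructor
  · rintro ⟨_, ⟨g, rfl⟩, rfl⟩
    exact ⟨_, ⟨g, rfl⟩, (toPGL_subSL k γ g).symm⟩
  · rintro ⟨_, ⟨g, rfl⟩, rfl⟩
    induction g using QuotientGroup.induction_on with
    | H g => exact ⟨_, ⟨g, rfl⟩, toPGL_subSL k γ g⟩

theorem toPGL_eq_iff (g h : SL(2, F)) : Matrix.SpecialLinearGroup.toPGL g =
    Matrix.SpecialLinearGroup.toPGL h ↔ h = g ∨ h = -g := by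
  rw [← PSL_mk_eq_mk_iff, ← ProjectiveSpecialLinearGroup.toPGL_injective.eq_iff]
  rfl

theorem toPGL_eq_one_iff (g : SL(2, F)) :
    Matrix.SpecialLinearGroup.toPGL g = 1 ↔ g = 1 ∨ g = -1 := by
  rw [← map_one Matrix.SpecialLinearGroup.toPGL, eq_comm, toPGL_eq_iff]

/-- An element of odd order whose image lies in the image of `H` lies in `H`. -/
theorem mem_of_toPGL_mem {H : Subgroup SL(2, F)} {u : SL(2, F)} {n : ℕ} (hn : Odd n)
    (hu : u ^ n = 1) (h : Matrix.SpecialLinearGroup.toPGL u ∈ H.map Matrix.SpecialLinearGroup.toPGL) :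
    u ∈ H := by
  obtain ⟨g, hg, h⟩ := h
  rcases (toPGL_eq_iff _ _).1 h with rfl | h
  · exact hg
  · have : u = g ^ (n + 1) := by
      rw [← (hn.add_one).neg_pow, ← h, pow_succ, hu, one_mul]
    rw [this]
    exact H.pow_mem hg _

theorem range_subSL_le (p : ℕ) [CharP F p] (hp : Odd p) {H : Subgroup SL(2, F)} (k : Subfield F)
    (γ : GL (Fin 2) F) (h : (subPSL k).map (MulAut.conj (ProjGenLinGroup.mk γ)).toMonoidHom ≤
      H.map Matrix.SpecialLinearGroup.toPGL) : (subSL k γ).range ≤ H := by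
  rintro _ ⟨g, rfl⟩
  refine Matrix.SL2.transvection_induction (fun g => subSL k γ g ∈ H) (fun i j hij a => ?_)
    (fun a b ha hb => ?_) g
  · refine mem_of_toPGL_mem hp (by rw [← map_pow, transvection_pow_char, map_one]) (h ?_)
    rw [← map_range_subSL]
    exact ⟨_, ⟨_, rfl⟩, rfl⟩
  · rw [map_mul]; exact H.mul_mem ha hb

theorem neg_one_ne_one_SL (p : ℕ) [Fact p.Prime] [CharP F p] (hp : p ≠ 2) :
    (-1 : SL(2, F)) ≠ 1 := by
  rw [Ne, neg_one_eq_one_SL_iff]
  intro h
  exact hp ((Nat.prime_dvd_prime_iff_eq Fact.out Nat.prime_two).1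
    ((CharP.cast_eq_zero_iff F p 2).1 (by exact_mod_cast h)))

/-- The `p`-elements of `SL₂(F)` have order dividing `p`. -/
theorem SL_pow_char_eq_one [Finite F] (p : ℕ) [Fact p.Prime] [CharP F p] (hp : p ≠ 2)
    {h : SL(2, F)} {k : ℕ} (hk : h ^ p ^ k = 1) : h ^ p = 1 := by
  have hodd := (Fact.out : p.Prime).odd_of_ne_two hp
  have h1 : Matrix.SpecialLinearGroup.toPGL h ^ p = 1 := by
    by_contra hne
    have h2 := (moebius_PGLbar (F := F) p).not_dvd_orderOf hne
    have h3 : orderOf (Matrix.SpecialLinearGroup.toPGL h) ∣ p ^ k :=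
      orderOf_dvd_of_pow_eq_one (by rw [← map_pow, hk, map_one])
    have h4 := ((Nat.Prime.coprime_iff_not_dvd Fact.out).2 h2).symm.pow_right k
    rw [orderOf_eq_one_iff.1 (h4.eq_one_of_dvd h3), one_pow] at hne
    exact hne rfl
  rw [← map_pow, toPGL_eq_one_iff] at h1
  rcases h1 with h1 | h1
  · exact h1
  · rcases k with _ | k
    · rw [pow_zero, pow_one] at hk
      rw [hk, one_pow]
    · rw [pow_succ', pow_mul, h1, hodd.pow.neg_one_pow] at hk
      exact absurd hk (neg_one_ne_one_SL p hp)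

theorem SL_smul_eq_of_pow_char (p : ℕ) [Fact p.Prime] [CharP F p] {a : SL(2, F)} (ha : a ^ p = 1)
    {v : Fin 2 → F} (hv : v ≠ 0)
    (h : Matrix.SpecialLinearGroup.toPGL a • Projectivization.mk F v hv =
      Projectivization.mk F v hv) : a • v = v := by
  rw [MonoidHom.comp_apply, Projectivization.PGL.mk_smul_mk, Projectivization.mk_eq_mk_iff'] at h
  obtain ⟨c, hc⟩ := h
  have hc' : a • v = c • v := hc.symm
  have : ∀ n : ℕ, a ^ n • v = c ^ n • v := by
    intro n
    induction n with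
    | zero => simp
    | succ n ih => rw [pow_succ, mul_smul, hc', smul_comm, ih, smul_smul, pow_succ']
  have h1 := this p
  rw [ha, one_smul] at h1
  have h2 : c ^ p = 1 := smul_left_injective F hv (by simpa using h1.symm)
  have h3 : c = 1 := frobenius_inj F p (by rw [frobenius_def, h2, map_one])
  rw [hc', h3, one_smul]

theorem SL_mul_pow_char (p : ℕ) [Fact p.Prime] [CharP F p] (hp : p ≠ 2) {a b : SL(2, F)}
    {x : P1 F} (ha : Matrix.SpecialLinearGroup.toPGL a • x = x)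
    (hb : Matrix.SpecialLinearGroup.toPGL b • x = x) (ha' : a ^ p = 1) (hb' : b ^ p = 1) :
    (a * b) ^ p = 1 := by
  have h1 := mul_pow_char_of_smul_eq p ha hb (by rw [← map_pow, ha', map_one])
    (by rw [← map_pow, hb', map_one])
  rw [← map_mul, ← map_pow, toPGL_eq_one_iff] at h1
  refine h1.resolve_right fun h1 => ?_
  induction x using Projectivization.ind with
  | h v hv =>
    have h2 : (a * b) ^ p ∈ stabilizer SL(2, F) v :=
      (stabilizer SL(2, F) v).pow_mem ((stabilizer SL(2, F) v).mul_mem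
        (SL_smul_eq_of_pow_char p ha' hv ha) (SL_smul_eq_of_pow_char p hb' hv hb)) p
    rw [h1, mem_stabilizer_iff, Matrix.SpecialLinearGroup.smul_def] at h2
    have h3 : (2 : F) • v = 0 := by
      rw [two_smul]
      nth_rewrite 1 [← h2]
      simp
    rcases smul_eq_zero.1 h3 with h | h
    · exact neg_one_ne_one_SL p hp (neg_one_eq_one_SL_iff.2 h)
    · exact hv h

/-- If `H ≤ SL₂(F)` has two Sylow `p`-subgroups, its image in `PGL₂(F)` fixes no point. -/
theorem not_le_stabilizer_of_sylow [Finite F] (p : ℕ) [Fact p.Prime] [CharP F p] (hp : p ≠ 2)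
    (H : Subgroup SL(2, F)) (hH : 1 < Nat.card (Sylow p H)) (x : P1 F) :
    ¬ H.map Matrix.SpecialLinearGroup.toPGL ≤ stabilizer PGL(2, F) x := by
  intro hx
  let S : Subgroup H :=
    { carrier := {h | h ^ p = 1}
      one_mem' := by simp
      inv_mem' := fun {a} ha => by
        simp only [Set.mem_ofPred_eq] at ha ⊢
        rw [inv_pow, ha, inv_one]
      mul_mem' := fun {a b} ha hb => Subtype.ext (SL_mul_pow_char p hp (hx ⟨a, a.2, rfl⟩)
        (hx ⟨b, b.2, rfl⟩) (congrArg Subtype.val ha) (congrArg Subtype.val hb)) }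
  have hS : IsPGroup p S := fun h => ⟨1, Subtype.ext (by rw [pow_one]; exact h.2)⟩
  have key : ∀ P : Sylow p H, (P : Subgroup H) = S := fun P => by
    refine (P.3 hS fun h hh => ?_).symm
    obtain ⟨k, hk⟩ := P.2 ⟨h, hh⟩
    exact Subtype.ext (SL_pow_char_eq_one p hp (congrArg (fun x => x.1.1) hk))
  have : Subsingleton (Sylow p H) := ⟨fun P Q => Sylow.ext ((key P).trans (key Q).symm)⟩
  have := Nat.card_of_subsingleton (default : Sylow p H)
  omega

theorem dvd_card_map_of_sylow [Finite F] (p : ℕ) [Fact p.Prime] [CharP F p] (hp : p ≠ 2)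
    (H : Subgroup SL(2, F)) (hH : 1 < Nat.card (Sylow p H)) :
    p ∣ Nat.card (H.map Matrix.SpecialLinearGroup.toPGL) := by
  have h1 : p ∣ Nat.card H := by
    by_contra h
    have key : ∀ P : Sylow p H, (P : Subgroup H) = ⊥ := fun P => by
      rw [← card_eq_one, P.card_eq_multiplicity, Nat.factorization_eq_zero_of_not_dvd h, pow_zero]
    have : Subsingleton (Sylow p H) := ⟨fun P Q => Sylow.ext ((key P).trans (key Q).symm)⟩
    have := Nat.card_of_subsingleton (default : Sylow p H)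
    omega
  obtain ⟨u, hu⟩ := exists_prime_orderOf_dvd_card' p h1
  rw [← orderOf_coe] at hu
  have hup : (u : SL(2, F)) ^ p = 1 := by rw [← hu, pow_orderOf_eq_one]
  have h2 : Matrix.SpecialLinearGroup.toPGL (u : SL(2, F)) ≠ 1 := by
    rw [Ne, toPGL_eq_one_iff]
    rintro (h | h)
    · rw [h, orderOf_one] at hu
      exact (Fact.out : p.Prime).one_lt.ne hu
    · rw [h, ((Fact.out : p.Prime).odd_of_ne_two hp).neg_one_pow] at hup
      exact neg_one_ne_one_SL p hp hup
  rw [← orderOf_eq_prime (p := p) (by rw [← map_pow, hup, map_one]) h2]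
  exact orderOf_dvd_natCard _ ⟨u, u.2, rfl⟩

/-- A subgroup of `SL₂(F)` with more than one Sylow `p`-subgroup (`p` odd) contains a conjugate of
`SL₂(k)` for a subfield `k`. -/
theorem exists_range_subSL_le [Finite F] (p : ℕ) [Fact p.Prime] [CharP F p] (hp : p ≠ 2)
    (H : Subgroup SL(2, F)) (hH : 1 < Nat.card (Sylow p H)) :
    ∃ (k : Subfield F) (γ : GL (Fin 2) F), (subSL k γ).range ≤ H := by
  obtain ⟨k, γ, h⟩ := exists_subPSL_le p hp _ (dvd_card_map_of_sylow p hp H hH)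
    (not_le_stabilizer_of_sylow p hp H hH)
  obtain ⟨γ, rfl⟩ := ProjGenLinGroup.mk_surjective γ
  exact ⟨k, γ, range_subSL_le p ((Fact.out : p.Prime).odd_of_ne_two hp) k γ h⟩

end CL.PSL2
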