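import Cfsg.Agent.Base
import Cfsg.Agent.PSL2.SL2Sub

/-!
Orders of elements of `SL₂(q)`, `PSL₂(q)`, `PGL₂(q)`; traces and small orders.
-/

set_option autoImplicit false

namespace CL.PSL2

open MulAction Subgroup Matrix
open scoped MatrixGroups

variable {F : Type*} [Field F]

theorem exists_eigen_frobenius [Fintype F] (g : Matrix (Fin 2) (Fin 2) F) :
    ∃ l m : AlgebraicClosure F, l + m = (g.map (algebraMap F _)).trace ∧
      l * m = (g.map (algebraMap F _)).det ∧
      ((l ^ Fintype.card F = l ∧ m ^ Fintype.card F = m) ∨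
        (l ^ Fintype.card F = m ∧ m ^ Fintype.card F = l)) := by
  obtain ⟨l, m, h1, h2⟩ := exists_eigenvalues (g.map (algebraMap F (AlgebraicClosure F))).trace
    (g.map (algebraMap F (AlgebraicClosure F))).det
  refine ⟨l, m, h1, h2, ?_⟩
  let φ := FiniteField.frobeniusAlgHom F (AlgebraicClosure F)
  have hφ : ∀ x, φ x = x ^ Fintype.card F := fun x => rfl
  have h3 : φ l + φ m = l + m := by
    rw [← map_add, h1]
    simp only [trace_fin_two, map_apply, ← map_add, AlgHom.commutes]
  have h4 : φ l * φ m = l * m := by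
    rw [← map_mul, h2]
    simp only [det_fin_two, map_apply, ← map_mul, ← map_sub, AlgHom.commutes]
  rw [hφ, hφ] at h3 h4
  have h5 : (l ^ Fintype.card F - l) * (l ^ Fintype.card F - m) = 0 := by
    linear_combination l ^ Fintype.card F * h3 - h4
  rcases mul_eq_zero.1 h5 with h | h
  · left; exact ⟨by linear_combination h, by linear_combination h3 - h⟩
  · right; exact ⟨by linear_combination h, by linear_combination h3 - h⟩

theorem mk_pow_eq_one_of_map {K : Type*} [Field K] (f : F →+* K) (g : GL (Fin 2) F) {k : ℕ} {c : K}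
    (h : ((g : Matrix (Fin 2) (Fin 2) F).map f) ^ k = c • 1) : ProjGenLinGroup.mk g ^ k = 1 := by
  apply map_injective f
  rw [map_pow, map_one, ProjGenLinGroup.map_mk, ← map_pow, mk_eq_one_iff']
  exact ⟨c, by rw [Units.val_pow_eq_pow_val]; exact h⟩

theorem pow_card_sub_one_of_pow_card {K : Type*} [Field K] {l : K} {q : ℕ} (hq : 1 ≤ q)
    (hl : l ≠ 0) (h : l ^ q = l) : l ^ (q - 1) = 1 := by
  apply mul_right_cancel₀ hl
  rw [← pow_succ, Nat.sub_add_cancel hq, h, one_mul]

theorem orderOf_PGL_dvd [Fintype F] (p : ℕ) [Fact p.Prime] [CharP F p] {g : PGL(2, F)}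
    (hg : g ^ p ≠ 1) : orderOf g ∣ Fintype.card F - 1 ∨ orderOf g ∣ Fintype.card F + 1 := by
  induction g using ProjGenLinGroup.induction_on with
  | mk g =>
    obtain ⟨l, m, h1, h2, h3⟩ := exists_eigen_frobenius (g : Matrix (Fin 2) (Fin 2) F)
    have hne : l ≠ m := by
      rintro rfl
      exact hg (mk_pow_eq_one_of_map _ g (pow_char_eq_smul_one p _ h1 h2))
    have h0 : l * m ≠ 0 := by
      rw [h2]; exact (GeneralLinearGroup.map (algebraMap F (AlgebraicClosure F)) g).det_ne_zero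
    rcases h3 with ⟨h3, h4⟩ | ⟨h3, h4⟩
    · left
      refine orderOf_dvd_of_pow_eq_one (mk_pow_eq_one_of_map _ g
        (pow_eq_smul_one_of_ne _ h1 h2 hne ?_))
      rw [pow_card_sub_one_of_pow_card Fintype.card_pos (left_ne_zero_of_mul h0) h3,
        pow_card_sub_one_of_pow_card Fintype.card_pos (right_ne_zero_of_mul h0) h4]
    · right
      refine orderOf_dvd_of_pow_eq_one (mk_pow_eq_one_of_map _ g
        (pow_eq_smul_one_of_ne _ h1 h2 hne ?_))
      rw [pow_succ, pow_succ, h3, h4, mul_comm]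

theorem exists_eigen_SL [Fintype F] (g : SL(2, F)) :
    ∃ l m : AlgebraicClosure F,
      l + m = ((g : Matrix (Fin 2) (Fin 2) F).map (algebraMap F _)).trace ∧
      l * m = ((g : Matrix (Fin 2) (Fin 2) F).map (algebraMap F _)).det ∧ l * m = 1 ∧
      (l ^ (Fintype.card F - 1) = 1 ∨ l ^ (Fintype.card F + 1) = 1) := by
  obtain ⟨l, m, h1, h2, h3⟩ := exists_eigen_frobenius (g : Matrix (Fin 2) (Fin 2) F)
  have h4 : l * m = 1 := by
    rw [h2]
    exact (Matrix.SpecialLinearGroup.map (algebraMap F (AlgebraicClosure F)) g).det_coe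
  refine ⟨l, m, h1, h2, h4, ?_⟩
  rcases h3 with ⟨h3, -⟩ | ⟨h3, -⟩
  · exact Or.inl (pow_card_sub_one_of_pow_card Fintype.card_pos (left_ne_zero_of_mul_eq_one h4) h3)
  · right; rw [pow_succ, h3, mul_comm, h4]

theorem orderOf_PSL_dvd [Fintype F] (p : ℕ) [Fact p.Prime] [CharP F p] {g : PSL(2, F)}
    (hg : g ^ p ≠ 1) :
    orderOf g ∣ (Fintype.card F - 1) / Nat.gcd 2 (Fintype.card F - 1) ∨
      orderOf g ∣ (Fintype.card F + 1) / Nat.gcd 2 (Fintype.card F - 1) := by
  have hinj := ProjectiveSpecialLinearGroup.toPGL_injective (n := Fin 2) (R := F)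
  have hg' : ProjectiveSpecialLinearGroup.toPGL g ^ p ≠ 1 := by
    rw [← map_pow]; exact fun h => hg ((injective_iff_map_eq_one _).1 hinj _ h)
  rw [← orderOf_injective _ hinj]
  rcases Nat.even_or_odd (Fintype.card F) with h | h
  · rw [gcd_two_of_even h Fintype.card_ne_zero, Nat.div_one, Nat.div_one]
    exact orderOf_PGL_dvd p hg'
  rw [gcd_two_of_odd h]
  induction g using QuotientGroup.induction_on with
  | H g =>
    obtain ⟨l, m, h1, h2, h3, h4⟩ := exists_eigen_SL g
    have hne : l ≠ m := by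
      rintro rfl
      exact hg' (mk_pow_eq_one_of_map _ (Matrix.SpecialLinearGroup.toGL g)
        (pow_char_eq_smul_one p _ h1 h2))
    have key : ∀ k, l ^ (2 * k) = 1 →
        orderOf (ProjectiveSpecialLinearGroup.toPGL (g : PSL(2, F))) ∣ k := fun k hk => by
      refine orderOf_dvd_of_pow_eq_one (mk_pow_eq_one_of_map _ (Matrix.SpecialLinearGroup.toGL g)
        (pow_eq_smul_one_of_ne _ h1 h2 hne ?_))
      apply mul_left_cancel₀ (pow_ne_zero k (left_ne_zero_of_mul_eq_one h3))
      rw [← mul_pow l m, h3, one_pow, ← pow_add, ← two_mul, hk]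
    obtain ⟨k, hk⟩ := h
    refine h4.imp (fun h4 => key _ ?_) (fun h4 => key _ ?_)
    · rwa [show 2 * ((Fintype.card F - 1) / 2) = Fintype.card F - 1 by omega]
    · rwa [show 2 * ((Fintype.card F + 1) / 2) = Fintype.card F + 1 by omega]

theorem pow_char_ne_one_of_not_dvd {G : Type*} [Group G] {p : ℕ} (hp : p.Prime) {g : G}
    (h : ¬ p ∣ orderOf g) (h1 : g ≠ 1) : g ^ p ≠ 1 := fun h2 => by
  have := Fact.mk hp
  exact h (by rw [orderOf_eq_prime h2 h1])

theorem orderOf_PSL_dvd_of_not_dvd [Fintype F] (p : ℕ) [Fact p.Prime] [CharP F p] {g : PSL(2, F)}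
    (hg : ¬ p ∣ orderOf g) :
    orderOf g ∣ (Fintype.card F - 1) / Nat.gcd 2 (Fintype.card F - 1) ∨
      orderOf g ∣ (Fintype.card F + 1) / Nat.gcd 2 (Fintype.card F - 1) := by
  by_cases h1 : g = 1
  · simp [h1]
  · exact orderOf_PSL_dvd p (pow_char_ne_one_of_not_dvd Fact.out hg h1)

theorem SL_pow_eq_one_of_map {K : Type*} [Field K] (f : F →+* K) (g : SL(2, F)) {k : ℕ}
    (h : ((g : Matrix (Fin 2) (Fin 2) F).map f) ^ k = (1 : K) • 1) : g ^ k = 1 := by
  apply SL_map_injective f
  rw [map_pow, map_one]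
  exact Subtype.ext (by rw [one_smul] at h; exact h)

theorem orderOf_SL_dvd [Fintype F] (p : ℕ) [Fact p.Prime] [CharP F p] (g : SL(2, F))
    (hg : Nat.Coprime (orderOf g) p) :
    orderOf g ∣ Fintype.card F - 1 ∨ orderOf g ∣ Fintype.card F + 1 := by
  obtain ⟨l, m, h1, h2, h3, h4⟩ := exists_eigen_SL g
  by_cases hne : l = m
  · subst hne
    have h5 := pow_char_eq_smul_one p _ h1 h2
    have h6 : g ^ (p * 2) = 1 := SL_pow_eq_one_of_map (algebraMap F (AlgebraicClosure F)) g (by
      rw [pow_mul, h5, smul_pow, one_pow, ← pow_mul, mul_comm, pow_mul, sq, h3, one_pow])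
    have h7 : orderOf g ∣ 2 := hg.dvd_of_dvd_mul_left (orderOf_dvd_of_pow_eq_one h6)
    rcases (Nat.dvd_prime Nat.prime_two).1 h7 with h | h
    · simp [h]
    · rw [h] at hg ⊢
      right
      obtain ⟨n, -, hn⟩ := FiniteField.card F p
      have : Odd (Fintype.card F) := by
        rw [hn]; exact (Nat.coprime_two_left.1 hg).pow
      exact this.add_one.two_dvd
  · have key : ∀ k, l ^ k = 1 → orderOf g ∣ k := fun k hk => by
      have hm : l ^ k = m ^ k := by
        have : (l * m) ^ k = 1 := by rw [h3, one_pow]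
        rw [mul_pow, hk, one_mul] at this
        rw [hk, this]
      refine orderOf_dvd_of_pow_eq_one
        (SL_pow_eq_one_of_map (algebraMap F (AlgebraicClosure F)) g ?_)
      rw [pow_eq_smul_one_of_ne _ h1 h2 hne hm, hk]
    exact h4.imp (key _) (key _)

/-! ### Cayley–Hamilton in `SL₂` -/

theorem SL_mul_self (g : SL(2, F)) : (g : Matrix (Fin 2) (Fin 2) F) * g =
    (g : Matrix (Fin 2) (Fin 2) F).trace • (g : Matrix (Fin 2) (Fin 2) F) - 1 := by
  have := g.det_coe
  rw [det_fin_two] at this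
  ext i j
  fin_cases i <;> fin_cases j <;> simp [Matrix.mul_apply, Fin.sum_univ_two, trace_fin_two]
  · linear_combination -this
  · ring
  · ring
  · linear_combination -this

/-- Powers of an element of `SL₂` as linear combinations of `g` and `1`. -/
def chebPair (t : F) : ℕ → F × F
  | 0 => (0, 1)
  | n + 1 => ((chebPair t n).1 * t + (chebPair t n).2, -(chebPair t n).1)

theorem SL_pow_eq (g : SL(2, F)) (n : ℕ) : (g : Matrix (Fin 2) (Fin 2) F) ^ n =
    (chebPair (g : Matrix (Fin 2) (Fin 2) F).trace n).1 • (g : Matrix (Fin 2) (Fin 2) F) +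
      (chebPair (g : Matrix (Fin 2) (Fin 2) F).trace n).2 • 1 := by
  induction n with
  | zero => simp [chebPair]
  | succ n ih =>
    rw [pow_succ, ih, add_mul, smul_mul_assoc, smul_mul_assoc, SL_mul_self, one_mul, chebPair]
    module

/-- For non-central `g`, `g ^ n` is central iff the Chebyshev coefficient vanishes. -/
theorem PSL_pow_eq_one_iff (g : SL(2, F)) (hg : (g : PSL(2, F)) ≠ 1) (n : ℕ) :
    (g : PSL(2, F)) ^ n = 1 ↔ (chebPair (g : Matrix (Fin 2) (Fin 2) F).trace n).1 = 0 := by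
  have hinj := ProjectiveSpecialLinearGroup.toPGL_injective (n := Fin 2) (R := F)
  rw [Ne, ← (injective_iff_map_eq_one' _).1 hinj, ProjectiveSpecialLinearGroup.toPGL_mk,
    mk_eq_one_iff'] at hg
  rw [← (injective_iff_map_eq_one' _).1 hinj, map_pow, ProjectiveSpecialLinearGroup.toPGL_mk,
    ← map_pow, mk_eq_one_iff', Units.val_pow_eq_pow_val,
    Matrix.SpecialLinearGroup.coe_GL_coe_matrix, SL_pow_eq]
  generalize chebPair (g : Matrix (Fin 2) (Fin 2) F).trace n = c
  constructor
  · rintro ⟨e, he⟩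
    by_contra hc
    refine hg ⟨c.1⁻¹ * (e - c.2), ?_⟩
    rw [Matrix.SpecialLinearGroup.coe_GL_coe_matrix, mul_smul, sub_smul, ← he, add_sub_cancel_right,
      smul_smul, inv_mul_cancel₀ hc, one_smul]
  · intro h
    exact ⟨c.2, by rw [h, zero_smul, zero_add]⟩

theorem PSL_pow_eq_one_of_cheb (g : SL(2, F)) (n : ℕ)
    (h : (chebPair (g : Matrix (Fin 2) (Fin 2) F).trace n).1 = 0) : (g : PSL(2, F)) ^ n = 1 := by
  by_cases hg : (g : PSL(2, F)) = 1
  · rw [hg, one_pow]
  · exact (PSL_pow_eq_one_iff g hg n).2 h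

theorem cheb_two (t : F) : (chebPair t 2).1 = t := by simp [chebPair]
theorem cheb_three (t : F) : (chebPair t 3).1 = t ^ 2 - 1 := by simp [chebPair]; ring
theorem cheb_four (t : F) : (chebPair t 4).1 = t * (t ^ 2 - 2) := by simp [chebPair]; ring
theorem cheb_five (t : F) : (chebPair t 5).1 = (t ^ 2 - t - 1) * (t ^ 2 + t - 1) := by
  simp [chebPair]; ring

end CL.PSL2
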