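import Cfsg.Agent.Base
import Cfsg.Agent.PSL2.Orders

/-!
Borel subgroups, tori and their dihedral normalisers in `PSL₂(q)`; Dickson's theorem for `PSL₂(q)`.
-/

set_option autoImplicit false

namespace CL.PSL2

open MulAction Subgroup Matrix
open scoped MatrixGroups

/-- The setwise stabiliser of a pair of points. -/
def pairStab (H : Type*) {X : Type*} [Group H] [MulAction H X] (x y : X) : Subgroup H where
  carrier := {g | (g • x = x ∧ g • y = y) ∨ (g • x = y ∧ g • y = x)}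
  one_mem' := by simp
  mul_mem' := by
    rintro a b (⟨h1, h2⟩ | ⟨h1, h2⟩) (⟨h3, h4⟩ | ⟨h3, h4⟩) <;> simp [mul_smul, h1, h2, h3, h4]
  inv_mem' := by
    rintro a (⟨h1, h2⟩ | ⟨h1, h2⟩) <;> simp [inv_smul_eq_iff, h1, h2]

namespace Moebius

variable {p : ℕ} {K : Type*} [Field K] {H X : Type*} [Group H] [MulAction H X]

theorem mem_pairStab {x y : X} {g : H} :
    g ∈ pairStab H x y ↔ (g • x = x ∧ g • y = y) ∨ (g • x = y ∧ g • y = x) := Iff.rfl

theorem inf_le_pairStab (x y : X) : stabilizer H x ⊓ stabilizer H y ≤ pairStab H x y :=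
  fun _ h => Or.inl h

theorem relIndex_pairStab {x y : X} (hxy : x ≠ y) {t : H} (h1 : t • x = y) (h2 : t • y = x) :
    (stabilizer H x ⊓ stabilizer H y).relIndex (pairStab H x y) = 2 := by
  rw [relIndex, index_eq_two_iff]
  refine ⟨⟨t, Or.inr ⟨h1, h2⟩⟩, ?_⟩
  rintro ⟨g, ⟨h3, h4⟩ | ⟨h3, h4⟩⟩
  · right
    refine ⟨⟨h3, h4⟩, fun h => hxy ?_⟩
    have : (g * t) • x = x := h.1
    rw [mul_smul, h1, h4] at this
    exact this.symm
  · left
    refine ⟨⟨?_, ?_⟩, fun h => hxy (h.1.symm.trans h3)⟩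
    · change (g * t) • x = x
      rw [mul_smul, h1, h4]
    · change (g * t) • y = y
      rw [mul_smul, h2, h3]

theorem card_pairStab {x y : X} (hxy : x ≠ y) {t : H} (h1 : t • x = y) (h2 : t • y = x) :
    Nat.card (pairStab H x y) = 2 * Nat.card (stabilizer H x ⊓ stabilizer H y : Subgroup H) := by
  rw [← card_mul_index ((stabilizer H x ⊓ stabilizer H y).subgroupOf (pairStab H x y)),
    ← relIndex, relIndex_pairStab hxy h1 h2,
    Nat.card_congr (subgroupOfEquivOfLe (inf_le_pairStab x y)).toEquiv, mul_comm]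

variable (M : Moebius p K H X)
include M

theorem mul_self_eq_one_of_mem_pairStab {x y : X} (hxy : x ≠ y) {s : H} (hs : s ∈ pairStab H x y)
    (hs' : s ∉ stabilizer H x ⊓ stabilizer H y) : s * s = 1 := by
  obtain ⟨h3, h4⟩ := hs.resolve_left hs'
  exact M.mul_self_eq_one_of_swap (z := x) (by rw [h3]; exact hxy.symm) (by rw [h3, h4])

theorem dihedral_pairStab [Finite H] {x y : X} (hxy : x ≠ y) {t : H} (h1 : t • x = y)
    (h2 : t • y = x) : Nonempty (pairStab H x y ≃*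
      DihedralGroup (Nat.card (stabilizer H x ⊓ stabilizer H y : Subgroup H))) := by
  have e := subgroupOfEquivOfLe (inf_le_pairStab (H := H) x y)
  have := M.isCyclic_stabilizer_inf hxy
  have : IsCyclic ((stabilizer H x ⊓ stabilizer H y).subgroupOf (pairStab H x y)) :=
    isCyclic_of_surjective _ e.symm.surjective
  exact Recog.nonempty_mulEquiv_dihedral _ (relIndex_pairStab hxy h1 h2)
    (fun g hg => Subtype.ext (M.mul_self_eq_one_of_mem_pairStab hxy g.2 hg))
    (Nat.card_congr e.toEquiv)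

theorem eq_or_eq_of_fixed {x y w : X} (hxy : x ≠ y) {g : H} (hg : g ≠ 1) (hx : g • x = x)
    (hy : g • y = y) (hw : g • w = w) : w = x ∨ w = y := by
  by_contra h
  push Not at h
  exact hg (M.three g x y w hxy h.1.symm h.2.symm hx hy hw)

theorem mem_pairStab_of_conj {x y : X} (hxy : x ≠ y) {g s : H} (hg : g ≠ 1)
    (hx : g • x = x) (hy : g • y = y) (hx' : (s⁻¹ * g * s) • x = x) (hy' : (s⁻¹ * g * s) • y = y) :
    s ∈ pairStab H x y := by
  rw [mul_smul, mul_smul, inv_smul_eq_iff] at hx' hy'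
  rcases M.eq_or_eq_of_fixed hxy hg hx hy hx' with h1 | h1 <;>
  rcases M.eq_or_eq_of_fixed hxy hg hx hy hy' with h2 | h2
  · exact absurd (MulAction.injective s (h1.trans h2.symm)) hxy
  · exact Or.inl ⟨h1, h2⟩
  · exact Or.inr ⟨h1, h2⟩
  · exact absurd (MulAction.injective s (h1.trans h2.symm)) hxy

theorem centralizer_eq_pairStab [Finite H] {x y : X} (hxy : x ≠ y) {t : H} (ht : orderOf t = 2)
    (hx : t • x = x) (hy : t • y = y) : centralizer {t} = pairStab H x y := by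
  have ht1 : t ≠ 1 := by rintro rfl; simp at ht
  have ht2 : t * t = 1 := by rw [← sq, ← ht, pow_orderOf_eq_one]
  refine le_antisymm (fun s hs => ?_) (fun s hs => ?_)
  · have : s⁻¹ * t * s = t := by
      rw [mul_assoc, ← mem_centralizer_singleton_iff.1 hs, inv_mul_cancel_left]
    exact M.mem_pairStab_of_conj hxy ht1 hx hy (by rw [this, hx]) (by rw [this, hy])
  · rw [mem_centralizer_singleton_iff]
    have htT : t ∈ stabilizer H x ⊓ stabilizer H y := ⟨hx, hy⟩
    by_cases hs' : s ∈ stabilizer H x ⊓ stabilizer H y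
    · have := M.isCyclic_stabilizer_inf hxy
      exact congrArg Subtype.val ((IsCyclic.isMulCommutative
        (α := (stabilizer H x ⊓ stabilizer H y : Subgroup H))).is_comm.comm ⟨s, hs'⟩ ⟨t, htT⟩)
    · have h1 := M.mul_self_eq_one_of_mem_pairStab hxy hs hs'
      have h2 := M.mul_self_eq_one_of_mem_pairStab hxy
        ((pairStab H x y).mul_mem hs (inf_le_pairStab x y htT))
        (fun h => hs' (by simpa using Subgroup.mul_mem _ h (Subgroup.inv_mem _ htT)))
      calc s * t = (s * t)⁻¹ := (inv_eq_of_mul_eq_one_right h2).symm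
        _ = t * s := by
          rw [_root_.mul_inv_rev, inv_eq_of_mul_eq_one_right h1, inv_eq_of_mul_eq_one_right ht2]

theorem commutator_stabilizer_le (x : X) : ⁅stabilizer H x, stabilizer H x⁆ ≤ M.uSub x := by
  obtain ⟨χ, hχ⟩ := M.chi x
  rw [commutator_le]
  intro a ha b hb
  refine ⟨(stabilizer H x).mul_mem ((stabilizer H x).mul_mem ((stabilizer H x).mul_mem ha hb)
    ((stabilizer H x).inv_mem ha)) ((stabilizer H x).inv_mem hb), ?_⟩
  exact (hχ (⟨a, ha⟩ * ⟨b, hb⟩ * ⟨a, ha⟩⁻¹ * ⟨b, hb⟩⁻¹)).1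
    (by rw [map_mul, map_mul, map_mul, map_inv, map_inv, mul_comm (χ _), mul_assoc _ _ (χ _)⁻¹]; simp)

theorem isSolvable_stabilizer [Finite H] (x : X) : Group.IsSolvable (stabilizer H x) := by
  obtain ⟨χ, hχ⟩ := M.chi x
  have := Fact.mk M.prime
  have hP : IsPGroup p χ.ker := fun h =>
    ⟨1, Subtype.ext (Subtype.ext (by simpa using (hχ h).1 h.2))⟩
  have := hP.isNilpotent
  exact Group.isSolvable_of_ker_le_range χ.ker.subtype χ (by simp)

theorem exists_uSub_smul_eq [Finite H] {x y y' : X}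
    (hi : (stabilizer H x).index = Nat.card (M.uSub x) + 1) (hx : M.uSub x ≠ ⊥)
    (hy : M.uSub y ≠ ⊥) (hy' : M.uSub y' ≠ ⊥) (hyx : y ≠ x) (hyx' : y' ≠ x) :
    ∃ u ∈ M.uSub x, u • y = y' := by
  have hfin : (orbit H x).Finite := Set.finite_range _
  have h1 : orbit (M.uSub x) y = orbit H x \ {x} := by
    refine Set.eq_of_subset_of_ncard_le ?_ ?_ hfin.sdiff
    · rintro _ ⟨u, rfl⟩
      refine ⟨mem_orbit_of_mem_orbit (u : H) ((M.mem_orbit_iff hx).2 hy), fun h => hyx ?_⟩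
      have h2 : (u : H) • y = x := h
      exact MulAction.injective (u : H) (h2.trans u.2.1.symm)
    · rw [Set.ncard_sdiff_singleton_of_mem (mem_orbit_self x), ← index_stabilizer, hi,
        ← index_stabilizer, show stabilizer (M.uSub x) y = ⊥ from ?_, index_bot]
      · simp
      · rw [eq_bot_iff]
        intro u hu
        by_contra h
        exact hyx (M.eq_of_mem_uSub u.2 (fun h2 => h (Subtype.ext h2)) hu)
  have : y' ∈ orbit (M.uSub x) y := h1 ▸ ⟨(M.mem_orbit_iff hx).2 hy', hyx'⟩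
  obtain ⟨u, hu⟩ := this
  exact ⟨u, u.2, hu⟩

theorem exists_smul_pair [Finite H] {x y x' y' : X}
    (hi : ∀ x, M.uSub x ≠ ⊥ → (stabilizer H x).index = Nat.card (M.uSub x) + 1)
    (hx : M.uSub x ≠ ⊥) (hy : M.uSub y ≠ ⊥) (hx' : M.uSub x' ≠ ⊥) (hy' : M.uSub y' ≠ ⊥)
    (hxy : x ≠ y) (hxy' : x' ≠ y') : ∃ g : H, g • x = x' ∧ g • y = y' := by
  obtain ⟨g, rfl⟩ := M.exists_smul_eq hx hx'
  obtain ⟨u, hu, h⟩ := M.exists_uSub_smul_eq (hi _ hx') hx' (y := g • y)
    (by rwa [Ne, uSub_smul_eq_bot_iff]) hy' (fun h => hxy (MulAction.injective g h).symm) hxy'.symm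
  exact ⟨u * g, by rw [mul_smul, hu.1], by rw [mul_smul, h]⟩

theorem card_stabilizer_inf [Finite H] {x y : X}
    (hi : (stabilizer H x).index = Nat.card (M.uSub x) + 1) (hx : M.uSub x ≠ ⊥)
    (hy : M.uSub y ≠ ⊥) (hxy : x ≠ y) :
    Nat.card (stabilizer H x ⊓ stabilizer H y : Subgroup H) =
      (M.uSub x).relIndex (stabilizer H x) := by
  refine le_antisymm (M.card_le_relIndex inf_le_left fun g hg hp => M.unip g x y hp hxy hg.1 hg.2) ?_
  rw [relIndex, index_eq_card]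
  refine Nat.card_le_card_of_surjective
    (fun g => QuotientGroup.mk (inclusion (inf_le_left (b := stabilizer H y)) g)) fun c => ?_
  induction c using QuotientGroup.induction_on with
  | H g =>
    have hg : (g : H) • x = x := g.2
    obtain ⟨u, hu, h⟩ := M.exists_uSub_smul_eq hi hx (y := (g : H)⁻¹ • y) (y' := y)
      (by rwa [Ne, uSub_smul_eq_bot_iff]) hy
      (fun h => hxy (by rw [inv_smul_eq_iff, hg] at h; exact h.symm)) hxy.symm
    refine ⟨⟨g * u⁻¹, (stabilizer H x).mul_mem g.2 ((stabilizer H x).inv_mem hu.1), ?_⟩, ?_⟩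
    · change ((g : H) * u⁻¹) • y = y
      nth_rewrite 1 [← h]
      rw [mul_smul, inv_smul_smul, smul_inv_smul]
    · rw [QuotientGroup.eq, mem_subgroupOf]
      simpa using hu

/-- The second fixed point of a non-split torus. -/
theorem exists_opposite [Finite H] {x : X} (hx : M.uSub x ≠ ⊥) (hs : stabilizer H x ≠ ⊤)
    {z : X} (hz1 : stabilizer H z ≠ ⊥) (hz : M.uSub z = ⊥) :
    ∃ z' : X, z ≠ z' ∧ M.uSub z' = ⊥ ∧ stabilizer H z ⊓ stabilizer H z' = stabilizer H z ∧
      ∃ t : H, t • z = z' ∧ t • z' = z := by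
  obtain ⟨⟨g, hg⟩, hg1⟩ := ne_bot_iff_exists_ne_one.1 hz1
  have hg1 : g ≠ 1 := fun h => hg1 (Subtype.ext h)
  have hgp : g ^ p ≠ 1 := fun h => by
    have : g ∈ M.uSub z := ⟨hg, h⟩
    rw [hz, mem_bot] at this
    exact hg1 this
  obtain ⟨z', hzz, hz'⟩ := M.semi g z hgp hg
  have hu : M.uSub z' = ⊥ := by
    by_contra h
    exact hg1 (M.eq_one_of_nonsplit hx hs hz h hg hz')
  have := M.isCyclic_stabilizer hz
  have hle := M.le_stabilizer_of_isCyclic (S := stabilizer H z) le_rfl hg hg1 hz'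
  refine ⟨z', hzz.symm, hu, inf_eq_left.2 hle, ?_⟩
  obtain ⟨z0, -, -, horb, -⟩ := M.exists_nonsplit hx hs
  have h1 := horb z hz1 hz
  have h2 := horb z' (fun h => hz1 (eq_bot_iff.2 (h ▸ hle))) hu
  obtain ⟨t, ht⟩ : z' ∈ orbit H z := by rw [orbit_eq_iff.2 h1]; exact h2
  have ht : t • z = z' := ht
  have heq : stabilizer H z = stabilizer H z' :=
    eq_of_le_of_card_ge hle (by rw [← ht, card_stabilizer_smul])
  refine ⟨t, ht, ?_⟩
  have h3 : (t * g * t⁻¹) • z' = z' := by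
    rw [← ht, mul_smul, inv_smul_smul, mul_smul, show g • z = z from hg]
  have h4 : (t * g * t⁻¹) • z = z := by
    have : t * g * t⁻¹ ∈ stabilizer H z := heq ▸ h3
    exact this
  rcases M.eq_or_eq_of_fixed hzz.symm (g := t * g * t⁻¹) (w := t • z') (by simpa using hg1) h4 h3
    (by rw [mul_smul, inv_smul_smul, mul_smul, hz']) with h | h
  · exact h
  · rw [← ht] at h
    rw [ht] at h
    exact absurd (MulAction.injective t (h.trans ht.symm)) hzz

end Moebius

variable {F : Type*} [Field F]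

/-- The image of the upper transvection in `PSL₂`. -/
def tauPSL (a : F) : PSL(2, F) :=
  (Matrix.SpecialLinearGroup.transvection (zero_ne_one : (0 : Fin 2) ≠ 1) a : SL(2, F))

theorem toPGL_tauPSL (a : F) : ProjectiveSpecialLinearGroup.toPGL (tauPSL a) = tau a := by
  rw [tauPSL, ProjectiveSpecialLinearGroup.toPGL_mk, tau]
  congr 1
  ext i j
  fin_cases i <;> fin_cases j <;>
    simp [Matrix.SpecialLinearGroup.transvection_coe]

theorem PSL_smul_rat_eq_iff (g : PSL(2, F)) (x y : P1 F) :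
    g • rat x = rat y ↔ ProjectiveSpecialLinearGroup.toPGL g • x = y := smul_rat_eq_iff _ _ _

theorem PSL_pow_eq_one_iff_toPGL (g : PSL(2, F)) (n : ℕ) :
    g ^ n = 1 ↔ ProjectiveSpecialLinearGroup.toPGL g ^ n = 1 := by
  rw [← map_pow]
  exact ((injective_iff_map_eq_one' _).1 ProjectiveSpecialLinearGroup.toPGL_injective _).symm

variable (p : ℕ) [Fact p.Prime] [CharP F p]

theorem card_uSub_rat_inf : Nat.card ((moebius_PSLbar (F := F) p).uSub (rat inf)) = Nat.card F := by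
  symm
  refine Nat.card_congr (Equiv.ofBijective (fun a => ⟨tauPSL a,
    (PSL_smul_rat_eq_iff _ _ _).2 (by rw [toPGL_tauPSL, tau_smul_inf]),
    by rw [PSL_pow_eq_one_iff_toPGL, toPGL_tauPSL, tau_pow_char]⟩) ⟨?_, ?_⟩)
  · intro a b h
    have := congrArg (fun x => ProjectiveSpecialLinearGroup.toPGL x.1) h
    simp only [toPGL_tauPSL] at this
    exact tau_injective this
  · rintro ⟨g, h1, h2⟩
    obtain ⟨b, hb⟩ := exists_eq_tau p ((PSL_smul_rat_eq_iff _ _ _).1 h1)
      ((PSL_pow_eq_one_iff_toPGL _ _).1 h2)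
    exact ⟨b, Subtype.ext (ProjectiveSpecialLinearGroup.toPGL_injective
      (by rw [toPGL_tauPSL, hb]))⟩

omit [Fact p.Prime] [CharP F p] in
theorem orbit_rat_inf : orbit PSL(2, F) (rat (F := F) inf) = Set.range (rat (F := F)) := by
  ext y
  constructor
  · rintro ⟨g, rfl⟩
    exact ⟨ProjectiveSpecialLinearGroup.toPGL g • inf, rat_smul _ _⟩
  · rintro ⟨x, rfl⟩
    rcases eq_inf_or_eq_pt x with rfl | ⟨a, rfl⟩
    · exact mem_orbit_self _
    · let g : SL(2, F) := ⟨!![a, -1; 1, 0], by simp [det_fin_two]⟩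
      refine ⟨QuotientGroup.mk g, ?_⟩
      refine (PSL_smul_rat_eq_iff _ _ _).2 ?_
      rw [ProjectiveSpecialLinearGroup.toPGL_mk, smul_inf_eq_pt_iff]
      change a = 1 * a
      rw [one_mul]

variable [Fintype F]

theorem uSub_rat_inf_ne_bot : (moebius_PSLbar (F := F) p).uSub (rat inf) ≠ ⊥ := by
  rw [Ne, ← card_eq_one, card_uSub_rat_inf]
  exact Finite.one_lt_card.ne'

theorem uSub_ne_bot_iff (x : Pbar F) :
    (moebius_PSLbar (F := F) p).uSub x ≠ ⊥ ↔ x ∈ Set.range (rat (F := F)) := by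
  rw [← (moebius_PSLbar p).mem_orbit_iff (uSub_rat_inf_ne_bot p), orbit_rat_inf]

theorem card_uSub_PSL {x : Pbar F} (hx : (moebius_PSLbar (F := F) p).uSub x ≠ ⊥) :
    Nat.card ((moebius_PSLbar (F := F) p).uSub x) = Fintype.card F := by
  obtain ⟨g, rfl⟩ := (moebius_PSLbar p).exists_smul_eq (uSub_rat_inf_ne_bot p) hx
  rw [Moebius.card_uSub_smul, card_uSub_rat_inf, Nat.card_eq_fintype_card]

theorem index_stabilizer_PSL {x : Pbar F} (hx : (moebius_PSLbar (F := F) p).uSub x ≠ ⊥) :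
    (stabilizer PSL(2, F) x).index = Fintype.card F + 1 := by
  rw [index_stabilizer_of_mem_orbit
    (((moebius_PSLbar p).mem_orbit_iff (uSub_rat_inf_ne_bot p)).2 hx), index_stabilizer,
    orbit_rat_inf, Set.ncard_range_of_injective rat_injective,
    Projectivization.card_of_finrank_two F _ (by simp), Nat.card_eq_fintype_card]

theorem index_stabilizer_PSL' (x : Pbar F) (hx : (moebius_PSLbar (F := F) p).uSub x ≠ ⊥) :
    (stabilizer PSL(2, F) x).index = Nat.card ((moebius_PSLbar (F := F) p).uSub x) + 1 := by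
  rw [index_stabilizer_PSL p hx, card_uSub_PSL p hx]

theorem stabilizer_PSL_ne_top {x : Pbar F} (hx : (moebius_PSLbar (F := F) p).uSub x ≠ ⊥) :
    stabilizer PSL(2, F) x ≠ ⊤ := by
  rw [Ne, ← index_eq_one, index_stabilizer_PSL p hx]
  have : 0 < Fintype.card F := Fintype.card_pos
  omega

omit [Fact p.Prime] [CharP F p] in
theorem sq_sub_one_eq (q : ℕ) : q ^ 2 - 1 = (q + 1) * (q - 1) := by
  simpa using Nat.sq_sub_sq q 1

theorem gcd_mul_relIndex {x : Pbar F} (hx : (moebius_PSLbar (F := F) p).uSub x ≠ ⊥) :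
    Nat.gcd 2 (Fintype.card F - 1) *
      ((moebius_PSLbar (F := F) p).uSub x).relIndex (stabilizer PSL(2, F) x) =
      Fintype.card F - 1 := by
  have h1 := (stabilizer PSL(2, F) x).card_mul_index
  have h2 := card_PSL (F := F)
  rw [(moebius_PSLbar p).card_stabilizer, index_stabilizer_PSL p hx, card_uSub_PSL p hx] at h1
  rw [← h1, sq_sub_one_eq] at h2
  have hq : 0 < Fintype.card F := Fintype.card_pos
  apply Nat.eq_of_mul_eq_mul_left (show 0 < Fintype.card F * (Fintype.card F + 1) by positivity)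
  linear_combination h2

theorem card_split {x y : Pbar F} (hx : (moebius_PSLbar (F := F) p).uSub x ≠ ⊥)
    (hy : (moebius_PSLbar (F := F) p).uSub y ≠ ⊥) (hxy : x ≠ y) :
    Nat.card (stabilizer PSL(2, F) x ⊓ stabilizer PSL(2, F) y : Subgroup _) =
      (Fintype.card F - 1) / Nat.gcd 2 (Fintype.card F - 1) := by
  rw [(moebius_PSLbar p).card_stabilizer_inf (index_stabilizer_PSL' p x hx) hx hy hxy, eq_comm,
    Nat.div_eq_iff_eq_mul_right (Nat.gcd_pos_of_pos_left _ two_pos) (Nat.gcd_dvd_right _ _),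
    gcd_mul_relIndex p hx]

theorem gcd_mul_card_nonsplit {z : Pbar F} (hz1 : stabilizer PSL(2, F) z ≠ ⊥)
    (hz : (moebius_PSLbar (F := F) p).uSub z = ⊥) :
    Nat.gcd 2 (Fintype.card F - 1) * Nat.card (stabilizer PSL(2, F) z) = Fintype.card F + 1 := by
  have hx := uSub_rat_inf_ne_bot (F := F) p
  obtain ⟨z0, -, -, horb, heq⟩ := (moebius_PSLbar p).exists_nonsplit hx (stabilizer_PSL_ne_top p hx)
  rw [← index_stabilizer_of_mem_orbit (horb z hz1 hz), index_stabilizer_PSL p hx,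
    card_uSub_PSL p hx] at heq
  have h1 := (stabilizer PSL(2, F) z).card_mul_index
  have h2 := card_PSL (F := F)
  rw [← h1, sq_sub_one_eq] at h2
  have hq : 1 < Fintype.card F := Fintype.one_lt_card
  obtain ⟨r, hr⟩ : ∃ r, Fintype.card F = r + 1 := ⟨Fintype.card F - 1, by omega⟩
  rw [hr] at heq h2 hq ⊢
  simp only [Nat.add_sub_cancel] at h2 ⊢
  have h3 : (stabilizer PSL(2, F) z).index = (r + 1) * r := by nlinarith
  rw [h3] at h2
  apply Nat.eq_of_mul_eq_mul_left (show 0 < (r + 1) * r from Nat.mul_pos (by omega) (by omega))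
  linear_combination h2

theorem card_nonsplit {z : Pbar F} (hz1 : stabilizer PSL(2, F) z ≠ ⊥)
    (hz : (moebius_PSLbar (F := F) p).uSub z = ⊥) :
    Nat.card (stabilizer PSL(2, F) z) =
      (Fintype.card F + 1) / Nat.gcd 2 (Fintype.card F - 1) := by
  rw [← gcd_mul_card_nonsplit p hz1 hz, Nat.mul_div_cancel_left _ (Nat.gcd_pos_of_pos_left _ two_pos)]

include p in
theorem exists_dihedral_split : ∃ D : Subgroup PSL(2, F),
    Nonempty (D ≃* DihedralGroup ((Fintype.card F - 1) / Nat.gcd 2 (Fintype.card F - 1))) := by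
  have hx := (uSub_ne_bot_iff p _).2 ⟨(inf : P1 F), rfl⟩
  have hy := (uSub_ne_bot_iff p _).2 ⟨pt (0 : F), rfl⟩
  have hxy : rat (F := F) inf ≠ rat (pt 0) := fun h => pt_ne_inf _ (rat_injective h).symm
  obtain ⟨t, h1, h2⟩ := (moebius_PSLbar p).exists_smul_pair (index_stabilizer_PSL' p) hx hy hy hx
    hxy hxy.symm
  exact ⟨_, card_split p hx hy hxy ▸ (moebius_PSLbar p).dihedral_pairStab hxy h1 h2⟩

include p in
theorem exists_dihedral_nonsplit : ∃ D : Subgroup PSL(2, F),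
    Nonempty (D ≃* DihedralGroup ((Fintype.card F + 1) / Nat.gcd 2 (Fintype.card F - 1))) := by
  have hx := uSub_rat_inf_ne_bot (F := F) p
  have hs := stabilizer_PSL_ne_top p hx
  obtain ⟨z, hz1, hz2, -⟩ := (moebius_PSLbar p).exists_nonsplit hx hs
  obtain ⟨z', h1, -, h2, t, h3, h4⟩ := (moebius_PSLbar p).exists_opposite hx hs hz1 hz2
  have := (moebius_PSLbar p).dihedral_pairStab h1 h3 h4
  rw [h2, card_nonsplit p hz1 hz2] at this
  exact ⟨_, this⟩

/-- **Dickson's theorem** for `PSL₂(q)`. -/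
theorem dickson_PSL (H : Subgroup PSL(2, F)) :
    (∃ k : ℕ, (k ∣ (Fintype.card F + 1) / Nat.gcd 2 (Fintype.card F - 1) ∨
        k ∣ (Fintype.card F - 1) / Nat.gcd 2 (Fintype.card F - 1)) ∧
      ((IsCyclic H ∧ Nat.card H = k) ∨ Nonempty (H ≃* DihedralGroup k))) ∨
    (∃ x : Pbar F, (moebius_PSLbar (F := F) p).uSub x ≠ ⊥ ∧ H ≤ stabilizer PSL(2, F) x) ∨
    Nonempty (H ≃* alternatingGroup (Fin 4)) ∨ Nonempty (H ≃* Equiv.Perm (Fin 4)) ∨
    Nonempty (H ≃* alternatingGroup (Fin 5)) ∨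
    ∃ k : Subfield F, Nonempty (H ≃* PSL(2, k)) ∨ Nonempty (H ≃* PGL(2, k)) := by
  have e : H ≃* H.map ProjectiveSpecialLinearGroup.toPGL :=
    H.equivMapOfInjective _ ProjectiveSpecialLinearGroup.toPGL_injective
  have hdih : ∀ n, ¬ p ∣ n → (H ≃* DihedralGroup n) →
      n ∣ (Fintype.card F + 1) / Nat.gcd 2 (Fintype.card F - 1) ∨
        n ∣ (Fintype.card F - 1) / Nat.gcd 2 (Fintype.card F - 1) := fun n hn e' => by
    have h1 : orderOf ((e'.symm (DihedralGroup.r 1) : H) : PSL(2, F)) = n := by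
      rw [orderOf_coe, MulEquiv.orderOf_eq, DihedralGroup.orderOf_r_one]
    have := orderOf_PSL_dvd_of_not_dvd p (h1 ▸ hn)
    rw [h1] at this
    exact this.symm
  by_cases hp : p ∣ Nat.card (H.map ProjectiveSpecialLinearGroup.toPGL)
  · rcases dickson_PGL_dvd p _ hp with ⟨x, hx⟩ | ⟨k, γ, h | ⟨-, h⟩⟩ | ⟨-, n, hn, ⟨e'⟩⟩ | ⟨-, ⟨e'⟩⟩
    · exact Or.inr (Or.inl ⟨rat x, (uSub_ne_bot_iff p _).2 ⟨x, rfl⟩, fun g hg =>
        (PSL_smul_rat_eq_iff _ _ _).2 (hx ⟨g, hg, rfl⟩)⟩)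
    · refine Or.inr (Or.inr (Or.inr (Or.inr (Or.inr ⟨k, Or.inr ⟨?_⟩⟩))))
      exact (e.trans (MulEquiv.subgroupCongr h)).trans
        (((subPGL k).equivMapOfInjective _ (MulAut.conj γ).injective).symm.trans
          (subPGLEquiv k).symm)
    · refine Or.inr (Or.inr (Or.inr (Or.inr (Or.inr ⟨k, Or.inl ⟨?_⟩⟩))))
      exact (e.trans (MulEquiv.subgroupCongr h)).trans
        (((subPSL k).equivMapOfInjective _ (MulAut.conj γ).injective).symm.trans
          (subPSLEquiv k).symm)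
    · exact Or.inl ⟨n, hdih n hn (e.trans e'), Or.inr ⟨e.trans e'⟩⟩
    · exact Or.inr (Or.inr (Or.inr (Or.inr (Or.inl ⟨e.trans e'⟩))))
  · rcases dickson_PGL_not_dvd p _ hp with h | ⟨n, hn, ⟨e'⟩⟩ | ⟨⟨e'⟩⟩ | ⟨⟨e'⟩⟩ | ⟨⟨e'⟩⟩
    · have hc : IsCyclic H := isCyclic_of_surjective _ e.symm.surjective
      refine Or.inl ⟨Nat.card H, ?_, Or.inl ⟨hc, rfl⟩⟩
      obtain ⟨g, hg⟩ := IsCyclic.exists_ofOrder_eq_natCard (α := H)
      rw [← Nat.card_congr e.toEquiv, ← hg, ← orderOf_coe] at hp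
      rw [← hg, ← orderOf_coe]
      exact (orderOf_PSL_dvd_of_not_dvd p hp).symm
    · exact Or.inl ⟨n, hdih n hn (e.trans e'), Or.inr ⟨e.trans e'⟩⟩
    · exact Or.inr (Or.inr (Or.inl ⟨e.trans e'⟩))
    · exact Or.inr (Or.inr (Or.inr (Or.inl ⟨e.trans e'⟩)))
    · exact Or.inr (Or.inr (Or.inr (Or.inr (Or.inl ⟨e.trans e'⟩))))

end CL.PSL2
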