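import Cfsg.Agent.Base
import Cfsg.Agent.Alt.Carmichael

/-!
The triangle presentations `x ^ 2 = y ^ 3 = (x * y) ^ k = 1` for `k = 3, 4, 5`: homomorphisms from
`A₄`, `S₄` and `A₅`.
-/

set_option autoImplicit false

namespace CL.PSL2

open Subgroup Equiv

variable {H : Type*} [Group H]

/-- If the graph of an assignment on generators generates a group no larger than `A`, then the
assignment extends to a homomorphism. -/
theorem exists_hom_of_card_le {A : Type*} [Group A] [Finite A] (S : Set (A × H))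
    (hS : closure (Prod.fst '' S) = ⊤) [Finite (closure S)]
    (hc : Nat.card (closure S) ≤ Nat.card A) : ∃ f : A →* H, ∀ s ∈ S, f s.1 = s.2 := by
  let π : closure S →* A := (MonoidHom.fst A H).comp (closure S).subtype
  have hπ : Function.Surjective π := by
    rw [← MonoidHom.range_eq_top, MonoidHom.range_comp, range_subtype, MonoidHom.map_closure]
    exact hS
  have hb : Function.Bijective π :=
    hπ.bijective_of_nat_card_le hc
  let e := MulEquiv.ofBijective π hb
  refine ⟨((MonoidHom.snd A H).comp (closure S).subtype).comp e.symm.toMonoidHom, fun s hs => ?_⟩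
  have : e.symm s.1 = ⟨s, subset_closure hs⟩ := by
    rw [MulEquiv.symm_apply_eq]; rfl
  simp [this]

theorem finite_card_le_of_subset {K : Subgroup H} {T : Finset H} (h : (K : Set H) ⊆ T) :
    Finite K ∧ Nat.card K ≤ T.card := by
  refine ⟨(T.finite_toSet.subset h).to_subtype, ?_⟩
  rw [← Set.ncard_coe_finset]
  exact Set.ncard_le_ncard h T.finite_toSet

theorem mul_sq_comm {a b : H} (h : (a * b) ^ 2 = 1) : (b * a) ^ 2 = 1 := by
  have : (b * a) ^ 2 = a⁻¹ * (a * b) ^ 2 * a := by simp only [sq]; group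
  rw [this, h]; group

theorem card_closure_le_twelve {a b : H} (ha : a ^ 3 = 1) (hb : b ^ 3 = 1)
    (hab : (a * b) ^ 2 = 1) :
    Finite (closure ({a, b} : Set H)) ∧ Nat.card (closure ({a, b} : Set H)) ≤ 12 := by
  obtain ⟨T, hT, hc⟩ := Alt.carmichael_bound ![a, b] Finset.univ
    (fun i _ => by fin_cases i <;> simpa)
    (fun i _ j _ hij => by
      have := mul_sq_comm hab
      fin_cases i <;> fin_cases j <;> simp_all)
  have h1 : (![a, b] '' ((Finset.univ : Finset (Fin 2)) : Set (Fin 2))) = {a, b} := by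
    simp [Set.pair_comm]
  rw [h1] at hT
  obtain ⟨h2, h3⟩ := finite_card_le_of_subset hT
  refine ⟨h2, h3.trans ?_⟩
  simp [Nat.factorial] at hc
  omega

theorem card_closure_le_sixty {a b c : H} (ha : a ^ 3 = 1) (hb : b ^ 3 = 1) (hc : c ^ 3 = 1)
    (hab : (a * b) ^ 2 = 1) (hbc : (b * c) ^ 2 = 1) (hca : (c * a) ^ 2 = 1) :
    Finite (closure ({a, b, c} : Set H)) ∧ Nat.card (closure ({a, b, c} : Set H)) ≤ 60 := by
  obtain ⟨T, hT, hc⟩ := Alt.carmichael_bound ![a, b, c] Finset.univ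
    (fun i _ => by fin_cases i <;> simpa)
    (fun i _ j _ hij => by
      have := mul_sq_comm hab
      have := mul_sq_comm hbc
      have := mul_sq_comm hca
      fin_cases i <;> fin_cases j <;> simp_all)
  have h1 : (![a, b, c] '' ((Finset.univ : Finset (Fin 3)) : Set (Fin 3))) = {a, b, c} := by
    ext x
    simp [eq_comm]
    tauto
  rw [h1] at hT
  obtain ⟨h2, h3⟩ := finite_card_le_of_subset hT
  refine ⟨h2, h3.trans ?_⟩
  simp [Nat.factorial] at hc
  omega

theorem card_closure_le_of_two_three_three {x y : H} (hx : x ^ 2 = 1) (hy : y ^ 3 = 1)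
    (hxy : (x * y) ^ 3 = 1) :
    Finite (closure ({x, y} : Set H)) ∧ Nat.card (closure ({x, y} : Set H)) ≤ 12 := by
  have h := card_closure_le_twelve hxy (b := y⁻¹) (by simp [hy]) (by simp [hx])
  have : closure ({x * y, y⁻¹} : Set H) = closure {x, y} := by
    have h1 : x ∈ closure ({x, y} : Set H) := subset_closure (by simp)
    have h2 : y ∈ closure ({x, y} : Set H) := subset_closure (by simp)
    have h3 : x * y ∈ closure ({x * y, y⁻¹} : Set H) := subset_closure (by simp)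
    have h4 : y⁻¹ ∈ closure ({x * y, y⁻¹} : Set H) := subset_closure (by simp)
    refine le_antisymm ((closure_le _).2 ?_) ((closure_le _).2 ?_)
    · rintro _ (rfl | rfl)
      exacts [mul_mem h1 h2, inv_mem h2]
    · rintro _ (rfl | rfl)
      exacts [by simpa using mul_mem h3 h4, by simpa using inv_mem h4]
  rwa [this] at h

theorem card_closure_le_of_two_three_four {x y : H} (hx : x ^ 2 = 1) (hy : y ^ 3 = 1)
    (hxy : (x * y) ^ 4 = 1) :
    Finite (closure ({x, y} : Set H)) ∧ Nat.card (closure ({x, y} : Set H)) ≤ 24 := by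
  have hxi : x⁻¹ = x := inv_eq_of_mul_eq_one_right (by rw [← sq, hx])
  have hxx : x * x = 1 := by rw [← sq, hx]
  obtain ⟨h1, h2⟩ := card_closure_le_twelve (a := x * y * x⁻¹) (b := y) (by rw [conj_pow, hy]; simp)
    hy (by rw [hxi, ← hxy]; simp only [pow_succ, pow_zero, one_mul, mul_assoc])
  set K := closure ({x * y * x⁻¹, y} : Set H)
  have hy1 : y ∈ K := subset_closure (by simp)
  have hy2 : x * y * x⁻¹ ∈ K := subset_closure (by simp)
  have hK : ∀ k ∈ K, x * k * x⁻¹ ∈ K := fun k hk => by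
    induction hk using closure_induction with
    | mem z hz =>
      rcases hz with rfl | rfl
      · rwa [show x * (x * y * x⁻¹) * x⁻¹ = (x * x) * y * (x * x)⁻¹ by group, hxx, one_mul,
          inv_one, mul_one]
      · exact hy2
    | one => simp
    | mul a b _ _ ha hb => rw [← conj_mul]; exact mul_mem ha hb
    | inv a _ ha => rw [← conj_inv]; exact inv_mem ha
  have hsub : ∀ g ∈ closure ({x, y} : Set H), g ∈ K ∨ x * g ∈ K := fun g hg => by
    induction hg using closure_induction with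
    | mem z hz =>
      rcases hz with rfl | rfl
      · right; rw [hxx]; exact one_mem _
      · exact Or.inl hy1
    | one => exact Or.inl (one_mem _)
    | mul a b _ _ ha hb =>
      rcases ha with ha | ha <;> rcases hb with hb | hb
      · exact Or.inl (mul_mem ha hb)
      · right
        simpa [mul_assoc] using mul_mem (hK a ha) hb
      · right
        simpa [mul_assoc] using mul_mem ha hb
      · left
        have := mul_mem (hK _ ha) hb
        rwa [show x * (x * a) * x⁻¹ * (x * b) = (x * x) * (a * b) by group, hxx, one_mul] at this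
    | inv a _ ha =>
      rcases ha with ha | ha
      · exact Or.inl (inv_mem ha)
      · right
        have := hK _ (inv_mem ha)
        rwa [show x * (x * a)⁻¹ * x⁻¹ = x * a⁻¹ * (x * x)⁻¹ by group, hxx, inv_one, mul_one] at this
  have hs : ((closure ({x, y} : Set H) : Subgroup H) : Set H) ⊆ K ∪ (fun k => x * k) '' K := by
    intro g hg
    rcases hsub g hg with h | h
    · exact Or.inl h
    · exact Or.inr ⟨_, h, by simp [← mul_assoc, hxx]⟩
  have hf : (K : Set H).Finite := h1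
  refine ⟨((hf.union (hf.image _)).subset hs).to_subtype, ?_⟩
  have h3 := Set.ncard_le_ncard hs (hf.union (hf.image _))
  have h4 := Set.ncard_union_le (K : Set H) ((fun k => x * k) '' K)
  have h5 := Set.ncard_image_le (f := fun k => x * k) hf
  change (K : Set H).ncard ≤ 12 at h2
  change Set.ncard ((closure ({x, y} : Set H) : Subgroup H) : Set H) ≤ 24
  omega

theorem sq_eq_one_of_two_three_five {x y : H} (hx : x ^ 2 = 1) (hy : y ^ 3 = 1)
    (hxy : (x * y) ^ 5 = 1) : (y * ((x * y * x⁻¹) * y * (x * y * x⁻¹)⁻¹)) ^ 2 = 1 := by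
  have hxx : x * x = 1 := by rw [← sq, hx]
  have hxi : x⁻¹ = x := inv_eq_of_mul_eq_one_right hxx
  have h1 : y * (x * y * x * y) * x = x⁻¹ * (x * y) ^ 5 * (y⁻¹ * x⁻¹ * y⁻¹) := by
    simp only [pow_succ, pow_zero, one_mul]; group
  have h2 : y⁻¹ * y⁻¹ = y := by
    rw [← mul_inv_rev, inv_eq_iff_mul_eq_one, ← hy]; simp only [pow_succ, pow_zero, one_mul]
  have h3 : y * ((x * y * x⁻¹) * y * (x * y * x⁻¹)⁻¹) = (x * y⁻¹) * x * (x * y⁻¹)⁻¹ := by
    calc y * ((x * y * x⁻¹) * y * (x * y * x⁻¹)⁻¹)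
        = y * (x * y * x⁻¹ * y) * x * y⁻¹ * x⁻¹ := by group
      _ = x * y⁻¹ * x * (y⁻¹ * y⁻¹) * x⁻¹ := by
        rw [hxi, h1, hxy, hxi]; group
      _ = _ := by rw [h2]; group
  rw [h3, conj_pow, hx]; simp

private theorem A4_data : ∃ a b : alternatingGroup (Fin 4), a ^ 2 = 1 ∧ b ^ 3 = 1 ∧
    (a * b) ^ 3 = 1 ∧ (∀ g, ∃ i j k : Fin 3, g = b ^ (i : ℕ) * a ^ (j : ℕ) * b ^ (k : ℕ)) ∧
    ∀ g, g ≠ 1 → ∃ h k, a = h * g * h⁻¹ * (k * g⁻¹ * k⁻¹) :=
  ⟨⟨swap 0 1 * swap 2 3, Perm.mem_alternatingGroup.2 (by decide)⟩,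
    ⟨swap 0 1 * swap 1 2, Perm.mem_alternatingGroup.2 (by decide)⟩, by decide, by decide,
    by decide, by decide +kernel, by decide +kernel⟩

private theorem S4_data : ∃ a b : Perm (Fin 4), a ^ 2 = 1 ∧ b ^ 3 = 1 ∧
    (a * b) ^ 4 = 1 ∧ (∀ g, ∃ i j k l : Fin 4,
      g = a ^ (i : ℕ) * b ^ (j : ℕ) * (a * b) ^ (k : ℕ) * b ^ (l : ℕ)) ∧
    ∀ g, g ≠ 1 → ∃ h k, (a * b) ^ 2 = h * g * h⁻¹ * (k * g⁻¹ * k⁻¹) :=
  ⟨swap 0 3, swap 0 1 * swap 1 2, by decide, by decide,
    by decide, by decide +kernel, by decide +kernel⟩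

private theorem A5_data : ∃ a b c : alternatingGroup (Fin 5), a ^ 3 = 1 ∧ b ^ 3 = 1 ∧ c ^ 3 = 1 ∧
    (a * b) ^ 2 = 1 ∧ (b * c) ^ 2 = 1 ∧ (c * a) ^ 2 = 1 ∧
    closure ({a, b, c} : Set (alternatingGroup (Fin 5))) = ⊤ := by
  let x : Fin 5 → alternatingGroup (Fin 5) := fun i =>
    if h : 0 = i then 1 else ⟨Alt.cyc 0 1 i, Alt.cyc_mem (by decide) h⟩
  refine ⟨x 2, x 3, x 4, by decide, by decide, by decide, by decide, by decide, by decide, ?_⟩
  rw [← Alt.closure_eq_top_of_coe_eq_cyc (p := 0) (q := 1) (by decide) x (by decide),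
    show Alt.rest (0 : Fin 5) 1 = {2, 3, 4} by decide]
  simp [Set.image_insert_eq]

private theorem range_eq_closure_pair {A : Type*} [Group A] (f : A →* H) {a b : A}
    (h : closure ({a, b} : Set A) = ⊤) : f.range = closure {f a, f b} := by
  rw [MonoidHom.range_eq_map, ← h, MonoidHom.map_closure, Set.image_pair]

/-- `⟨x, y | x², y³, (xy)³⟩` is `A₄`. -/
theorem nonempty_closure_mulEquiv_A4 {x y : H} (hx : x ^ 2 = 1) (hy : y ^ 3 = 1)
    (hxy : (x * y) ^ 3 = 1) (h1 : x ≠ 1) :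
    Nonempty (closure ({x, y} : Set H) ≃* alternatingGroup (Fin 4)) := by
  obtain ⟨a, b, ha, hb, hab, hgen, hn⟩ := A4_data
  have htop : closure ({a, b} : Set (alternatingGroup (Fin 4))) = ⊤ := by
    rw [eq_top_iff]
    intro g _
    obtain ⟨i, j, k, rfl⟩ := hgen g
    have h1 : a ∈ closure ({a, b} : Set _) := subset_closure (by simp)
    have h2 : b ∈ closure ({a, b} : Set _) := subset_closure (by simp)
    exact mul_mem (mul_mem (pow_mem h2 _) (pow_mem h1 _)) (pow_mem h2 _)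
  obtain ⟨h2, h3⟩ := card_closure_le_of_two_three_three (x := (a, x)) (y := (b, y))
    (Prod.ext ha hx) (Prod.ext hb hy) (Prod.ext hab hxy)
  obtain ⟨f, hf⟩ := exists_hom_of_card_le {(a, x), (b, y)} (by rwa [Set.image_pair])
    (by rw [nat_card_alternatingGroup]; simpa [Nat.factorial] using h3)
  have hfa : f a = x := hf (a, x) (by simp)
  have hfb : f b = y := hf (b, y) (by simp)
  have hinj : Function.Injective f := (injective_iff_map_eq_one f).2 fun g hg => by
    by_contra hne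
    obtain ⟨h, k, hk⟩ := hn g hne
    apply h1
    rw [← hfa, hk]
    simp [hg]
  rw [← hfa, ← hfb, ← range_eq_closure_pair f htop]
  exact ⟨(MonoidHom.ofInjective hinj).symm⟩

/-- `⟨x, y | x², y³, (xy)⁴⟩` is `S₄`. -/
theorem nonempty_closure_mulEquiv_S4 {x y : H} (hx : x ^ 2 = 1) (hy : y ^ 3 = 1)
    (hxy : (x * y) ^ 4 = 1) (h1 : (x * y) ^ 2 ≠ 1) :
    Nonempty (closure ({x, y} : Set H) ≃* Perm (Fin 4)) := by
  obtain ⟨a, b, ha, hb, hab, hgen, hn⟩ := S4_data
  have htop : closure ({a, b} : Set (Perm (Fin 4))) = ⊤ := by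
    rw [eq_top_iff]
    intro g _
    obtain ⟨i, j, k, l, rfl⟩ := hgen g
    have h1 : a ∈ closure ({a, b} : Set _) := subset_closure (by simp)
    have h2 : b ∈ closure ({a, b} : Set _) := subset_closure (by simp)
    exact mul_mem (mul_mem (mul_mem (pow_mem h1 _) (pow_mem h2 _)) (pow_mem (mul_mem h1 h2) _))
      (pow_mem h2 _)
  obtain ⟨h2, h3⟩ := card_closure_le_of_two_three_four (x := (a, x)) (y := (b, y))
    (Prod.ext ha hx) (Prod.ext hb hy) (Prod.ext hab hxy)
  obtain ⟨f, hf⟩ := exists_hom_of_card_le {(a, x), (b, y)} (by rwa [Set.image_pair])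
    (by rw [Nat.card_perm]; simpa [Nat.factorial] using h3)
  have hfa : f a = x := hf (a, x) (by simp)
  have hfb : f b = y := hf (b, y) (by simp)
  have hinj : Function.Injective f := (injective_iff_map_eq_one f).2 fun g hg => by
    by_contra hne
    obtain ⟨h, k, hk⟩ := hn g hne
    apply h1
    rw [← hfa, ← hfb, ← map_mul, ← map_pow, hk]
    simp [hg]
  rw [← hfa, ← hfb, ← range_eq_closure_pair f htop]
  exact ⟨(MonoidHom.ofInjective hinj).symm⟩

/-- Carmichael's presentation of `A₅`. -/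
theorem nonempty_closure_mulEquiv_A5 {x y z : H} (hx : x ^ 3 = 1) (hy : y ^ 3 = 1) (hz : z ^ 3 = 1)
    (hxy : (x * y) ^ 2 = 1) (hyz : (y * z) ^ 2 = 1) (hzx : (z * x) ^ 2 = 1) (h1 : x ≠ 1) :
    Nonempty (closure ({x, y, z} : Set H) ≃* alternatingGroup (Fin 5)) := by
  obtain ⟨a, b, c, ha, hb, hc, hab, hbc, hca, htop⟩ := A5_data
  obtain ⟨h2, h3⟩ := card_closure_le_sixty (a := (a, x)) (b := (b, y)) (c := (c, z))
    (Prod.ext ha hx) (Prod.ext hb hy) (Prod.ext hc hz) (Prod.ext hab hxy) (Prod.ext hbc hyz)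
    (Prod.ext hca hzx)
  obtain ⟨f, hf⟩ := exists_hom_of_card_le {(a, x), (b, y), (c, z)}
    (by simpa [Set.image_insert_eq] using htop)
    (by rw [nat_card_alternatingGroup]; simpa [Nat.factorial] using h3)
  have hfa : f a = x := hf (a, x) (by simp)
  have hfb : f b = y := hf (b, y) (by simp)
  have hfc : f c = z := hf (c, z) (by simp)
  have hinj : Function.Injective f := by
    rw [← MonoidHom.ker_eq_bot_iff]
    refine (IsSimpleGroup.eq_bot_or_eq_top_of_normal f.ker inferInstance).resolve_right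
      fun h => h1 ?_
    rw [← hfa]
    exact (h ▸ mem_top a : a ∈ f.ker)
  have : f.range = closure {x, y, z} := by
    rw [MonoidHom.range_eq_map, ← htop, MonoidHom.map_closure]
    simp [Set.image_insert_eq, hfa, hfb, hfc]
  rw [← this]
  exact ⟨(MonoidHom.ofInjective hinj).symm⟩

theorem nonempty_closure_conj_mulEquiv_A5 {a g : H} (ha : a ^ 3 = 1) (hg : g ^ 3 = 1)
    (h : (a * (g * a * g⁻¹)) ^ 2 = 1) (h1 : a ≠ 1) :
    Nonempty (closure ({a, g * a * g⁻¹, g⁻¹ * a * g} : Set H) ≃* alternatingGroup (Fin 5)) := by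
  have hgg : g * g = g⁻¹ := by
    rw [eq_inv_iff_mul_eq_one, ← hg]; simp only [pow_succ, pow_zero, one_mul]
  refine nonempty_closure_mulEquiv_A5 ha (by rw [conj_pow, ha]; simp)
    (by simpa using (conj_pow (a := g⁻¹) (b := a) (i := 3)).trans (by rw [ha]; simp)) h ?_ ?_ h1
  · have : g * a * g⁻¹ * (g⁻¹ * a * g) = g * (a * (g * a * g⁻¹)) * g⁻¹ := by
      calc g * a * g⁻¹ * (g⁻¹ * a * g) = g * a * (g * g)⁻¹ * a * (g⁻¹)⁻¹ := by group
        _ = g * a * (g⁻¹)⁻¹ * a * (g * g)⁻¹ := by rw [hgg]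
        _ = _ := by group
    rw [this, conj_pow, h]; simp
  · have : g⁻¹ * a * g * a = g⁻¹ * (a * (g * a * g⁻¹)) * g⁻¹⁻¹ := by group
    rw [this, conj_pow, h]; simp

/-- A non-trivial quotient of `⟨x, y | x², y³, (xy)⁵⟩` contains (indeed is) `A₅`. -/
theorem exists_subgroup_A5 {x y : H} (hx : x ^ 2 = 1) (hy : y ^ 3 = 1) (hxy : (x * y) ^ 5 = 1)
    (h1 : y ≠ 1) : ∃ K : Subgroup H, Nonempty (K ≃* alternatingGroup (Fin 5)) :=
  ⟨_, nonempty_closure_conj_mulEquiv_A5 hy (g := x * y * x⁻¹) (by rw [conj_pow, hy]; simp)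
    (sq_eq_one_of_two_three_five hx hy hxy) h1⟩

end CL.PSL2
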