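import Cfsg.Agent.Base
import Cfsg.Agent.PSL2.Torus
import Cfsg.Agent.PSL2.Triangle

/-!
Existence of subgroups `A₄`, `S₄`, `A₅` in `PSL₂(q)`.
-/

set_option autoImplicit false

namespace CL.PSL2

open MulAction Subgroup Matrix Polynomial
open scoped MatrixGroups

variable {F : Type*} [Field F]

private theorem exists_traces_aux {a b τ : F} (h : a ^ 2 - a + (b ^ 2 + τ * b + 1) = 0) :
    ∃ x y : SL(2, F), (x : PSL(2, F)) ≠ 1 ∧
    (x : Matrix (Fin 2) (Fin 2) F).trace = 0 ∧ (y : Matrix (Fin 2) (Fin 2) F).trace = 1 ∧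
      ((x * y : SL(2, F)) : Matrix (Fin 2) (Fin 2) F).trace = τ := by
  refine ⟨⟨!![0, 1; -1, 0], by simp [det_fin_two]⟩,
    ⟨!![a, b; b + τ, 1 - a], by simp only [det_fin_two_of]; linear_combination -h⟩, ?_,
    by simp [trace_fin_two], by simp [trace_fin_two], ?_⟩
  · refine fun h => ((PSL_mk_eq_one_iff _).1 h).elim (fun h => ?_) (fun h => ?_)
    · have h1 := congrFun (congrFun (congrArg Subtype.val h) 0) 1
      simp at h1
    · have h1 := congrFun (congrFun (congrArg Subtype.val h) 0) 1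
      simp at h1
  · change (!![0, 1; -1, 0] * !![a, b; b + τ, 1 - a] : Matrix (Fin 2) (Fin 2) F).trace = τ
    simp [trace_fin_two]

theorem exists_traces [Fintype F] (h : Odd (Fintype.card F) ∨ ∃ ω : F, ω ^ 2 + ω + 1 = 0) (τ : F) :
    ∃ x y : SL(2, F), (x : PSL(2, F)) ≠ 1 ∧
    (x : Matrix (Fin 2) (Fin 2) F).trace = 0 ∧ (y : Matrix (Fin 2) (Fin 2) F).trace = 1 ∧
      ((x * y : SL(2, F)) : Matrix (Fin 2) (Fin 2) F).trace = τ := by
  rcases h with hodd | ⟨ω, hω⟩
  · obtain ⟨a, b, h⟩ := FiniteField.exists_root_sum_quadratic (f := (X ^ 2 - X : F[X]))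
      (g := X ^ 2 + C τ * X + 1) (by compute_degree!) (by compute_degree!) (Nat.odd_iff.1 hodd)
    simp only [eval_sub, eval_pow, eval_X, eval_add, eval_mul, eval_C, eval_one] at h
    exact exists_traces_aux h
  · exact exists_traces_aux (a := -ω) (b := 0) (by linear_combination hω)

theorem exists_triangle [Fintype F] (h : Odd (Fintype.card F) ∨ ∃ ω : F, ω ^ 2 + ω + 1 = 0)
    (τ : F) : ∃ (x y : PSL(2, F)) (z : SL(2, F)), x ≠ 1 ∧ x ^ 2 = 1 ∧ y ^ 3 = 1 ∧ x * y = z ∧
      (z : Matrix (Fin 2) (Fin 2) F).trace = τ := by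
  obtain ⟨x, y, h1, hx, hy, hxy⟩ := exists_traces h τ
  exact ⟨x, y, x * y, h1, PSL_pow_eq_one_of_cheb x 2 (by rw [cheb_two, hx]),
    PSL_pow_eq_one_of_cheb y 3 (by rw [cheb_three, hy]; simp), rfl, hxy⟩

theorem exists_subgroup_A4 [Fintype F] (h : Odd (Fintype.card F) ∨ ∃ ω : F, ω ^ 2 + ω + 1 = 0) :
    ∃ H : Subgroup PSL(2, F), Nonempty (H ≃* alternatingGroup (Fin 4)) := by
  obtain ⟨x, y, z, h1, hx, hy, hz, ht⟩ := exists_triangle h (1 : F)
  exact ⟨_, nonempty_closure_mulEquiv_A4 hx hy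
    (hz ▸ PSL_pow_eq_one_of_cheb z 3 (by rw [cheb_three, ht]; simp)) h1⟩

theorem exists_subgroup_S4 [Fintype F] (h : Odd (Fintype.card F)) {τ : F} (hτ : τ ^ 2 = 2) :
    ∃ H : Subgroup PSL(2, F), Nonempty (H ≃* Equiv.Perm (Fin 4)) := by
  obtain ⟨x, y, z, h1, hx, hy, hz, ht⟩ := exists_triangle (Or.inl h) τ
  have h2 := two_ne_zero_of_odd_card h
  refine ⟨_, nonempty_closure_mulEquiv_S4 hx hy
    (hz ▸ PSL_pow_eq_one_of_cheb z 4 (by rw [cheb_four, ht, hτ]; simp)) ?_⟩
  have h3 : (z : PSL(2, F)) ≠ 1 := by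
    rw [Ne, PSL_mk_eq_one_iff]
    rintro (rfl | rfl) <;> simp at ht <;> apply h2
    · linear_combination hτ + (2 + τ) * ht
    · linear_combination hτ + (-2 + τ) * ht
  rw [hz, Ne, PSL_pow_eq_one_iff z h3, cheb_two, ht]
  rintro rfl
  exact h2 (by linear_combination -hτ)

theorem exists_subgroup_A5_of_root [Fintype F] {τ : F} (hτ : τ ^ 2 - τ - 1 = 0) :
    ∃ H : Subgroup PSL(2, F), Nonempty (H ≃* alternatingGroup (Fin 5)) := by
  have h : Odd (Fintype.card F) ∨ ∃ ω : F, ω ^ 2 + ω + 1 = 0 := by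
    rcases Nat.even_or_odd (Fintype.card F) with h | h
    · exact Or.inr ⟨τ, by linear_combination hτ + (τ + 1) * two_eq_zero_iff_even_card.2 h⟩
    · exact Or.inl h
  obtain ⟨x, y, z, h1, hx, hy, hz, ht⟩ := exists_triangle h τ
  have h5 : (x * y) ^ 5 = 1 := hz ▸ PSL_pow_eq_one_of_cheb z 5 (by rw [cheb_five, ht, hτ]; simp)
  refine exists_subgroup_A5 hx hy h5 ?_
  rintro rfl
  apply h1
  rw [mul_one, show 5 = 2 * 2 + 1 by rfl, pow_succ, pow_mul, hx, one_pow, one_mul] at h5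
  exact h5

theorem exists_subgroup_A5_iff [Fintype F] :
    (∃ H : Subgroup PSL(2, F), Nonempty (H ≃* alternatingGroup (Fin 5))) ↔
      5 ∣ Fintype.card F * (Fintype.card F ^ 2 - 1) := by
  rw [← card_PSL]
  constructor
  · rintro ⟨H, ⟨e⟩⟩
    refine Dvd.dvd.mul_left (dvd_trans ?_ H.card_subgroup_dvd_card) _
    rw [Nat.card_congr e.toEquiv, nat_card_alternatingGroup]
    simp [Nat.factorial]
  · intro h
    have h5 : 5 ∣ Nat.card PSL(2, F) := by
      refine (Nat.prime_five.dvd_mul.1 h).resolve_left fun h => ?_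
      have := Nat.le_of_dvd two_pos (h.trans (Nat.gcd_dvd_left _ _))
      omega
    obtain ⟨g, hg⟩ := exists_prime_orderOf_dvd_card' 5 (hp := ⟨Nat.prime_five⟩) h5
    obtain ⟨g, rfl⟩ := QuotientGroup.mk_surjective g
    have h1 := (PSL_pow_eq_one_iff g (by rintro h; rw [h] at hg; simp at hg) 5).1
      (by rw [← hg, pow_orderOf_eq_one])
    rw [cheb_five] at h1
    rcases mul_eq_zero.1 h1 with h2 | h2
    · exact exists_subgroup_A5_of_root h2
    · exact exists_subgroup_A5_of_root (τ := -(g : Matrix (Fin 2) (Fin 2) F).trace)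
        (by linear_combination h2)

theorem exists_subgroup_S4_iff [Fintype F] :
    (∃ H : Subgroup PSL(2, F), Nonempty (H ≃* Equiv.Perm (Fin 4))) ↔
      Fintype.card F % 8 = 1 ∨ Fintype.card F % 8 = 7 := by
  constructor
  · rintro ⟨H, ⟨e⟩⟩
    obtain ⟨p, hp⟩ := CharP.exists F
    have := Fact.mk (CharP.char_is_prime F p)
    have h4 : orderOf ((e.symm (finRotate 4) : H) : PSL(2, F)) = 4 := by
      rw [orderOf_coe, MulEquiv.orderOf_eq]
      exact orderOf_eq_prime_pow (p := 2) (n := 1) (by decide) (by decide)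
    have h := orderOf_PSL_dvd p (g := ((e.symm (finRotate 4) : H) : PSL(2, F))) fun h => by
      have := orderOf_dvd_of_pow_eq_one h
      rw [h4] at this
      exact absurd ((Nat.dvd_prime Fact.out).1 this) (by
        rintro (h | rfl)
        · omega
        · exact absurd (Fact.out : Nat.Prime 4) (by decide))
    rw [h4] at h
    have hq : 1 < Fintype.card F := Fintype.one_lt_card
    rcases Nat.even_or_odd (Fintype.card F) with h1 | h1
    · rw [gcd_two_of_even h1 (by omega)] at h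
      have := Nat.even_iff.1 h1
      omega
    · rw [gcd_two_of_odd h1] at h
      have := Nat.odd_iff.1 h1
      omega
  · intro h
    obtain ⟨τ, hτ⟩ := (FiniteField.isSquare_two_iff (F := F)).2 (by omega)
    exact exists_subgroup_S4 (τ := τ) (Nat.odd_iff.2 (by omega)) (by rw [sq, ← hτ])

private theorem A4_pair : ∃ a b : alternatingGroup (Fin 4), a ≠ 1 ∧ a ^ 2 = 1 ∧ b ≠ 1 ∧
    b ^ 3 = 1 ∧ b * a * b⁻¹ * a = a * (b * a * b⁻¹) :=
  ⟨⟨Equiv.swap 0 1 * Equiv.swap 2 3, Equiv.Perm.mem_alternatingGroup.2 (by decide)⟩,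
    ⟨Equiv.swap 0 1 * Equiv.swap 1 2, Equiv.Perm.mem_alternatingGroup.2 (by decide)⟩,
    by decide, by decide, by decide, by decide, by decide⟩

theorem card_stabilizer_PSL [Fintype F] (p : ℕ) [Fact p.Prime] [CharP F p] {x : Pbar F}
    (hx : (moebius_PSLbar (F := F) p).uSub x ≠ ⊥) :
    Nat.gcd 2 (Fintype.card F - 1) * Nat.card (stabilizer PSL(2, F) x) =
      Fintype.card F * (Fintype.card F - 1) := by
  rw [(moebius_PSLbar p).card_stabilizer, card_uSub_PSL p hx, mul_left_comm,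
    gcd_mul_relIndex p hx]

theorem three_dvd_of_A4 [Fintype F] [CharP F 2] {H : Subgroup PSL(2, F)}
    (e : H ≃* alternatingGroup (Fin 4)) : 3 ∣ Fintype.card F * (Fintype.card F - 1) := by
  obtain ⟨a, b, ha1, ha, hb1, hb, hab⟩ := A4_pair
  let f : alternatingGroup (Fin 4) →* PSL(2, F) := H.subtype.comp e.symm.toMonoidHom
  have hf : Function.Injective f := H.subtype_injective.comp e.symm.injective
  set M := moebius_PSLbar (F := F) 2
  obtain ⟨x, hx⟩ := M.fix (f a)
  have hu : f a ∈ M.uSub x := ⟨hx, by rw [← map_pow, ha, map_one]⟩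
  have hu1 : f a ≠ 1 := by simpa [hf] using (map_ne_one_iff f hf).2 ha1
  have h1 : f b * f a * (f b)⁻¹ ∈ M.uSub x := M.centralizer_le hu hu1
    (mem_centralizer_singleton_iff.2 (by simpa using congrArg f hab))
  have h2 : f b • x = x :=
    M.eq_of_mem_uSub h1 (by simpa using hu1) (M.conj_mem_uSub hu (f b)).1
  have h3 := Moebius.orderOf_dvd_card_stabilizer h2
  rw [orderOf_injective f hf, orderOf_eq_prime hb hb1] at h3
  rw [← card_stabilizer_PSL 2 (x := x)
    (ne_bot_iff_exists_ne_one.2 ⟨⟨_, hu⟩, fun h => hu1 (congrArg Subtype.val h)⟩)]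
  exact h3.mul_left _

theorem exists_cube_root [Fintype F] (h : 3 ∣ Fintype.card F - 1) :
    ∃ ω : F, ω ^ 2 + ω + 1 = 0 := by
  classical
  obtain ⟨u, hu⟩ := exists_prime_orderOf_dvd_card (G := Fˣ) 3 (hp := ⟨Nat.prime_three⟩)
    (by rwa [Fintype.card_units])
  have h1 : (u : F) ^ 3 = 1 := by rw [← Units.val_pow_eq_pow_val, ← hu, pow_orderOf_eq_one]; rfl
  have h2 : (u : F) - 1 ≠ 0 := fun h => by
    rw [sub_eq_zero, Units.val_eq_one] at h
    simp [h] at hu
  exact ⟨u, mul_left_cancel₀ h2 (by linear_combination h1)⟩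

end CL.PSL2
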