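import Cfsg.Agent.Base
import Cfsg.Agent.PSL2.Torus

/-!
Subfield subgroups of `PSL₂(q)`.
-/

set_option autoImplicit false

namespace CL.PSL2

open MulAction Subgroup Matrix
open scoped MatrixGroups

variable {F K : Type*} [Field F] [Field K]

theorem nonempty_ringHom_of_card_pow [Fintype F] [Fintype K] {m : ℕ}
    (h : Fintype.card K ^ m = Fintype.card F) : Nonempty (K →+* F) := by
  obtain ⟨p, hp⟩ := CharP.exists K
  have := Fact.mk (CharP.char_is_prime K p)
  have : NeZero m := ⟨by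
    rintro rfl
    have : 1 < Fintype.card F := Fintype.one_lt_card
    simp at h
    omega⟩
  let _ : Fintype (FiniteField.Extension K p m) := Fintype.ofFinite _
  have e : FiniteField.Extension K p m ≃+* F := FiniteField.ringEquivOfCardEq (by
    rw [← h, ← Nat.card_eq_fintype_card, FiniteField.natCard_extension, Nat.card_eq_fintype_card])
  exact ⟨e.toRingHom.comp (algebraMap K _)⟩

theorem mk_mem_range_toPGL {g : GL (Fin 2) F} (h : IsSquare (g : Matrix (Fin 2) (Fin 2) F).det) :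
    ProjGenLinGroup.mk g ∈ (ProjectiveSpecialLinearGroup.toPGL : PSL(2, F) →* _).range := by
  obtain ⟨r, hr⟩ := h
  have h0 : r ≠ 0 := by
    rintro rfl
    exact g.det_ne_zero (by simpa using hr)
  refine ⟨QuotientGroup.mk (⟨r⁻¹ • (g : Matrix (Fin 2) (Fin 2) F), ?_⟩ : SL(2, F)), ?_⟩
  · rw [det_smul, hr]
    simp only [Fintype.card_fin]
    field_simp
  · refine (ProjectiveSpecialLinearGroup.toPGL_mk _).trans ((mk_eq_mk_iff_smul _ _).2 ⟨r, ?_⟩)
    change _ = r • r⁻¹ • (g : Matrix (Fin 2) (Fin 2) F)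
    rw [smul_smul, mul_inv_cancel₀ h0, one_smul]

theorem exists_subgroup_PSL_of_range_le {A : Type*} [Group A] (φ : A →* PGL(2, F))
    (hφ : Function.Injective φ)
    (h : ∀ a, φ a ∈ (ProjectiveSpecialLinearGroup.toPGL : PSL(2, F) →* _).range) :
    ∃ H : Subgroup PSL(2, F), Nonempty (H ≃* A) := by
  let ψ : A →* PSL(2, F) := (MonoidHom.ofInjective
    ProjectiveSpecialLinearGroup.toPGL_injective).symm.toMonoidHom.comp (φ.codRestrict _ h)
  have hψ : Function.Injective ψ := fun a b hab =>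
    hφ (congrArg Subtype.val ((MonoidHom.ofInjective
      (ProjectiveSpecialLinearGroup.toPGL_injective (n := Fin 2) (R := F))).symm.injective hab))
  exact ⟨ψ.range, ⟨(MonoidHom.ofInjective hψ).symm⟩⟩

theorem exists_subgroup_PSL_of_ringHom (f : K →+* F) :
    ∃ H : Subgroup PSL(2, F), Nonempty (H ≃* PSL(2, K)) := by
  refine exists_subgroup_PSL_of_range_le
    ((ProjGenLinGroup.map f).comp ProjectiveSpecialLinearGroup.toPGL)
    ((map_injective f).comp ProjectiveSpecialLinearGroup.toPGL_injective) fun a => ?_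
  obtain ⟨a, rfl⟩ := QuotientGroup.mk_surjective a
  refine ⟨QuotientGroup.mk (Matrix.SpecialLinearGroup.map f a), ?_⟩
  rw [MonoidHom.comp_apply, ProjectiveSpecialLinearGroup.toPGL_mk,
    ProjectiveSpecialLinearGroup.toPGL_mk, ProjGenLinGroup.map_mk]
  congr 1
  ext i j
  rfl

theorem exists_subgroup_PGL_of_isSquare (f : K →+* F) (h : ∀ a, IsSquare (f a)) :
    ∃ H : Subgroup PSL(2, F), Nonempty (H ≃* PGL(2, K)) := by
  refine exists_subgroup_PSL_of_range_le (ProjGenLinGroup.map f) (map_injective f) fun a => ?_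
  induction a using ProjGenLinGroup.induction_on with
  | mk g =>
    refine mk_mem_range_toPGL ?_
    have := h (g : Matrix (Fin 2) (Fin 2) K).det
    rwa [RingHom.map_det] at this

theorem isSquare_of_card_pow [Fintype F] [Fintype K] {m : ℕ} (hm : Even m)
    (h : Fintype.card K ^ m = Fintype.card F) (f : K →+* F) (a : K) : IsSquare (f a) := by
  by_cases h2 : ringChar F = 2
  · exact FiniteField.isSquare_of_char_two h2 _
  by_cases ha : a = 0
  · simp [ha]
  rw [FiniteField.isSquare_iff h2 ((map_ne_zero f).2 ha)]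
  have hodd := FiniteField.odd_card_of_char_ne_two h2
  obtain ⟨k, rfl⟩ := hm
  have hK : Fintype.card K % 2 = 1 := by
    rw [← h, ← Nat.odd_iff, Nat.odd_pow_iff] at hodd
    · exact Nat.odd_iff.1 hodd
    · rintro h0
      have : 1 < Fintype.card F := Fintype.one_lt_card
      simp [h0] at h
      omega
  obtain ⟨s, hs⟩ := Nat.sub_one_dvd_pow_sub_one (Fintype.card K ^ 2) k
  rw [← pow_mul, two_mul, h, sq_sub_one_eq] at hs
  have : Fintype.card F / 2 = (Fintype.card K - 1) * ((Fintype.card K + 1) / 2 * s) := by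
    obtain ⟨t, ht⟩ : ∃ t, Fintype.card K + 1 = 2 * t := ⟨(Fintype.card K + 1) / 2, by omega⟩
    rw [ht] at hs ⊢
    rw [Nat.mul_div_cancel_left _ two_pos]
    have : Fintype.card F - 1 = 2 * ((Fintype.card K - 1) * (t * s)) := by rw [hs]; ring
    omega
  rw [this, pow_mul, ← map_pow, FiniteField.pow_card_sub_one_eq_one a ha, map_one, one_pow]

theorem exists_odd_pow_eq {y : ℕ} (hy : Even y) (k : ℕ) :
    ∃ s, Odd s ∧ (y + 1) ^ (2 * k + 1) = y * s + 1 := by
  induction k with
  | zero => exact ⟨1, odd_one, by simp⟩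
  | succ k ih =>
    obtain ⟨s, hs, h⟩ := ih
    refine ⟨s + (2 + y) * (y * s + 1), hs.add_even ((even_two.add hy).mul_right _), ?_⟩
    rw [show 2 * (k + 1) + 1 = 2 * k + 1 + 2 by ring, pow_add, h]
    ring

theorem not_dvd_of_odd_pow {r m : ℕ} (hr : Odd r) (hm : Odd m) (h1 : 1 < r) :
    ¬ 2 * (r * (r ^ 2 - 1)) ∣ r ^ m * ((r ^ m) ^ 2 - 1) := by
  obtain ⟨k, rfl⟩ := hm
  have h2 : 1 < r ^ 2 := Nat.one_lt_pow two_ne_zero h1
  obtain ⟨s, hs, h⟩ := exists_odd_pow_eq (y := r ^ 2 - 1) (Nat.Odd.sub_odd hr.pow odd_one) k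
  rw [Nat.sub_add_cancel h2.le] at h
  rw [← pow_mul, mul_comm (2 * k + 1), pow_mul, h, Nat.add_sub_cancel]
  rintro ⟨c, hc⟩
  have h3 : r ^ (2 * k + 1) * s = 2 * (r * c) :=
    Nat.eq_of_mul_eq_mul_left (show 0 < r ^ 2 - 1 by omega) (by linear_combination hc)
  have h4 := Nat.odd_iff.1 ((hr.pow (n := 2 * k + 1)).mul hs)
  omega

end CL.PSL2
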