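import Cfsg.Agent.Base
import Cfsg.Agent.PSL2.Platonic
import Cfsg.Agent.PSL2.Subfield
import Cfsg.Agent.Char.Burnside

/-!
Consequences of Dickson's theorem: the minimal index of a proper subgroup of `PSL₂(q)`,
maximality of the dihedral subgroups, minimal simple groups `PSL₂(q)`.
-/

set_option autoImplicit false

namespace CL.PSL2

open MulAction Subgroup Matrix
open scoped MatrixGroups

theorem isSolvable_dihedral (n : ℕ) : Group.IsSolvable (DihedralGroup n) := by
  let f : Multiplicative (ZMod n) →* DihedralGroup n :=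
    MonoidHom.mk' (fun i => .r i.toAdd) fun _ _ => rfl
  let g : DihedralGroup n →* ℤˣ := MonoidHom.mk' (fun x => match x with
    | .r _ => 1
    | .sr _ => -1) (by rintro (i | i) (j | j) <;> simp)
  refine Group.isSolvable_of_ker_le_range f g ?_
  rintro (i | i) h
  · exact ⟨Multiplicative.ofAdd i, rfl⟩
  · exact absurd (show (-1 : ℤˣ) = 1 from h) (by decide)

theorem card_A4 : Nat.card (alternatingGroup (Fin 4)) = 12 := by
  rw [nat_card_alternatingGroup]; simp [Nat.factorial]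

theorem card_S4 : Nat.card (Equiv.Perm (Fin 4)) = 24 := by
  rw [Nat.card_perm]; simp [Nat.factorial]

theorem card_A5 : Nat.card (alternatingGroup (Fin 5)) = 60 := by
  rw [nat_card_alternatingGroup]; simp [Nat.factorial]

theorem orderOf_le_of_S4 (g : Equiv.Perm (Fin 4)) : orderOf g ≤ 4 := by
  have : ∀ g : Equiv.Perm (Fin 4), g ^ 3 = 1 ∨ g ^ 4 = 1 := by decide +kernel
  rcases this g with h | h <;> have := orderOf_le_of_pow_eq_one (by norm_num) h <;> omega

theorem orderOf_le_of_A5 (g : alternatingGroup (Fin 5)) : orderOf g ≤ 5 := by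
  have : ∀ g : alternatingGroup (Fin 5), g ^ 2 = 1 ∨ g ^ 3 = 1 ∨ g ^ 5 = 1 := by decide +kernel
  rcases this g with h | h | h <;> have := orderOf_le_of_pow_eq_one (by norm_num) h <;> omega

theorem index_ne_two_A4 (S : Subgroup (alternatingGroup (Fin 4))) : S.index ≠ 2 := by
  intro h
  have h1 : ∀ g : alternatingGroup (Fin 4), ∃ a b : alternatingGroup (Fin 4),
      a ^ 3 = 1 ∧ b ^ 3 = 1 ∧ g = a * b := by decide +kernel
  have : S = ⊤ := eq_top_iff.2 fun g _ => by
    obtain ⟨a, b, ha, hb, rfl⟩ := h1 g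
    exact mul_mem (mem_of_index_two_of_odd h (by decide) ha)
      (mem_of_index_two_of_odd h (by decide) hb)
  rw [this, index_top] at h
  omega

theorem card_ne_six_of_A4 {G : Type*} [Group G] {D H : Subgroup G} (h : D ≤ H)
    (e : H ≃* alternatingGroup (Fin 4)) : Nat.card D ≠ 6 := by
  intro h6
  refine index_ne_two_A4 ((D.subgroupOf H).map e.toMonoidHom) ?_
  have h1 := ((D.subgroupOf H).map e.toMonoidHom).card_mul_index
  rw [card_map_of_injective e.injective, Nat.card_congr (subgroupOfEquivOfLe h).toEquiv, h6,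
    card_A4] at h1
  omega

theorem not_isSolvable_A5 : ¬ Group.IsSolvable (alternatingGroup (Fin 5)) := by
  rw [← IsSimpleGroup.comm_iff_isSolvable]
  decide +kernel

theorem isSolvable_of_card_dvd_24 {G : Type*} [Group G] [Finite G] (h : Nat.card G ∣ 24) :
    Group.IsSolvable G :=
  Char.isSolvable_of_card_dvd (a := 3) (b := 1) Nat.prime_two Nat.prime_three h

variable {F : Type*} [Field F] [Fintype F]

theorem gcd_two_cases (q : ℕ) (hq : 1 < q) :
    (q % 2 = 0 ∧ Nat.gcd 2 (q - 1) = 1) ∨ (q % 2 = 1 ∧ Nat.gcd 2 (q - 1) = 2) := by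
  rcases Nat.even_or_odd q with h | h
  · exact Or.inl ⟨Nat.even_iff.1 h, gcd_two_of_even h (by omega)⟩
  · exact Or.inr ⟨Nat.odd_iff.1 h, gcd_two_of_odd h⟩

theorem orderOf_PGL_le (g : PGL(2, F)) : orderOf g ≤ Fintype.card F + 1 := by
  obtain ⟨p, hp⟩ := CharP.exists F
  have := Fact.mk (CharP.char_is_prime F p)
  have hq : 1 < Fintype.card F := Fintype.one_lt_card
  by_cases h : g ^ p = 1
  · obtain ⟨n, -, hn⟩ := FiniteField.card F p
    have h1 := orderOf_le_of_pow_eq_one (Fact.out : p.Prime).pos h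
    have h2 : p ≤ Fintype.card F := hn ▸ Nat.le_self_pow n.ne_zero p
    omega
  · rcases orderOf_PGL_dvd p h with h | h
    · have := Nat.le_of_dvd (by omega) h
      omega
    · exact Nat.le_of_dvd (by omega) h

theorem PSL_not_comm : ¬ ∀ a b : PSL(2, F), a * b = b * a := by
  intro h
  obtain ⟨p, hp⟩ := CharP.exists F
  have := Fact.mk (CharP.char_is_prime F p)
  have hx := uSub_rat_inf_ne_bot (F := F) p
  obtain ⟨⟨u, hu⟩, hu1⟩ := ne_bot_iff_exists_ne_one.1 hx
  refine stabilizer_PSL_ne_top p hx (eq_top_iff.2 fun g _ => ?_)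
  exact ((moebius_PSLbar p).centralizer_le hu (by simpa using hu1)
    (mem_centralizer_singleton_iff.2 (h g u))).1

theorem not_isSolvable_PSL (h : 4 ≤ Fintype.card F) : ¬ Group.IsSolvable PSL(2, F) := by
  have := Matrix.ProjectiveSpecialLinearGroup.rank_two_simple (F := F)
    (by rwa [Nat.card_eq_fintype_card])
  rw [← IsSimpleGroup.comm_iff_isSolvable]
  exact PSL_not_comm

/-- Dickson's theorem for proper subgroups, in numerical form. -/
theorem dickson_proper (p : ℕ) [Fact p.Prime] [CharP F p] {H : Subgroup PSL(2, F)} (hH : H ≠ ⊤) :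
    (Nat.gcd 2 (Fintype.card F - 1) * Nat.card H ≤ 2 * (Fintype.card F + 1) ∧
      Group.IsSolvable H) ∨
    (∃ x : Pbar F, (moebius_PSLbar (F := F) p).uSub x ≠ ⊥ ∧ H ≤ stabilizer PSL(2, F) x) ∨
    Nonempty (H ≃* alternatingGroup (Fin 4)) ∨ Nonempty (H ≃* Equiv.Perm (Fin 4)) ∨
    Nonempty (H ≃* alternatingGroup (Fin 5)) ∨
    ∃ r m : ℕ, 2 ≤ r ∧ 2 ≤ m ∧ r ^ m = Fintype.card F ∧ Nat.card H ∣ r * (r ^ 2 - 1) ∧
      ∀ g ∈ H, orderOf g ≤ r + 1 := by
  have hq : 1 < Fintype.card F := Fintype.one_lt_card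
  rcases dickson_PSL p H with ⟨k, hk, h⟩ | h | h | h | h | ⟨k, h⟩
  · left
    have hk' : Nat.gcd 2 (Fintype.card F - 1) * k ≤ Fintype.card F + 1 := by
      rcases gcd_two_cases _ hq with ⟨h1, h2⟩ | ⟨h1, h2⟩ <;> rw [h2] at hk ⊢ <;>
        rcases hk with hk | hk <;> have := Nat.le_of_dvd (by omega) hk <;> omega
    rcases h with ⟨h1, h2⟩ | ⟨⟨e⟩⟩
    · refine ⟨by rw [h2]; omega, ?_⟩
      let _ := IsCyclic.commGroup (α := H)
      infer_instance
    · have := isSolvable_dihedral k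
      refine ⟨?_, Group.isSolvable_of_isSolvable_injective (f := e.toMonoidHom) e.injective⟩
      rw [Nat.card_congr e.toEquiv, DihedralGroup.nat_card, mul_left_comm]
      omega
  · exact Or.inr (Or.inl h)
  · exact Or.inr (Or.inr (Or.inl h))
  · exact Or.inr (Or.inr (Or.inr (Or.inl h)))
  · exact Or.inr (Or.inr (Or.inr (Or.inr (Or.inl h))))
  · let _ : Fintype k := Fintype.ofFinite k
    have hm := Module.card_eq_pow_finrank (K := k) (V := F)
    have hm0 : 0 < Module.finrank k F := Module.finrank_pos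
    obtain ⟨f, hf, hc⟩ : ∃ f : H →* PGL(2, k), Function.Injective f ∧
        Nat.card PSL(2, k) ≤ Nat.card H := by
      rcases h with ⟨⟨e⟩⟩ | ⟨⟨e⟩⟩
      · exact ⟨ProjectiveSpecialLinearGroup.toPGL.comp e.toMonoidHom,
          ProjectiveSpecialLinearGroup.toPGL_injective.comp e.injective,
          (Nat.card_congr e.toEquiv).ge⟩
      · exact ⟨e.toMonoidHom, e.injective, (Nat.card_le_card_of_injective _
          ProjectiveSpecialLinearGroup.toPGL_injective).trans (Nat.card_congr e.toEquiv).ge⟩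
    refine Or.inr (Or.inr (Or.inr (Or.inr (Or.inr ⟨Fintype.card k, Module.finrank k F,
      Fintype.one_lt_card, ?_, hm.symm, card_PGL (F := k) ▸ card_dvd_of_injective f hf,
      fun g hg => ?_⟩))))
    · by_contra h1
      rw [show Module.finrank k F = 1 by omega, pow_one] at hm
      refine hH (eq_top_of_le_card _ (le_trans (le_of_eq ?_) hc))
      have h2 := card_PSL (F := k)
      rw [← hm, ← card_PSL] at h2
      exact (Nat.eq_of_mul_eq_mul_left (Nat.gcd_pos_of_pos_left _ two_pos) h2).symm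
    · rw [← Subgroup.coe_mk H g hg, orderOf_coe, ← orderOf_injective f hf]
      exact orderOf_PGL_le _

theorem card_mul_index_PSL (H : Subgroup PSL(2, F)) :
    Nat.gcd 2 (Fintype.card F - 1) * Nat.card H * H.index =
      (Fintype.card F + 1) * (Fintype.card F * (Fintype.card F - 1)) := by
  rw [mul_assoc, H.card_mul_index, card_PSL, sq_sub_one_eq]; ring

theorem le_index_of_ne_top (hq : Fintype.card F ∉ ({2, 3, 5, 7, 9, 11} : Finset ℕ))
    {H : Subgroup PSL(2, F)} (hH : H ≠ ⊤) : Fintype.card F + 1 ≤ H.index := by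
  obtain ⟨p, hp⟩ := CharP.exists F
  have := Fact.mk (CharP.char_is_prime F p)
  have hq1 : 1 < Fintype.card F := Fintype.one_lt_card
  have h1 := card_mul_index_PSL H
  have hi : H.index ≠ 1 := fun h => hH (index_eq_one.1 h)
  simp only [Finset.mem_insert, Finset.mem_singleton, not_or] at hq
  have key : Nat.gcd 2 (Fintype.card F - 1) * Nat.card H ≤ Fintype.card F * (Fintype.card F - 1) →
      Fintype.card F + 1 ≤ H.index := fun h => by
    have h2 := Nat.mul_le_mul_right H.index h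
    rw [h1, mul_comm] at h2
    exact Nat.le_of_mul_le_mul_left h2 (Nat.mul_pos (by omega) (by omega))
  have small : ∀ c, c = 12 ∨ c = 24 ∨ c = 60 → Nat.card H = c → Fintype.card F + 1 ≤ H.index := by
    intro c hc hc'
    by_cases h13 : 13 ≤ Fintype.card F
    · refine key ?_
      have h2 : 13 * 12 ≤ Fintype.card F * (Fintype.card F - 1) := Nat.mul_le_mul h13 (by omega)
      rcases gcd_two_cases _ hq1 with ⟨-, h3⟩ | ⟨-, h3⟩ <;> rw [h3] <;> omega
    · rw [hc'] at h1
      generalize Fintype.card F = q at *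
      have : q < 13 := by omega
      clear key
      generalize H.index = i at *
      rcases hc with rfl | rfl | rfl <;> interval_cases q <;> simp at h1 hq ⊢ <;> omega
  rcases dickson_proper p hH with ⟨h, -⟩ | ⟨x, hx, h⟩ | ⟨⟨e⟩⟩ | ⟨⟨e⟩⟩ | ⟨⟨e⟩⟩ |
    ⟨r, m, hr, hm, hrm, hd, -⟩
  · refine key (h.trans ?_)
    obtain ⟨t, ht⟩ : ∃ t, Fintype.card F = t + 4 := ⟨Fintype.card F - 4, by omega⟩
    rw [ht, show t + 4 - 1 = t + 3 by omega]
    nlinarith
  · rw [← index_stabilizer_PSL p hx]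
    exact Nat.le_of_dvd (Nat.pos_of_ne_zero index_ne_zero_of_finite) (index_dvd_of_le h)
  · exact small _ (by simp) ((Nat.card_congr e.toEquiv).trans card_A4)
  · exact small _ (by simp) ((Nat.card_congr e.toEquiv).trans card_S4)
  · exact small _ (by simp) ((Nat.card_congr e.toEquiv).trans card_A5)
  · refine key ?_
    have h2 : r ^ 2 ≤ Fintype.card F := hrm ▸ Nat.pow_le_pow_right (by omega) hm
    have h3 : 1 < r ^ 2 := Nat.one_lt_pow two_ne_zero hr
    have h4 := Nat.le_of_dvd (Nat.mul_pos (by omega) (by omega)) hd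
    calc _ ≤ r * (r * (r ^ 2 - 1)) :=
          Nat.mul_le_mul ((Nat.gcd_le_left _ two_pos).trans hr) h4
      _ = r ^ 2 * (r ^ 2 - 1) := by ring
      _ ≤ _ := Nat.mul_le_mul h2 (by omega)

theorem two_mul_card_le_of_lt {G : Type*} [Group G] [Finite G] {D H : Subgroup G} (h : D < H) :
    ∃ c, 2 ≤ c ∧ Nat.card H = Nat.card D * c := by
  obtain ⟨c, hc⟩ := card_dvd_of_le h.le
  refine ⟨c, ?_, hc⟩
  have h0 : 0 < Nat.card H := Nat.card_pos
  have h1 : c ≠ 1 := by
    rintro rfl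
    exact h.ne (eq_of_le_of_card_ge h.le (by omega))
  have h2 : c ≠ 0 := by
    rintro rfl
    omega
  omega

theorem orderOf_le_five {G : Type*} [Group G] {H : Subgroup G}
    (h : Nonempty (H ≃* alternatingGroup (Fin 4)) ∨ Nonempty (H ≃* Equiv.Perm (Fin 4)) ∨
      Nonempty (H ≃* alternatingGroup (Fin 5))) {g : G} (hg : g ∈ H) : orderOf g ≤ 5 := by
  rw [← Subgroup.coe_mk H g hg, orderOf_coe]
  rcases h with ⟨⟨e⟩⟩ | ⟨⟨e⟩⟩ | ⟨⟨e⟩⟩ <;> rw [← e.orderOf_eq]
  · rw [← orderOf_coe]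
    exact (orderOf_le_of_S4 _).trans (by norm_num)
  · exact (orderOf_le_of_S4 _).trans (by norm_num)
  · exact orderOf_le_of_A5 _

theorem exists_orderOf_of_dihedral {G : Type*} [Group G] {D : Subgroup G} {n : ℕ}
    (e : D ≃* DihedralGroup n) : ∃ g ∈ D, orderOf g = n :=
  ⟨e.symm (.r 1), (e.symm (.r 1)).2, by
    rw [orderOf_coe, MulEquiv.orderOf_eq, DihedralGroup.orderOf_r_one]⟩

theorem isCoatom_nonsplit (hq : Fintype.card F ∉ ({2, 7, 9} : Finset ℕ)) {D : Subgroup PSL(2, F)}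
    (e : D ≃* DihedralGroup ((Fintype.card F + 1) / Nat.gcd 2 (Fintype.card F - 1))) :
    IsCoatom D := by
  obtain ⟨p, hp⟩ := CharP.exists F
  have := Fact.mk (CharP.char_is_prime F p)
  have hq1 : 1 < Fintype.card F := Fintype.one_lt_card
  simp only [Finset.mem_insert, Finset.mem_singleton, not_or] at hq
  obtain ⟨g, hg, hgo⟩ := exists_orderOf_of_dihedral e
  have hD : Nat.card D = 2 * orderOf g := by
    rw [Nat.card_congr e.toEquiv, DihedralGroup.nat_card, hgo]
  have hd : Nat.gcd 2 (Fintype.card F - 1) * orderOf g = Fintype.card F + 1 := by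
    rw [hgo]
    rcases gcd_two_cases _ hq1 with ⟨h1, h2⟩ | ⟨h1, h2⟩ <;> rw [h2] <;> omega
  refine ⟨fun h => ?_, fun H hDH => ?_⟩
  · have h1 := card_mul_index_PSL D
    rw [hD, h, index_top, mul_left_comm, hd, mul_one, mul_comm] at h1
    have h2 := Nat.eq_of_mul_eq_mul_left (by omega) h1
    have h3 : 3 * 2 ≤ Fintype.card F * (Fintype.card F - 1) := Nat.mul_le_mul (by omega) (by omega)
    omega
  by_contra hH
  obtain ⟨c, hc, hcH⟩ := two_mul_card_le_of_lt hDH
  have h1 := card_mul_index_PSL H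
  have hi : H.index ≠ 1 := fun h => hH (index_eq_one.1 h)
  have small : ∀ k, k = 12 ∨ k = 24 ∨ k = 60 → Nat.card H = k → (k = 12 → Nat.card D ≠ 6) →
      orderOf g ≤ 5 → False := by
    intro k hk hk' h6 h5
    rw [hk'] at h1 hcH
    rw [hD] at hcH h6
    have : Fintype.card F ≤ 9 := by
      rcases gcd_two_cases _ hq1 with ⟨-, h2⟩ | ⟨-, h2⟩ <;> rw [h2] at hd <;> omega
    generalize Fintype.card F = q at *
    generalize orderOf g = n at *
    generalize H.index = i at *
    clear hgo e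
    rcases hk with rfl | rfl | rfl <;> interval_cases q <;> simp at h1 hq hd h6 ⊢ <;>
      interval_cases n <;> omega
  rcases dickson_proper p hH with ⟨h, -⟩ | ⟨x, hx, h⟩ | ⟨⟨e'⟩⟩ | ⟨⟨e'⟩⟩ | ⟨⟨e'⟩⟩ |
    ⟨r, m, hr, hm, hrm, -, ho⟩
  · rw [hcH, hD, ← mul_assoc, mul_left_comm, hd] at h
    nlinarith
  · have h2 := Nat.mul_dvd_mul_left (Nat.gcd 2 (Fintype.card F - 1)) (card_dvd_of_le (hDH.le.trans h))
    rw [card_stabilizer_PSL p hx, hD, mul_left_comm, hd] at h2
    obtain ⟨t, ht⟩ : ∃ t, Fintype.card F = t + 2 := ⟨Fintype.card F - 2, by omega⟩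
    rw [ht, show t + 2 - 1 = t + 1 by omega,
      show (t + 2) * (t + 1) = (t + 2 + 1) * t + 2 by ring] at h2
    have h3 := Nat.le_of_dvd two_pos ((Nat.dvd_add_right (dvd_mul_right _ _)).1
      ((dvd_mul_left _ _).trans h2))
    omega
  · exact small _ (by simp) ((Nat.card_congr e'.toEquiv).trans card_A4)
      (fun _ => card_ne_six_of_A4 hDH.le e') (orderOf_le_five (Or.inl ⟨e'⟩) (hDH.le hg))
  · exact small _ (by simp) ((Nat.card_congr e'.toEquiv).trans card_S4) (by simp)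
      (orderOf_le_five (Or.inr (Or.inl ⟨e'⟩)) (hDH.le hg))
  · exact small _ (by simp) ((Nat.card_congr e'.toEquiv).trans card_A5) (by simp)
      (orderOf_le_five (Or.inr (Or.inr ⟨e'⟩)) (hDH.le hg))
  · have h2 : r ^ 2 ≤ Fintype.card F := hrm ▸ Nat.pow_le_pow_right (by omega) hm
    have h3 := ho g (hDH.le hg)
    rcases gcd_two_cases _ hq1 with ⟨h4, h5⟩ | ⟨h4, h5⟩ <;> rw [h5] at hd
    · nlinarith
    · rw [← hrm, ← Nat.odd_iff, Nat.odd_pow_iff (by omega), Nat.odd_iff] at h4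
      have : 3 ≤ r := by omega
      nlinarith

theorem exists_isCoatom_split (hq : Fintype.card F ∉ ({2, 3, 5, 7, 9, 11} : Finset ℕ)) :
    ∃ D : Subgroup PSL(2, F), IsCoatom D ∧
      Nonempty (D ≃* DihedralGroup ((Fintype.card F - 1) / Nat.gcd 2 (Fintype.card F - 1))) := by
  obtain ⟨p, hp⟩ := CharP.exists F
  have := Fact.mk (CharP.char_is_prime F p)
  have hq1 : 1 < Fintype.card F := Fintype.one_lt_card
  simp only [Finset.mem_insert, Finset.mem_singleton, not_or] at hq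
  set M := moebius_PSLbar (F := F) p
  have hx := (uSub_ne_bot_iff p _).2 ⟨(inf : P1 F), rfl⟩
  have hy := (uSub_ne_bot_iff p _).2 ⟨pt (0 : F), rfl⟩
  have hxy : rat (F := F) inf ≠ rat (pt 0) := fun h => pt_ne_inf _ (rat_injective h).symm
  generalize rat (F := F) inf = x at hx hxy
  generalize rat (F := F) (pt 0) = y at hy hxy
  obtain ⟨t, ht1, ht2⟩ := M.exists_smul_pair (index_stabilizer_PSL' p) hx hy hy hx hxy hxy.symm
  obtain ⟨e⟩ := card_split p hx hy hxy ▸ M.dihedral_pairStab hxy ht1 ht2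
  refine ⟨_, ?_, ⟨e⟩⟩
  obtain ⟨g, hg, hgo⟩ := exists_orderOf_of_dihedral e
  have hD : Nat.card (pairStab PSL(2, F) x y) = 2 * orderOf g := by
    rw [Nat.card_congr e.toEquiv, DihedralGroup.nat_card, hgo]
  have hd : Nat.gcd 2 (Fintype.card F - 1) * orderOf g = Fintype.card F - 1 := by
    rw [hgo, Nat.mul_div_cancel' (Nat.gcd_dvd_right _ _)]
  refine ⟨fun h => ?_, fun H hDH => ?_⟩
  · have h1 := card_mul_index_PSL (pairStab PSL(2, F) x y)
    rw [hD, h, index_top, mul_left_comm, hd, mul_one, ← mul_assoc] at h1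
    have h2 := Nat.eq_of_mul_eq_mul_right (by omega) h1
    nlinarith
  by_contra hH
  obtain ⟨c, hc, hcH⟩ := two_mul_card_le_of_lt hDH
  have h1 := card_mul_index_PSL H
  have hi : H.index ≠ 1 := fun h => hH (index_eq_one.1 h)
  have small : ∀ k, k = 12 ∨ k = 24 ∨ k = 60 → Nat.card H = k →
      (k = 12 → Nat.card (pairStab PSL(2, F) x y) ≠ 6) → orderOf g ≤ 5 → False := by
    intro k hk hk' h6 h5
    rw [hk'] at h1 hcH
    rw [hD] at hcH h6
    have : Fintype.card F ≤ 11 := by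
      rcases gcd_two_cases _ hq1 with ⟨-, h2⟩ | ⟨-, h2⟩ <;> rw [h2] at hd <;> omega
    clear hgo e
    generalize Fintype.card F = q at *
    generalize orderOf g = n at *
    generalize H.index = i at *
    rcases hk with rfl | rfl | rfl <;> interval_cases q <;> simp at h1 hq hd h6 ⊢ <;>
      interval_cases n <;> omega
  rcases dickson_proper p hH with ⟨h, -⟩ | ⟨z, hz, h⟩ | ⟨⟨e'⟩⟩ | ⟨⟨e'⟩⟩ | ⟨⟨e'⟩⟩ |
    ⟨r, m, hr, hm, hrm, hdv, ho⟩
  · rw [hcH, hD, ← mul_assoc, mul_left_comm, hd] at h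
    have := Nat.mul_le_mul_left (2 * (Fintype.card F - 1)) hc
    omega
  · have hT : stabilizer PSL(2, F) x ⊓ stabilizer PSL(2, F) y ≠ ⊥ := by
      rw [Ne, ← card_eq_one, card_split p hx hy hxy]
      rcases gcd_two_cases _ hq1 with ⟨h4, h5⟩ | ⟨h4, h5⟩ <;> rw [h5] <;> omega
    obtain ⟨⟨u, hu⟩, hu1⟩ := ne_bot_iff_exists_ne_one.1 hT
    have htz : t • z = z := h (hDH.le (Or.inr ⟨ht1, ht2⟩))
    rcases M.eq_or_eq_of_fixed hxy (by simpa using hu1) hu.1 hu.2
      (h (hDH.le (Moebius.inf_le_pairStab x y hu))) with rfl | rfl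
    · exact hxy (htz.symm.trans ht1)
    · exact hxy (ht2.symm.trans htz)
  · exact small _ (by simp) ((Nat.card_congr e'.toEquiv).trans card_A4)
      (fun _ => card_ne_six_of_A4 hDH.le e') (orderOf_le_five (Or.inl ⟨e'⟩) (hDH.le hg))
  · exact small _ (by simp) ((Nat.card_congr e'.toEquiv).trans card_S4) (by simp)
      (orderOf_le_five (Or.inr (Or.inl ⟨e'⟩)) (hDH.le hg))
  · exact small _ (by simp) ((Nat.card_congr e'.toEquiv).trans card_A5) (by simp)
      (orderOf_le_five (Or.inr (Or.inr ⟨e'⟩)) (hDH.le hg))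
  · have h2 : r ^ 2 ≤ Fintype.card F := hrm ▸ Nat.pow_le_pow_right (by omega) hm
    have h3 := ho g (hDH.le hg)
    rcases gcd_two_cases _ hq1 with ⟨h4, h5⟩ | ⟨h4, h5⟩ <;> rw [h5] at hd
    · obtain rfl : r = 2 := by
        have : r ^ 2 ≤ r + 2 := by omega
        nlinarith
      have h6 := Nat.le_of_dvd (by norm_num) hdv
      have := Nat.mul_le_mul_left (2 * orderOf g) hc
      rw [hD] at hcH
      omega
    · have h6 := h4
      rw [← hrm, ← Nat.odd_iff, Nat.odd_pow_iff (by omega), Nat.odd_iff] at h6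
      obtain rfl : r = 3 := by
        have : r ^ 2 ≤ 2 * r + 3 := by omega
        have : r < 4 := by nlinarith
        omega
      omega

theorem isSolvable_of_ne_top (h5 : ¬ 5 ∣ Fintype.card F * (Fintype.card F ^ 2 - 1) ∨
      Nat.card PSL(2, F) = 60)
    (hr : ∀ r m : ℕ, 2 ≤ r → 2 ≤ m → r ^ m = Fintype.card F → r ≤ 3)
    {H : Subgroup PSL(2, F)} (hH : H ≠ ⊤) : Group.IsSolvable H := by
  obtain ⟨p, hp⟩ := CharP.exists F
  have := Fact.mk (CharP.char_is_prime F p)
  rcases dickson_proper p hH with ⟨-, h⟩ | ⟨x, -, h⟩ | ⟨⟨e⟩⟩ | ⟨⟨e⟩⟩ | ⟨⟨e⟩⟩ |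
    ⟨r, m, h1, h2, h3, h4, -⟩
  · exact h
  · have := (moebius_PSLbar (F := F) p).isSolvable_stabilizer x
    exact Group.isSolvable_of_isSolvable_injective (inclusion_injective h)
  · exact isSolvable_of_card_dvd_24 (by rw [Nat.card_congr e.toEquiv, card_A4]; norm_num)
  · exact isSolvable_of_card_dvd_24 (by rw [Nat.card_congr e.toEquiv, card_S4])
  · rcases h5 with h5 | h5
    · exact absurd (exists_subgroup_A5_iff.1 ⟨H, ⟨e⟩⟩) h5
    · exact absurd (eq_top_of_card_eq _ (by rw [Nat.card_congr e.toEquiv, card_A5, h5])) hH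
  · have := hr r m h1 h2 h3
    refine isSolvable_of_card_dvd_24 (h4.trans ?_)
    interval_cases r <;> norm_num

theorem exists_not_isSolvable_of_five (h5 : 5 ∣ Fintype.card F * (Fintype.card F ^ 2 - 1))
    (hq : 5 < Fintype.card F) : ∃ H : Subgroup PSL(2, F), H ≠ ⊤ ∧ ¬ Group.IsSolvable H := by
  obtain ⟨H, ⟨e⟩⟩ := exists_subgroup_A5_iff.2 h5
  refine ⟨H, fun h => ?_, fun h => not_isSolvable_A5
    (Group.isSolvable_of_surjective (f := e.toMonoidHom) e.surjective)⟩
  have h1 := card_mul_index_PSL H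
  rw [Nat.card_congr e.toEquiv, card_A5, h, index_top] at h1
  have h2 : 7 * (6 * 5) ≤ (Fintype.card F + 1) * (Fintype.card F * (Fintype.card F - 1)) :=
    Nat.mul_le_mul (by omega) (Nat.mul_le_mul (by omega) (by omega))
  have := Nat.gcd_le_left (Fintype.card F - 1) two_pos
  omega

theorem exists_not_isSolvable_of_pow (p : ℕ) [Fact p.Prime] {a m : ℕ} (hm : 2 ≤ m)
    (h4 : 4 ≤ p ^ a) (h : (p ^ a) ^ m = Fintype.card F) :
    ∃ H : Subgroup PSL(2, F), H ≠ ⊤ ∧ ¬ Group.IsSolvable H := by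
  let _ : Fintype (GaloisField p a) := Fintype.ofFinite _
  have hc : Fintype.card (GaloisField p a) = p ^ a := by
    rw [← Nat.card_eq_fintype_card, GaloisField.card p a (by rintro rfl; simp at h4)]
  obtain ⟨f⟩ := nonempty_ringHom_of_card_pow (K := GaloisField p a) (hc ▸ h)
  obtain ⟨H, ⟨e⟩⟩ := exists_subgroup_PSL_of_ringHom f
  refine ⟨H, fun hH => ?_, fun h => not_isSolvable_PSL (hc ▸ h4)
    (Group.isSolvable_of_surjective (f := e.toMonoidHom) e.surjective)⟩
  have h1 := card_mul_index_PSL H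
  have h2 := card_PSL (F := GaloisField p a)
  rw [Nat.card_congr e.toEquiv, hH, index_top, mul_one] at h1
  rw [hc] at h2
  have h3 : (p ^ a) ^ 2 ≤ Fintype.card F := h ▸ Nat.pow_le_pow_right (by omega) hm
  have h5 := Nat.gcd_le_left (Fintype.card F - 1) two_pos
  have h6 : 0 < Nat.gcd 2 (p ^ a - 1) := Nat.gcd_pos_of_pos_left _ two_pos
  generalize p ^ a = r at *
  generalize Nat.card PSL(2, GaloisField p a) = N at *
  have h7 : N ≤ r * (r ^ 2 - 1) := h2 ▸ Nat.le_mul_of_pos_left _ h6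
  have h8 : 2 * (r * (r ^ 2 - 1)) ≤ Fintype.card F * (Fintype.card F - 1) := by
    calc 2 * (r * (r ^ 2 - 1)) ≤ r * (r * (r ^ 2 - 1)) := Nat.mul_le_mul_right _ (by omega)
      _ = r ^ 2 * (r ^ 2 - 1) := by ring
      _ ≤ _ := Nat.mul_le_mul h3 (by omega)
  have h9 : 0 < Fintype.card F * (Fintype.card F - 1) := by
    have : 1 < Fintype.card F := Fintype.one_lt_card
    exact Nat.mul_pos (by omega) (by omega)
  have h10 := Nat.mul_le_mul h5 h7
  have h11 : 0 < Fintype.card F := Fintype.card_pos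
  nlinarith

end CL.PSL2
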