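import Cfsg.Agent.Base
import Cfsg.Agent.Invol.KleinSylow

/-!
Klein four-subgroups of a finite group with one class of involutions whose centralisers are
dihedral: their number and their conjugacy classes.
-/

set_option autoImplicit false

namespace CL.PSL2

open Subgroup MulAction

variable {G : Type*} [Group G]

theorem orderOf_eq_two_iff {a : G} : orderOf a = 2 ↔ a * a = 1 ∧ a ≠ 1 := by
  refine ⟨fun h => ⟨by rw [← sq, ← h, pow_orderOf_eq_one], by rintro rfl; simp at h⟩,
    fun h => orderOf_eq_prime (by rw [sq, h.1]) h.2⟩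

theorem mem_closure_pair_iff {a b : G} (ha : a * a = 1) (hb : b * b = 1) (hab : a * b = b * a)
    {g : G} : g ∈ closure ({a, b} : Set G) ↔ g = 1 ∨ g = a ∨ g = b ∨ g = a * b := by
  have h1 : a * (a * b) = b := by rw [← mul_assoc, ha, one_mul]
  have h2 : b * (a * b) = a := by rw [hab, ← mul_assoc, hb, one_mul]
  have h3 : a * b * a = b := by rw [hab, mul_assoc, ha, mul_one]
  have h4 : a * b * b = a := by rw [mul_assoc, hb, mul_one]
  have h5 : a * b * (a * b) = 1 := by rw [← mul_assoc, h3, hb]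
  constructor
  · intro h
    induction h using closure_induction with
    | mem x hx => rcases hx with rfl | rfl <;> simp
    | one => simp
    | mul x y _ _ hx hy =>
      rcases hx with h | h | h | h <;> rcases hy with h' | h' | h' | h' <;>
        simp only [h, h', one_mul, mul_one, ha, hb, h1, h2, h3, h4, h5, ← hab, true_or, or_true]
    | inv x _ hx =>
      rcases hx with rfl | rfl | rfl | rfl
      · simp
      · simp [inv_eq_of_mul_eq_one_right ha]
      · simp [inv_eq_of_mul_eq_one_right hb]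
      · rw [inv_eq_of_mul_eq_one_right h5]; simp
  · have hA : a ∈ closure ({a, b} : Set G) := subset_closure (by simp)
    have hB : b ∈ closure ({a, b} : Set G) := subset_closure (by simp)
    rintro (rfl | rfl | rfl | rfl)
    exacts [one_mem _, hA, hB, mul_mem hA hB]

theorem isKleinFour_closure {a b : G} (ha : orderOf a = 2) (hb : orderOf b = 2) (hne : a ≠ b)
    (hab : a * b = b * a) : IsKleinFour (closure ({a, b} : Set G)) := by
  classical
  obtain ⟨ha, ha1⟩ := orderOf_eq_two_iff.1 ha
  obtain ⟨hb, hb1⟩ := orderOf_eq_two_iff.1 hb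
  constructor
  · have h1 : a * b ≠ 1 := fun h => hne (mul_right_cancel (h.trans hb.symm))
    have h2 : a * b ≠ a := by simpa using hb1
    have h3 : a * b ≠ b := by simpa using ha1
    have e : ((closure ({a, b} : Set G) : Subgroup G) : Set G) = ({1, a, b, a * b} : Finset G) := by
      ext g; simp [mem_closure_pair_iff ha hb hab]
    change Nat.card ((closure ({a, b} : Set G) : Subgroup G) : Set G) = 4
    rw [e, Nat.card_coe_set_eq, Set.ncard_coe_finset, Finset.card_insert_of_notMem,
      Finset.card_insert_of_notMem, Finset.card_pair h3.symm]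
    · simp [hne, h2.symm]
    · simp [ha1.symm, hb1.symm, h1.symm]
  · have : Nontrivial (closure ({a, b} : Set G)) :=
      ⟨⟨⟨a, subset_closure (by simp)⟩, 1, fun h => ha1 (congrArg Subtype.val h)⟩⟩
    rw [Monoid.exponent_eq_prime_iff Nat.prime_two]
    rintro ⟨g, hg⟩ hg1
    refine orderOf_eq_two_iff.2 ⟨Subtype.ext ?_, hg1⟩
    rcases (mem_closure_pair_iff ha hb hab).1 hg with rfl | rfl | rfl | rfl
    · simp
    · exact ha
    · exact hb
    · change a * b * (a * b) = 1
      rw [← mul_assoc, hab, mul_assoc b, ha, mul_one, hb]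

theorem closure_eq_of_isKleinFour {V : Subgroup G} (hV : IsKleinFour V) {a b : G} (ha : a ∈ V)
    (hb : b ∈ V) (ha1 : a ≠ 1) (hb1 : b ≠ 1) (hne : a ≠ b) : closure ({a, b} : Set G) = V := by
  have := hV.card_four
  have : Finite V := Nat.finite_of_card_ne_zero (by omega)
  refine eq_of_le_of_card_ge ((closure_le _).2 ?_) ?_
  · rintro x (rfl | rfl)
    exacts [ha, hb]
  · rw [hV.card_four, (isKleinFour_closure (orderOf_eq_two_iff.2 ⟨Invol.klein_mul_self hV ha, ha1⟩)
      (orderOf_eq_two_iff.2 ⟨Invol.klein_mul_self hV hb, hb1⟩) hne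
      (Invol.klein_comm hV ha hb)).card_four]

theorem six_mul_card_klein [Finite G] : 6 * Nat.card {V : Subgroup G // IsKleinFour V} =
    Nat.card {ab : G × G //
      orderOf ab.1 = 2 ∧ orderOf ab.2 = 2 ∧ ab.1 ≠ ab.2 ∧ ab.1 * ab.2 = ab.2 * ab.1} := by
  classical
  have := Fintype.ofFinite G
  have := Fintype.ofFinite (Subgroup G)
  rw [Nat.subtype_card (Finset.univ.filter fun V : Subgroup G => IsKleinFour V) (by simp),
    Nat.subtype_card (Finset.univ.filter fun ab : G × G =>
      orderOf ab.1 = 2 ∧ orderOf ab.2 = 2 ∧ ab.1 ≠ ab.2 ∧ ab.1 * ab.2 = ab.2 * ab.1) (by simp),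
    Finset.card_eq_sum_card_fiberwise (f := fun ab : G × G => closure ({ab.1, ab.2} : Set G))
      (t := Finset.univ.filter fun V : Subgroup G => IsKleinFour V), mul_comm, ← smul_eq_mul,
    ← Finset.sum_const]
  · refine Finset.sum_congr rfl fun V hV => ?_
    have hV : IsKleinFour V := by simpa using hV
    have h3 : (Finset.univ.filter fun x : G => x ∈ V ∧ x ≠ 1).card = 3 := by
      have h4 : (Finset.univ.filter fun x : G => x ∈ V).card = 4 := by
        rw [← hV.card_four, Nat.subtype_card (Finset.univ.filter fun x : G => x ∈ V) (by simp)]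
      have : (Finset.univ.filter fun x : G => x ∈ V ∧ x ≠ 1) =
          (Finset.univ.filter fun x : G => x ∈ V).erase 1 := by
        ext x; simp [and_comm]
      rw [this, Finset.card_erase_of_mem (by simp), h4]
    have : 6 = (Finset.univ.filter fun x : G => x ∈ V ∧ x ≠ 1).offDiag.card := by
      rw [Finset.offDiag_card, h3]
    rw [this]
    congr 1
    ext ⟨a, b⟩
    simp only [Finset.mem_offDiag, Finset.mem_filter, Finset.mem_univ, true_and]
    constructor
    · rintro ⟨⟨ha, ha1⟩, ⟨hb, hb1⟩, hne⟩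
      exact ⟨⟨orderOf_eq_two_iff.2 ⟨Invol.klein_mul_self hV ha, ha1⟩,
        orderOf_eq_two_iff.2 ⟨Invol.klein_mul_self hV hb, hb1⟩, hne, Invol.klein_comm hV ha hb⟩,
        closure_eq_of_isKleinFour hV ha hb ha1 hb1 hne⟩
    · rintro ⟨⟨ha, hb, hne, -⟩, rfl⟩
      exact ⟨⟨subset_closure (by simp), (orderOf_eq_two_iff.1 ha).2⟩,
        ⟨subset_closure (by simp), (orderOf_eq_two_iff.1 hb).2⟩, hne⟩
  · rintro ⟨a, b⟩ h
    simp only [Finset.coe_filter, Finset.mem_univ, true_and, Set.mem_ofPred_eq] at h ⊢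
    exact isKleinFour_closure h.1 h.2.1 h.2.2.1 h.2.2.2

theorem ncard_isConj (g : G) : {x : G | IsConj g x}.ncard = (centralizer ({g} : Set G)).index := by
  let _ : MulAction G G := MulAction.compHom G (MulAut.conj (G := G))
  have h1 : stabilizer G g = centralizer {g} := by
    ext x
    rw [mem_stabilizer_iff, mem_centralizer_singleton_iff]
    exact mul_inv_eq_iff_eq_mul
  rw [← h1, index_stabilizer]
  congr 1
  ext x
  exact isConj_iff

theorem ncard_conj_subgroup (V : Subgroup G) :
    {W : Subgroup G | ∃ g : G, W = V.map (MulAut.conj g).toMonoidHom}.ncard =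
      (normalizer (V : Set G)).index := by
  let _ : MulAction G (Subgroup G) :=
    { smul := fun g W => W.map (MulAut.conj g).toMonoidHom
      one_smul := fun W => by
        change W.map (MulAut.conj (1 : G)).toMonoidHom = W
        ext x; simp
      mul_smul := fun g h W => by
        change W.map (MulAut.conj (g * h)).toMonoidHom =
          (W.map (MulAut.conj h).toMonoidHom).map (MulAut.conj g).toMonoidHom
        rw [Subgroup.map_map, map_mul]; rfl }
  have h1 : stabilizer G V = normalizer (V : Set G) := by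
    ext x
    rw [mem_stabilizer_iff, mem_normalizer_iff_map_conj_eq]
    rfl
  rw [← h1, index_stabilizer]
  congr 1
  ext W
  exact ⟨fun ⟨g, h⟩ => ⟨g, h.symm⟩, fun ⟨g, h⟩ => ⟨g, h.symm⟩⟩

theorem map_conj_map_conj (V : Subgroup G) (g h : G) :
    (V.map (MulAut.conj h).toMonoidHom).map (MulAut.conj g).toMonoidHom =
      V.map (MulAut.conj (g * h)).toMonoidHom := by
  rw [Subgroup.map_map, map_mul]; rfl

theorem map_conj_one (V : Subgroup G) : V.map (MulAut.conj (1 : G)).toMonoidHom = V := by
  ext x; simp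

theorem map_conj_closure_pair (a b g : G) :
    (closure ({a, b} : Set G)).map (MulAut.conj g).toMonoidHom =
      closure {g * a * g⁻¹, g * b * g⁻¹} := by
  rw [MonoidHom.map_closure, Set.image_pair]; rfl

theorem isKleinFour_map_conj {V : Subgroup G} (hV : IsKleinFour V) (g : G) :
    IsKleinFour (V.map (MulAut.conj g).toMonoidHom) := by
  have e := V.equivMapOfInjective (MulAut.conj g).toMonoidHom (MulAut.conj g).injective
  exact ⟨by rw [← Nat.card_congr e.toEquiv, hV.card_four],
    by rw [← Monoid.exponent_eq_of_mulEquiv e, hV.exponent_two]⟩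

/-- The centraliser of the involution `t` is dihedral, with cyclic subgroup `T` of index two. -/
structure DihCent (t : G) (T : Subgroup G) : Prop where
  ord : orderOf t = 2
  mem : t ∈ T
  cyc : IsCyclic T
  le : T ≤ centralizer {t}
  index : T.relIndex (centralizer {t}) = 2
  sq : ∀ s ∈ centralizer {t}, s ∉ T → s * s = 1

namespace DihCent

variable {t : G} {T : Subgroup G} (D : DihCent t T)
include D

theorem card_centralizer : Nat.card (centralizer ({t} : Set G)) = 2 * Nat.card T := by
  rw [← card_mul_index (T.subgroupOf (centralizer {t})), ← relIndex, D.index,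
    Nat.card_congr (subgroupOfEquivOfLe D.le).toEquiv, mul_comm]

theorem eq_of_mem [Finite G] {b : G} (hb : orderOf b = 2) (h : b ∈ T) : b = t := by
  have := D.cyc
  exact congrArg Subtype.val (Invol.involution_unique_of_isCyclic (G := T) (s := ⟨b, h⟩)
    (t := ⟨t, D.mem⟩) (by rw [← hb, ← orderOf_coe]) (by rw [← D.ord, ← orderOf_coe]))

theorem commute_iff [Finite G] {b : G} : (orderOf b = 2 ∧ t ≠ b ∧ t * b = b * t) ↔
    b ∈ centralizer ({t} : Set G) ∧ b ∉ T := by
  rw [mem_centralizer_singleton_iff]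
  constructor
  · rintro ⟨h1, h2, h3⟩
    exact ⟨h3.symm, fun h => h2 (D.eq_of_mem h1 h).symm⟩
  · rintro ⟨h1, h2⟩
    refine ⟨orderOf_eq_two_iff.2 ⟨D.sq b (mem_centralizer_singleton_iff.2 h1) h2, ?_⟩, ?_, h1.symm⟩
    · rintro rfl; exact h2 T.one_mem
    · rintro rfl; exact h2 D.mem

theorem mul_eq_mul_inv {s u : G} (hs : s ∈ centralizer ({t} : Set G)) (hs' : s ∉ T) (hu : u ∈ T) :
    s * u⁻¹ = u * s := by
  have h1 := D.sq s hs hs'
  have h2 := D.sq (u * s) (mul_mem (D.le hu) hs) (fun h => hs' ((T.mul_mem_cancel_left hu).1 h))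
  calc s * u⁻¹ = (u * s)⁻¹ := by rw [_root_.mul_inv_rev, inv_eq_of_mul_eq_one_right h1]
    _ = u * s := inv_eq_of_mul_eq_one_right h2

theorem conj_eq {s u : G} (hs : s ∈ centralizer ({t} : Set G)) (hs' : s ∉ T) (hu : u ∈ T) :
    u * s * u⁻¹ = u * u * s := by
  rw [mul_assoc, D.mul_eq_mul_inv hs hs' hu, mul_assoc]

theorem exists_notMem : ∃ s ∈ centralizer ({t} : Set G), s ∉ T := by
  by_contra h
  push Not at h
  have := D.index
  rw [relIndex_eq_one.2 h] at this
  omega

theorem mul_inv_mem {s s' : G} (hs : s ∈ centralizer ({t} : Set G)) (hs' : s ∉ T)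
    (hr : s' ∈ centralizer ({t} : Set G)) (hr' : s' ∉ T) : s' * s⁻¹ ∈ T :=
  (mul_mem_iff_of_index_two (H := T.subgroupOf (centralizer {t})) D.index (a := ⟨s', hr⟩)
    (b := ⟨s, hs⟩⁻¹)).2 (by simp [mem_subgroupOf, hs', hr'])

theorem isKleinFour [Finite G] {s : G} (hs : s ∈ centralizer ({t} : Set G)) (hs' : s ∉ T) :
    IsKleinFour (closure ({t, s} : Set G)) := by
  obtain ⟨h1, h2, h3⟩ := D.commute_iff.2 ⟨hs, hs'⟩
  exact isKleinFour_closure D.ord h1 h2 h3

theorem exists_eq_map [Finite G] (hc : ∀ x : G, orderOf x = 2 → IsConj x t) {V : Subgroup G}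
    (hV : IsKleinFour V) : ∃ s ∈ centralizer ({t} : Set G), s ∉ T ∧
      ∃ g : G, V = (closure ({t, s} : Set G)).map (MulAut.conj g).toMonoidHom := by
  obtain ⟨a, ha, b, hb, ha1, hb1, hne⟩ := Invol.klein_exists_pair hV
  obtain ⟨g, hg⟩ := isConj_iff.1 (hc a (orderOf_eq_two_iff.2 ⟨Invol.klein_mul_self hV ha, ha1⟩))
  obtain ⟨h1, h2⟩ := (D.commute_iff (b := g * b * g⁻¹)).1
    ⟨by rw [← orderOf_eq_two_iff.2 ⟨Invol.klein_mul_self hV hb, hb1⟩]
        exact (MulAut.conj g).orderOf_eq b,
      by rw [← hg]; simpa using hne,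
      by rw [← hg, conj_mul, conj_mul, Invol.klein_comm hV ha hb]⟩
  refine ⟨_, h1, h2, g⁻¹, ?_⟩
  rw [← hg, ← map_conj_closure_pair, map_conj_map_conj, inv_mul_cancel, map_conj_one,
    closure_eq_of_isKleinFour hV ha hb ha1 hb1 hne]

/-- Every Klein four-group is conjugate to one of two standard ones. -/
theorem exists_eq_map_or [Finite G] (hc : ∀ x : G, orderOf x = 2 → IsConj x t) {s u : G}
    (hs : s ∈ centralizer ({t} : Set G)) (hs' : s ∉ T) (hu : zpowers u = T) {V : Subgroup G}
    (hV : IsKleinFour V) :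
    (∃ g : G, V = (closure ({t, s} : Set G)).map (MulAut.conj g).toMonoidHom) ∨
      ∃ g : G, V = (closure ({t, u * s} : Set G)).map (MulAut.conj g).toMonoidHom := by
  obtain ⟨r, hr, hr', g, rfl⟩ := D.exists_eq_map hc hV
  have huT : u ∈ T := hu ▸ mem_zpowers u
  obtain ⟨i, hi⟩ : ∃ i : ℤ, u ^ i = r * s⁻¹ := by
    have := D.mul_inv_mem hs hs' hr hr'
    rwa [← hu, mem_zpowers_iff] at this
  have ht : ∀ j : ℤ, u ^ j * t * (u ^ j)⁻¹ = t := fun j =>
    mul_inv_eq_iff_eq_mul.2 (mem_centralizer_singleton_iff.1 (D.le (T.zpow_mem huT j)))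
  rcases Int.even_or_odd' i with ⟨j, rfl | rfl⟩
  · refine Or.inl ⟨g * u ^ j, ?_⟩
    rw [← map_conj_map_conj, map_conj_closure_pair t s, ht, D.conj_eq hs hs' (T.zpow_mem huT j),
      ← zpow_add, ← two_mul, hi, inv_mul_cancel_right]
  · refine Or.inr ⟨g * u ^ j, ?_⟩
    rw [← map_conj_map_conj, map_conj_closure_pair t (u * s), ht,
      D.conj_eq (mul_mem (D.le huT) hs) (mt (T.mul_mem_cancel_left huT).1 hs') (T.zpow_mem huT j),
      ← zpow_add, ← two_mul, ← mul_assoc, ← zpow_add_one, hi, inv_mul_cancel_right]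

theorem exists_generator : ∃ u : G, zpowers u = T := by
  have := D.cyc
  exact (Subgroup.isCyclic_iff_exists_zpowers_eq_top T).1 this

theorem pow_half [Finite G] {u : G} (hu : zpowers u = T) {m : ℕ} (hm : Nat.card T = 2 * m) :
    u ^ m = t := by
  have ho : orderOf u = 2 * m := by rw [← hm, ← hu, Nat.card_zpowers]
  have hm0 : m ≠ 0 := by
    rintro rfl
    exact (Nat.card_pos (α := T)).ne' hm
  refine D.eq_of_mem ?_ (T.pow_mem (hu ▸ mem_zpowers u) m)
  rw [orderOf_pow' _ hm0, ho, Nat.gcd_mul_left_left, Nat.mul_div_cancel _ (Nat.pos_of_ne_zero hm0)]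

/-- If `|T| ≡ 2 (mod 4)` all Klein four-groups are conjugate. -/
theorem conj_of_odd [Finite G] (hc : ∀ x : G, orderOf x = 2 → IsConj x t)
    (h4 : Nat.card T % 4 = 2) {V W : Subgroup G} (hV : IsKleinFour V) (hW : IsKleinFour W) :
    ∃ g : G, W = V.map (MulAut.conj g).toMonoidHom := by
  obtain ⟨s, hs, hs'⟩ := D.exists_notMem
  obtain ⟨u, hu⟩ := D.exists_generator
  have huT : u ∈ T := hu ▸ mem_zpowers u
  obtain ⟨k, hk⟩ : ∃ k, Nat.card T = 2 * (2 * k + 1) := ⟨Nat.card T / 4, by omega⟩
  have ht := D.pow_half hu hk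
  have key : closure ({t, u * s} : Set G) =
      (closure ({t, s} : Set G)).map (MulAut.conj (u ^ (k + 1))).toMonoidHom := by
    rw [map_conj_closure_pair, D.conj_eq hs hs' (T.pow_mem huT _),
      mul_inv_eq_iff_eq_mul.2 (mem_centralizer_singleton_iff.1 (D.le (T.pow_mem huT (k + 1)))),
      show u ^ (k + 1) * u ^ (k + 1) * s = t * (u * s) by rw [← ht]; group]
    have hA : t ∈ closure ({t, u * s} : Set G) := subset_closure (by simp)
    have hB : u * s ∈ closure ({t, u * s} : Set G) := subset_closure (by simp)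
    have h1 := D.commute_iff.2 ⟨mul_mem (D.le huT) hs, mt (T.mul_mem_cancel_left huT).1 hs'⟩
    refine (closure_eq_of_isKleinFour (isKleinFour_closure D.ord h1.1 h1.2.1 h1.2.2) hA
      (mul_mem hA hB) (orderOf_eq_two_iff.1 D.ord).2 (fun h => h1.2.1 ?_) ?_).symm
    · rw [eq_inv_of_mul_eq_one_left h, inv_eq_of_mul_eq_one_right (orderOf_eq_two_iff.1 h1.1).1]
    · simpa using (orderOf_eq_two_iff.1 h1.1).2
  have all : ∀ V : Subgroup G, IsKleinFour V →
      ∃ g : G, V = (closure ({t, s} : Set G)).map (MulAut.conj g).toMonoidHom := fun V hV => by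
    rcases D.exists_eq_map_or hc hs hs' hu hV with h | ⟨g, rfl⟩
    · exact h
    · exact ⟨_, by rw [key, map_conj_map_conj]⟩
  obtain ⟨g, rfl⟩ := all V hV
  obtain ⟨h, rfl⟩ := all W hW
  exact ⟨h * g⁻¹, by rw [map_conj_map_conj, inv_mul_cancel_right]⟩

/-- If `4` divides `|T|`, the normaliser of a four-group through `t` does not have order `12`. -/
theorem card_normalizer_ne [Finite G] (h4 : 4 ∣ Nat.card T) {s : G}
    (hs : s ∈ centralizer ({t} : Set G)) (hs' : s ∉ T) :
    Nat.card (normalizer ((closure ({t, s} : Set G) : Subgroup G) : Set G)) ≠ 12 := by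
  intro h12
  obtain ⟨u, hu⟩ := D.exists_generator
  have huT : u ∈ T := hu ▸ mem_zpowers u
  obtain ⟨k, hk⟩ := h4
  have ht := D.pow_half hu (m := 2 * k) (by omega)
  have hV := D.isKleinFour hs hs'
  have hA : t ∈ closure ({t, s} : Set G) := subset_closure (by simp)
  have hB : s ∈ closure ({t, s} : Set G) := subset_closure (by simp)
  have hw : u ^ k ∈ normalizer ((closure ({t, s} : Set G) : Subgroup G) : Set G) := by
    have h1 := D.commute_iff.2 ⟨hs, hs'⟩
    rw [mem_normalizer_iff_map_conj_eq]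
    change Subgroup.map (MulAut.conj (u ^ k)).toMonoidHom _ = _
    rw [map_conj_closure_pair, D.conj_eq hs hs' (T.pow_mem huT _),
      mul_inv_eq_iff_eq_mul.2 (mem_centralizer_singleton_iff.1 (D.le (T.pow_mem huT k))),
      ← pow_add, ← two_mul, ht]
    refine closure_eq_of_isKleinFour hV hA (mul_mem hA hB) (orderOf_eq_two_iff.1 D.ord).2
      (fun h => h1.2.1 ?_) ?_
    · rw [eq_inv_of_mul_eq_one_left h, inv_eq_of_mul_eq_one_right (orderOf_eq_two_iff.1 h1.1).1]
    · simpa using (orderOf_eq_two_iff.1 h1.1).2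
  have hi : ((closure ({t, s} : Set G)).subgroupOf
      (normalizer ((closure ({t, s} : Set G) : Subgroup G) : Set G))).index = 3 := by
    have := ((closure ({t, s} : Set G)).subgroupOf
      (normalizer ((closure ({t, s} : Set G) : Subgroup G) : Set G))).card_mul_index
    rw [h12, Nat.card_congr (subgroupOfEquivOfLe le_normalizer).toEquiv, hV.card_four] at this
    omega
  have h3 := ((closure ({t, s} : Set G)).subgroupOf
      (normalizer ((closure ({t, s} : Set G) : Subgroup G) : Set G))).pow_index_mem ⟨_, hw⟩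
  rw [hi, mem_subgroupOf] at h3
  have h6 : (u ^ k) ^ 3 * (u ^ k) ^ 3 = 1 := Invol.klein_mul_self hV h3
  have h7 : (u ^ k) ^ 3 * (u ^ k) ^ 3 = t * t * t := by rw [← ht]; group
  rw [h7, (orderOf_eq_two_iff.1 D.ord).1, one_mul] at h6
  exact (orderOf_eq_two_iff.1 D.ord).2 h6

end DihCent

theorem twelve_mul_card_klein [Finite G] {n : ℕ} {t : G} (ht : orderOf t = 2)
    (hc : ∀ x : G, orderOf x = 2 → IsConj x t)
    (h : ∀ x : G, orderOf x = 2 → ∃ T : Subgroup G, DihCent x T ∧ Nat.card T = n) :
    12 * Nat.card {V : Subgroup G // IsKleinFour V} = Nat.card G := by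
  classical
  have := Fintype.ofFinite G
  have h1 : Nat.card {ab : G × G //
      orderOf ab.1 = 2 ∧ orderOf ab.2 = 2 ∧ ab.1 ≠ ab.2 ∧ ab.1 * ab.2 = ab.2 * ab.1} =
      (centralizer ({t} : Set G)).index * n := by
    rw [← ncard_isConj, Nat.subtype_card (Finset.univ.filter fun ab : G × G =>
      orderOf ab.1 = 2 ∧ orderOf ab.2 = 2 ∧ ab.1 ≠ ab.2 ∧ ab.1 * ab.2 = ab.2 * ab.1) (by simp),
      Finset.card_eq_sum_card_fiberwise (f := Prod.fst)
        (t := Finset.univ.filter fun x : G => orderOf x = 2), ← smul_eq_mul,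
      show {x : G | IsConj t x} = (Finset.univ.filter fun x : G => orderOf x = 2) from ?_,
      Set.ncard_coe_finset, ← Finset.sum_const]
    · refine Finset.sum_congr rfl fun a ha => ?_
      obtain ⟨T, D, rfl⟩ := h a (by simpa using ha)
      have h2 : (Finset.univ.filter fun b : G => b ∈ centralizer ({a} : Set G) ∧ b ∉ T).card =
          Nat.card T := by
        have h3 := D.card_centralizer
        rw [Nat.subtype_card (Finset.univ.filter fun x : G => x ∈ centralizer ({a} : Set G))
          (by simp)] at h3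
        have h4 := Finset.card_filter_add_card_filter_not
          (s := Finset.univ.filter fun x : G => x ∈ centralizer ({a} : Set G)) (fun x => x ∈ T)
        rw [Finset.filter_filter, Finset.filter_filter, h3,
          ← Nat.subtype_card (p := fun x => x ∈ T) _ (by simpa using fun x hx => D.le hx)] at h4
        change Nat.card T + _ = _ at h4
        omega
      rw [← h2]
      refine Finset.card_bij (fun ab _ => ab.2) ?_ ?_ ?_
      · rintro ⟨a', b⟩ hab
        simp only [Finset.mem_filter, Finset.mem_univ, true_and] at hab ⊢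
        obtain ⟨hab, rfl⟩ := hab
        exact D.commute_iff.1 hab.2
      · rintro ⟨a', b⟩ hab ⟨a'', b'⟩ hab' (rfl : b = b')
        simp only [Finset.mem_filter] at hab hab'
        rw [show a' = a from hab.2, show a'' = a from hab'.2]
      · intro b hb
        simp only [Finset.mem_filter, Finset.mem_univ, true_and] at hb
        exact ⟨(a, b), by simpa using ⟨D.ord, D.commute_iff.2 hb⟩, rfl⟩
    · ext x
      simp only [Finset.coe_filter, Finset.mem_univ, true_and, Set.mem_ofPred_eq]
      refine ⟨fun hx => ?_, fun hx => (hc x hx).symm⟩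
      obtain ⟨g, rfl⟩ := isConj_iff.1 hx
      rw [← ht]
      exact (MulAut.conj g).orderOf_eq t
    · rintro ⟨a, b⟩ hab
      simp only [Finset.coe_filter, Finset.mem_univ, true_and, Set.mem_ofPred_eq] at hab ⊢
      exact hab.1
  obtain ⟨T, D, rfl⟩ := h t ht
  rw [← (centralizer ({t} : Set G)).card_mul_index, D.card_centralizer,
    show 12 * Nat.card {V : Subgroup G // IsKleinFour V} =
      2 * (6 * Nat.card {V : Subgroup G // IsKleinFour V}) by ring, six_mul_card_klein, h1]
  ring

/-- If `4` divides `|T|` there are exactly two classes of Klein four-groups. -/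
theorem exists_two_classes [Finite G] {n : ℕ} (h4 : 4 ∣ n) {t : G} (ht : orderOf t = 2)
    (hc : ∀ x : G, orderOf x = 2 → IsConj x t)
    (h : ∀ x : G, orderOf x = 2 → ∃ T : Subgroup G, DihCent x T ∧ Nat.card T = n) :
    ∃ V₁ V₂ : Subgroup G, IsKleinFour V₁ ∧ IsKleinFour V₂ ∧
      (¬ ∃ g : G, V₂ = V₁.map (MulAut.conj g).toMonoidHom) ∧
      ∀ W : Subgroup G, IsKleinFour W → (∃ g : G, W = V₁.map (MulAut.conj g).toMonoidHom) ∨
        (∃ g : G, W = V₂.map (MulAut.conj g).toMonoidHom) := by
  have h12 := twelve_mul_card_klein ht hc h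
  obtain ⟨T, D, rfl⟩ := h t ht
  obtain ⟨s, hs, hs'⟩ := D.exists_notMem
  obtain ⟨u, hu⟩ := D.exists_generator
  have huT : u ∈ T := hu ▸ mem_zpowers u
  refine ⟨closure {t, s}, closure {t, u * s}, D.isKleinFour hs hs',
    D.isKleinFour (mul_mem (D.le huT) hs) (mt (T.mul_mem_cancel_left huT).1 hs'), ?_,
    fun W hW => D.exists_eq_map_or hc hs hs' hu hW⟩
  rintro ⟨g, hg⟩
  refine D.card_normalizer_ne h4 hs hs' ?_
  have h1 : Nat.card {V : Subgroup G // IsKleinFour V} =
      (normalizer ((closure ({t, s} : Set G) : Subgroup G) : Set G)).index := by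
    rw [← ncard_conj_subgroup, ← Nat.card_coe_set_eq]
    refine Nat.card_congr (Equiv.subtypeEquivRight fun W => ⟨fun hW => ?_, ?_⟩)
    · rcases D.exists_eq_map_or hc hs hs' hu hW with h | ⟨g', rfl⟩
      · exact h
      · exact ⟨_, by rw [hg, map_conj_map_conj]⟩
    · rintro ⟨g', rfl⟩
      exact isKleinFour_map_conj (D.isKleinFour hs hs') g'
  rw [h1, ← (normalizer ((closure ({t, s} : Set G) : Subgroup G) : Set G)).card_mul_index] at h12
  exact (Nat.eq_of_mul_eq_mul_right (Nat.pos_of_ne_zero index_ne_zero_of_finite) h12).symm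

end CL.PSL2
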