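import Cfsg.Agent.Base
import Cfsg.Agent.PSL2.Torus
import Cfsg.Agent.PSL2.Klein

/-!
Involutions of `PSL₂(q)`, `q` odd: one class, dihedral centralisers; subgroups of order four of
`SL₂(q)`.
-/

set_option autoImplicit false

namespace CL.PSL2

open MulAction Subgroup Matrix
open scoped MatrixGroups

theorem Moebius.dihCent {p : ℕ} {K : Type*} [Field K] {H X : Type*} [Group H] [MulAction H X]
    [Finite H] (M : Moebius p K H X) {x y : X} (hxy : x ≠ y) {t : H} (ht : orderOf t = 2)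
    (hx : t • x = x) (hy : t • y = y) {s : H} (h1 : s • x = y) (h2 : s • y = x) :
    DihCent t (stabilizer H x ⊓ stabilizer H y) where
  ord := ht
  mem := ⟨hx, hy⟩
  cyc := M.isCyclic_stabilizer_inf hxy
  le := by rw [M.centralizer_eq_pairStab hxy ht hx hy]; exact Moebius.inf_le_pairStab x y
  index := by rw [M.centralizer_eq_pairStab hxy ht hx hy]; exact Moebius.relIndex_pairStab hxy h1 h2
  sq := by
    rw [M.centralizer_eq_pairStab hxy ht hx hy]
    exact fun s hs hs' => M.mul_self_eq_one_of_mem_pairStab hxy hs hs'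

theorem DihCent.two_dvd_card {G : Type*} [Group G] {t : G} {T : Subgroup G} (D : DihCent t T) :
    2 ∣ Nat.card T := D.ord ▸ T.orderOf_dvd_natCard D.mem

variable {F : Type*} [Field F] [Fintype F]

theorem char_ne_two_of_odd (p : ℕ) [CharP F p] (hodd : Odd (Fintype.card F)) : p ≠ 2 := by
  rintro rfl
  exact two_ne_zero_of_odd_card hodd (by exact_mod_cast CharP.cast_eq_zero F 2)

theorem exists_fixed_pair (p : ℕ) [Fact p.Prime] [CharP F p] (hodd : Odd (Fintype.card F))
    {t : PSL(2, F)} (ht : orderOf t = 2) : ∃ x y : Pbar F, x ≠ y ∧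
      DihCent t (stabilizer PSL(2, F) x ⊓ stabilizer PSL(2, F) y) ∧
      ((Fintype.card F % 4 = 1 ∧ (moebius_PSLbar (F := F) p).uSub x ≠ ⊥ ∧
          (moebius_PSLbar (F := F) p).uSub y ≠ ⊥ ∧
          Nat.card (stabilizer PSL(2, F) x ⊓ stabilizer PSL(2, F) y : Subgroup _) =
            (Fintype.card F - 1) / 2) ∨
        (Fintype.card F % 4 = 3 ∧ (moebius_PSLbar (F := F) p).uSub x = ⊥ ∧
          stabilizer PSL(2, F) x ⊓ stabilizer PSL(2, F) y = stabilizer PSL(2, F) x ∧
          Nat.card (stabilizer PSL(2, F) x ⊓ stabilizer PSL(2, F) y : Subgroup _) =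
            (Fintype.card F + 1) / 2)) := by
  set M := moebius_PSLbar (F := F) p
  have hp := char_ne_two_of_odd p hodd
  have ht1 : t ≠ 1 := (orderOf_eq_two_iff.1 ht).2
  have htp : t ^ p ≠ 1 := fun h => by
    have := orderOf_dvd_of_pow_eq_one h
    rw [ht] at this
    exact hp ((Nat.prime_dvd_prime_iff_eq Nat.prime_two Fact.out).1 this).symm
  have hx0 := uSub_rat_inf_ne_bot (F := F) p
  have hs0 := stabilizer_PSL_ne_top p hx0
  have hq := Nat.odd_iff.1 hodd
  obtain ⟨x, hx⟩ := M.fix t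
  by_cases hux : M.uSub x = ⊥
  · have hx1 : stabilizer PSL(2, F) x ≠ ⊥ :=
      ne_bot_iff_exists_ne_one.2 ⟨⟨t, hx⟩, fun h => ht1 (congrArg Subtype.val h)⟩
    obtain ⟨y, hxy, -, h2, s, h3, h4⟩ := M.exists_opposite hx0 hs0 hx1 hux
    have hy : t • y = y := by
      have : t ∈ stabilizer PSL(2, F) x ⊓ stabilizer PSL(2, F) y := h2.symm ▸ hx
      exact this.2
    have D := M.dihCent hxy ht hx hy h3 h4
    have hc : Nat.card (stabilizer PSL(2, F) x ⊓ stabilizer PSL(2, F) y : Subgroup _) =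
        (Fintype.card F + 1) / 2 := by rw [h2, card_nonsplit p hx1 hux, gcd_two_of_odd hodd]
    have := D.two_dvd_card
    exact ⟨x, y, hxy, D, Or.inr ⟨by omega, hux, h2, hc⟩⟩
  · obtain ⟨y, hyx, hy⟩ := M.semi t x htp hx
    have huy : M.uSub y ≠ ⊥ := fun h => ht1 (M.eq_one_of_nonsplit hx0 hs0 h hux hy hx)
    obtain ⟨s, h3, h4⟩ := M.exists_smul_pair (index_stabilizer_PSL' p) hux huy huy hux
      hyx.symm hyx
    have D := M.dihCent hyx.symm ht hx hy h3 h4
    have hc : Nat.card (stabilizer PSL(2, F) x ⊓ stabilizer PSL(2, F) y : Subgroup _) =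
        (Fintype.card F - 1) / 2 := by rw [card_split p hux huy hyx.symm, gcd_two_of_odd hodd]
    have := D.two_dvd_card
    exact ⟨x, y, hyx.symm, D, Or.inl ⟨by omega, hux, huy, hc⟩⟩

/-- For `q` odd the centraliser of an involution of `PSL₂(q)` is dihedral of order `q ∓ 1`. -/
theorem exists_dihCent (hodd : Odd (Fintype.card F)) (t : PSL(2, F)) (ht : orderOf t = 2) :
    ∃ T : Subgroup PSL(2, F), DihCent t T ∧ Nat.card T =
      if Fintype.card F % 4 = 1 then (Fintype.card F - 1) / 2 else (Fintype.card F + 1) / 2 := by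
  obtain ⟨p, hp⟩ := CharP.exists F
  have := Fact.mk (CharP.char_is_prime F p)
  obtain ⟨x, y, -, D, ⟨h1, -, -, h2⟩ | ⟨h1, -, -, h2⟩⟩ := exists_fixed_pair p hodd ht
  · exact ⟨_, D, by rw [h2, if_pos h1]⟩
  · exact ⟨_, D, by rw [h2, if_neg (by omega)]⟩

/-- For `q` odd all involutions of `PSL₂(q)` are conjugate. -/
theorem isConj_of_orderOf_eq_two (hodd : Odd (Fintype.card F)) {s t : PSL(2, F)}
    (hs : orderOf s = 2) (ht : orderOf t = 2) : IsConj s t := by
  obtain ⟨p, hp⟩ := CharP.exists F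
  have := Fact.mk (CharP.char_is_prime F p)
  set M := moebius_PSLbar (F := F) p
  have hconj : ∀ (g : PSL(2, F)) (x : Pbar F), s • x = x → (g * s * g⁻¹) • g • x = g • x :=
    fun g x hx => by rw [mul_smul, inv_smul_smul, mul_smul, hx]
  obtain ⟨x, y, hxy, D, ⟨h1, hx, hy, -⟩ | ⟨h1, hx, -, -⟩⟩ := exists_fixed_pair p hodd hs <;>
  obtain ⟨x', y', hxy', D', ⟨h1', hx', hy', -⟩ | ⟨h1', hx', hy', -⟩⟩ := exists_fixed_pair p hodd ht
  · obtain ⟨g, rfl, rfl⟩ := M.exists_smul_pair (index_stabilizer_PSL' p) hx hy hx' hy' hxy hxy'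
    exact isConj_iff.2 ⟨g, D'.eq_of_mem (((MulAut.conj g).orderOf_eq s).trans hs)
      ⟨hconj g x D.mem.1, hconj g y D.mem.2⟩⟩
  · omega
  · omega
  · have hx0 := uSub_rat_inf_ne_bot (F := F) p
    obtain ⟨z, -, -, horb, -⟩ := M.exists_nonsplit hx0 (stabilizer_PSL_ne_top p hx0)
    have h2 := horb x (ne_bot_iff_exists_ne_one.2 ⟨⟨s, D.mem.1⟩,
      fun h => (orderOf_eq_two_iff.1 hs).2 (congrArg Subtype.val h)⟩) hx
    have h3 := horb x' (ne_bot_iff_exists_ne_one.2 ⟨⟨t, D'.mem.1⟩,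
      fun h => (orderOf_eq_two_iff.1 ht).2 (congrArg Subtype.val h)⟩) hx'
    obtain ⟨g, hg⟩ : x' ∈ orbit PSL(2, F) x := by rw [orbit_eq_iff.2 h2]; exact h3
    obtain rfl : g • x = x' := hg
    refine isConj_iff.2 ⟨g, D'.eq_of_mem (((MulAut.conj g).orderOf_eq s).trans hs) ?_⟩
    rw [hy']
    exact hconj g x D.mem.1

theorem exists_orderOf_eq_two (hodd : Odd (Fintype.card F)) : ∃ t : PSL(2, F), orderOf t = 2 := by
  have h := card_PSL_of_odd hodd
  refine exists_prime_orderOf_dvd_card' 2 (hp := ⟨Nat.prime_two⟩) ?_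
  obtain ⟨k, hk⟩ := hodd
  rw [hk, sq_sub_one_eq, Nat.add_sub_cancel] at h
  exact ⟨(2 * k + 1) * (k + 1) * k, by linarith⟩

omit [Fintype F] in
theorem SL_eq_neg_one_of_mul_self (h2 : (2 : F) ≠ 0) {g : SL(2, F)} (h : g * g = 1) (h1 : g ≠ 1) :
    g = -1 := by
  by_contra hne
  have h3 : (g : PSL(2, F)) ≠ 1 := by rw [Ne, PSL_mk_eq_one_iff]; tauto
  have h4 := (PSL_pow_eq_one_iff g h3 2).1 (by rw [← QuotientGroup.mk_pow, sq, h]; rfl)
  have h5 := SL_mul_self g
  rw [cheb_two] at h4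
  rw [h4, zero_smul, zero_sub, ← Matrix.SpecialLinearGroup.coe_mul, h] at h5
  have := congrFun (congrFun h5 0) 0
  simp at this
  exact h2 (by linear_combination this)

theorem exists_eq_comap_of_card_four (hodd : Odd (Fintype.card F)) {A : Subgroup SL(2, F)}
    (hA : Nat.card A = 4) : ∃ t : PSL(2, F), orderOf t = 2 ∧
      A = (zpowers t).comap (QuotientGroup.mk' (center SL(2, F))) := by
  have h2 := two_ne_zero_of_odd_card hodd
  obtain ⟨z, hz⟩ := exists_prime_orderOf_dvd_card' (G := A) 2 (hp := ⟨Nat.prime_two⟩)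
    (by rw [hA]; norm_num)
  rw [← orderOf_coe, orderOf_eq_two_iff] at hz
  have hker : (QuotientGroup.mk' (center SL(2, F))).ker ≤ A := by
    rw [QuotientGroup.ker_mk']
    intro g hg
    rcases (mem_center_SL_iff g).1 hg with rfl | rfl
    · exact A.one_mem
    · exact SL_eq_neg_one_of_mul_self h2 hz.1 hz.2 ▸ z.2
  have hc : Nat.card (A.map (QuotientGroup.mk' (center SL(2, F)))) = 2 := by
    have h3 := (A.map (QuotientGroup.mk' (center SL(2, F)))).card_mul_index
    have h4 := A.card_mul_index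
    rw [index_map_eq _ (QuotientGroup.mk'_surjective _) hker] at h3
    rw [hA, card_SL, ← card_PSL_of_odd hodd, ← h3] at h4
    exact Nat.eq_of_mul_eq_mul_right (Nat.pos_of_ne_zero (index_ne_zero_of_finite (H := A)))
      (by linarith)
  obtain ⟨t, ht⟩ := exists_prime_orderOf_dvd_card' (G := A.map (QuotientGroup.mk' _)) 2
    (hp := ⟨Nat.prime_two⟩) (by rw [hc])
  rw [← orderOf_coe] at ht
  refine ⟨t, ht, ?_⟩
  rw [eq_of_le_of_card_ge (zpowers_le.2 t.2) (by rw [hc, Nat.card_zpowers, ht]),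
    comap_map_eq_self hker]

theorem normalizer_zpowers_of_orderOf_eq_two {G : Type*} [Group G] [Finite G] {t : G}
    (ht : orderOf t = 2) : normalizer (zpowers t : Set G) = centralizer {t} := by
  ext g
  rw [mem_normalizer_iff_map_conj_eq, mem_centralizer_singleton_iff, ← mul_inv_eq_iff_eq_mul,
    MonoidHom.map_zpowers]
  change zpowers (g * t * g⁻¹) = zpowers t ↔ _
  refine ⟨fun h => ?_, fun h => by rw [h]⟩
  exact congrArg Subtype.val (Invol.involution_unique_of_isCyclic (G := zpowers t)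
    (s := ⟨g * t * g⁻¹, h ▸ mem_zpowers _⟩) (t := ⟨t, mem_zpowers t⟩)
    (by rw [← orderOf_coe]; exact ((MulAut.conj g).orderOf_eq t).trans ht)
    (by rw [← orderOf_coe]; exact ht))

theorem conj_of_card_four (hodd : Odd (Fintype.card F)) {A B : Subgroup SL(2, F)}
    (hA : Nat.card A = 4) (hB : Nat.card B = 4) :
    ∃ g : SL(2, F), B = A.map (MulAut.conj g).toMonoidHom := by
  obtain ⟨s, hs, rfl⟩ := exists_eq_comap_of_card_four hodd hA
  obtain ⟨t, ht, rfl⟩ := exists_eq_comap_of_card_four hodd hB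
  obtain ⟨g, rfl⟩ := isConj_iff.1 (isConj_of_orderOf_eq_two hodd hs ht)
  obtain ⟨g, rfl⟩ := QuotientGroup.mk'_surjective _ g
  refine ⟨g, ?_⟩
  ext x
  have : zpowers (QuotientGroup.mk' (center SL(2, F)) g * s * (QuotientGroup.mk' _ g)⁻¹) =
      (zpowers s).map (MulAut.conj (QuotientGroup.mk' _ g)).toMonoidHom := by
    rw [MonoidHom.map_zpowers]; rfl
  rw [this, mem_comap, mem_map_equiv, mem_map_equiv, mem_comap]
  simp

theorem card_normalizer_of_card_four (hodd : Odd (Fintype.card F)) {A : Subgroup SL(2, F)}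
    (hA : Nat.card A = 4) : Nat.card (normalizer (A : Set SL(2, F))) =
      if Fintype.card F % 4 = 1 then 2 * (Fintype.card F - 1) else 2 * (Fintype.card F + 1) := by
  obtain ⟨t, ht, rfl⟩ := exists_eq_comap_of_card_four hodd hA
  obtain ⟨T, D, hT⟩ := exists_dihCent hodd t ht
  rw [← comap_normalizer_eq_of_surjective _ (QuotientGroup.mk'_surjective _),
    normalizer_zpowers_of_orderOf_eq_two ht]
  have h1 := ((centralizer {t}).comap (QuotientGroup.mk' (center SL(2, F)))).card_mul_index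
  have h2 := (centralizer {t}).card_mul_index
  rw [index_comap_of_surjective _ (QuotientGroup.mk'_surjective _), card_SL,
    ← card_PSL_of_odd hodd, ← h2, D.card_centralizer] at h1
  have h3 := Nat.eq_of_mul_eq_mul_right
    (Nat.pos_of_ne_zero (index_ne_zero_of_finite (H := centralizer {t})))
    (h1.trans (mul_assoc _ _ _).symm)
  have := Nat.odd_iff.1 hodd
  rw [h3, hT]
  split_ifs <;> omega

end CL.PSL2
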