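import Cfsg.Agent.Base
import Cfsg.Agent.PSL2.Maximal
import Cfsg.Agent.PSL2.SL2Sub
import Cfsg.Agent.PSL2.Invol

/-!
Dickson's lemma: the subgroup of `SL₂(q)`, `q` odd, generated by two opposite transvections.
-/

set_option autoImplicit false

namespace CL.PSL2

open MulAction Subgroup Matrix
open scoped MatrixGroups

variable {F : Type*} [Field F]

theorem mem_range_toPGL_of_odd {g : PGL(2, F)} {n : ℕ} (hn : Odd n) (hg : g ^ n = 1) :
    g ∈ (ProjectiveSpecialLinearGroup.toPGL : PSL(2, F) →* _).range := by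
  obtain ⟨m, rfl⟩ := hn
  have : g = g ^ (m + 1) * g ^ (m + 1) := by
    rw [← pow_add, show m + 1 + (m + 1) = 2 * m + 1 + 1 by ring, pow_succ, hg, one_mul]
  rw [this]
  generalize g ^ (m + 1) = h
  induction h using ProjGenLinGroup.induction_on with
  | mk h =>
    rw [← map_mul]
    exact mk_mem_range_toPGL ⟨_, det_mul _ _⟩

theorem mem_range_subSL_of_odd (k : Subfield F) (γ : GL (Fin 2) F) {u : SL(2, F)} {n : ℕ}
    (hn : Odd n) (hu : u ^ n = 1) (h : Matrix.SpecialLinearGroup.toPGL u ∈
      (subPGL k).map (MulAut.conj (ProjGenLinGroup.mk γ)).toMonoidHom) :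
    u ∈ (subSL k γ).range := by
  refine mem_of_toPGL_mem hn hu ?_
  rw [map_range_subSL]
  obtain ⟨_, ⟨g, rfl⟩, hg⟩ := h
  obtain ⟨g', rfl⟩ := mem_range_toPGL_of_odd (g := g) hn (by
    apply map_injective k.subtype
    apply (MulAut.conj (ProjGenLinGroup.mk γ)).injective
    rw [map_pow, map_pow, map_one, map_one]
    exact (congrArg (· ^ n) hg).trans (by rw [← map_pow, hu, map_one]))
  exact ⟨_, ⟨g', rfl⟩, hg⟩

/-- The lower unitriangular matrix. -/
def lowT (c : F) : SL(2, F) := Matrix.SpecialLinearGroup.transvection (one_ne_zero : (1 : Fin 2) ≠ 0) c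

/-- The upper unitriangular matrix. -/
def upT (c : F) : SL(2, F) := Matrix.SpecialLinearGroup.transvection (zero_ne_one : (0 : Fin 2) ≠ 1) c

theorem coe_lowT (c : F) : (lowT c : Matrix (Fin 2) (Fin 2) F) = !![1, 0; c, 1] := by
  ext i j
  fin_cases i <;> fin_cases j <;> simp [lowT, Matrix.SpecialLinearGroup.transvection_coe]

theorem coe_upT (c : F) : (upT c : Matrix (Fin 2) (Fin 2) F) = !![1, c; 0, 1] := by
  ext i j
  fin_cases i <;> fin_cases j <;> simp [upT, Matrix.SpecialLinearGroup.transvection_coe]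

theorem upT_inv (c : F) : (upT c)⁻¹ = upT (-c) := by
  rw [inv_eq_iff_mul_eq_one]
  ext i j
  rw [Matrix.SpecialLinearGroup.coe_mul, coe_upT, coe_upT]
  fin_cases i <;> fin_cases j <;> simp

theorem trace_lowT_mul_upT (c : F) :
    ((lowT 1 * upT c : SL(2, F)) : Matrix (Fin 2) (Fin 2) F).trace = 2 + c := by
  rw [Matrix.SpecialLinearGroup.coe_mul, coe_upT, coe_lowT]
  simp [trace_fin_two]; ring

theorem lowT_mul_upT_ne_one (c : F) : ((lowT 1 * upT c : SL(2, F)) : PSL(2, F)) ≠ 1 := by
  rw [Ne, PSL_mk_eq_one_iff]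
  rintro (h | h) <;> have := congrFun (congrFun (congrArg Subtype.val h) 1) 0 <;>
    simp [coe_upT, coe_lowT] at this

theorem card_eq_two_mul_card_map [Finite F] (h2 : (2 : F) ≠ 0) {G : Subgroup SL(2, F)}
    (h : 2 ∣ Nat.card (G.map Matrix.SpecialLinearGroup.toPGL)) :
    Nat.card G = 2 * Nat.card (G.map Matrix.SpecialLinearGroup.toPGL) := by
  have := Fintype.ofFinite F
  obtain ⟨⟨_, g, hg, rfl⟩, ho⟩ := exists_prime_orderOf_dvd_card' 2 (hp := ⟨Nat.prime_two⟩) h
  rw [← orderOf_coe, orderOf_eq_two_iff, ← map_mul, toPGL_eq_one_iff, Ne, toPGL_eq_one_iff] at ho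
  have h1 : (-1 : SL(2, F)) ∈ G := by
    rcases ho.1 with h | h
    · exact absurd (Or.inr (SL_eq_neg_one_of_mul_self h2 h fun h => ho.2 (Or.inl h))) ho.2
    · exact h ▸ G.mul_mem hg hg
  have hle : center SL(2, F) ≤ G := fun z hz => by
    rcases (mem_center_SL_iff z).1 hz with rfl | rfl
    exacts [G.one_mem, h1]
  have h3 := (Matrix.SpecialLinearGroup.toPGL.comp G.subtype).ker.card_mul_index
  rw [index_ker, MonoidHom.range_comp, range_subtype, ← MonoidHom.comap_ker,
    Matrix.SpecialLinearGroup.toPGL_ker, comap_subtype,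
    Nat.card_congr (subgroupOfEquivOfLe hle).toEquiv, card_center_SL, gcd_two_of_odd
      (Nat.not_even_iff_odd.1 (mt two_eq_zero_iff_even_card.2 h2))] at h3
  exact h3.symm

theorem card_sub_one_dvd_of_closure [Fintype F] (p : ℕ) [Fact p.Prime] [CharP F p] {lam : F}
    (hgen : Subfield.closure ({lam} : Set F) = ⊤) (n : ℕ) (h : lam ^ p ^ n = lam) :
    Fintype.card F - 1 ∣ p ^ n - 1 := by
  have h1 : Subfield.closure ({lam} : Set F) ≤
      (iterateFrobenius F p n).eqLocusField (RingHom.id F) :=
    Subfield.closure_le.2 (by rintro _ rfl; exact h)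
  rw [← FiniteField.forall_pow_eq_one_iff]
  intro x
  have h2 : (x : F) ^ p ^ n = x := h1 (hgen ▸ Subfield.mem_top (x : F))
  ext
  rw [Units.val_pow_eq_pow_val, Units.val_one]
  exact pow_card_sub_one_of_pow_card (Nat.one_le_pow _ _ (Fact.out : p.Prime).pos) x.ne_zero h2

theorem closure_ne_top_of_nine [Fintype F] (h9 : Fintype.card F = 9) {lam : F}
    (hlam : lam ^ 2 = -1) : closure ({lowT 1, upT lam} : Set SL(2, F)) ≠ ⊤ := by
  intro htop
  have : CharP F 3 := charP_of_card_eq_prime_pow (p := 3) (f := 2) (hp := ⟨Nat.prime_three⟩) h9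
  have h3 : (3 : F) = 0 := by exact_mod_cast CharP.cast_eq_zero F 3
  set a : PSL(2, F) := QuotientGroup.mk (lowT 1)
  set b : PSL(2, F) := QuotientGroup.mk (upT lam)
  have ha : a ^ 3 = 1 := by rw [← QuotientGroup.mk_pow, lowT, transvection_pow_char]; rfl
  have hb : b ^ 3 = 1 := by rw [← QuotientGroup.mk_pow, upT, transvection_pow_char]; rfl
  have hab : (a * (b * a * b⁻¹)) ^ 2 = 1 := by
    refine PSL_pow_eq_one_of_cheb (lowT 1 * (upT lam * lowT 1 * (upT lam)⁻¹)) 2 ?_
    rw [cheb_two, upT_inv]
    simp only [Matrix.SpecialLinearGroup.coe_mul, coe_upT, coe_lowT]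
    simp [trace_fin_two]
    linear_combination h3 - hlam
  have ha1 : a ≠ 1 := by simpa [a, upT] using lowT_mul_upT_ne_one (0 : F)
  obtain ⟨e⟩ := nonempty_closure_conj_mulEquiv_A5 ha hb hab ha1
  set K := closure ({a, b * a * b⁻¹, b⁻¹ * a * b} : Set PSL(2, F))
  have hbb : b * b = b⁻¹ := by
    rw [eq_inv_iff_mul_eq_one, ← hb]; simp only [pow_succ, pow_zero, one_mul]
  have hn : K.Normal := by
    rw [← normalizer_eq_top_iff, eq_top_iff, ← map_top_of_surjective _
      (QuotientGroup.mk'_surjective (center SL(2, F))), ← htop, MonoidHom.map_closure, closure_le]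
    rintro _ ⟨_, rfl | rfl, rfl⟩
    · exact le_normalizer (subset_closure (Or.inl rfl))
    · refine mem_normalizer_fintype (S := (K : Set PSL(2, F))) fun x hx => ?_
      change b * x * b⁻¹ ∈ K
      induction hx using closure_induction with
      | mem z hz =>
        rcases hz with rfl | rfl | rfl
        · exact subset_closure (by simp)
        · rw [show b * (b * a * b⁻¹) * b⁻¹ = (b * b) * a * (b * b)⁻¹ by group, hbb, inv_inv]
          exact subset_closure (by simp)
        · rw [show b * (b⁻¹ * a * b) * b⁻¹ = a by group]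
          exact subset_closure (by simp)
      | one => simp
      | mul x y _ _ hx hy => rw [← conj_mul]; exact mul_mem hx hy
      | inv x _ hx => rw [← conj_inv]; exact inv_mem hx
  have := Matrix.ProjectiveSpecialLinearGroup.rank_two_simple (F := F)
    (by rw [Nat.card_eq_fintype_card, h9]; norm_num)
  have hK : Nat.card K = 60 := (Nat.card_congr e.toEquiv).trans card_A5
  have hN := card_PSL (F := F)
  rcases hn.eq_bot_or_eq_top with h | h <;> rw [h] at hK
  · simp at hK
  · rw [card_top] at hK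
    rw [hK, h9] at hN
    simp at hN

theorem closure_eq_top_or [Fintype F] (h2 : (2 : F) ≠ 0) {lam : F} (hlam : lam ≠ 0)
    (hgen : Subfield.closure ({lam} : Set F) = ⊤) :
    closure ({lowT 1, upT lam} : Set SL(2, F)) = ⊤ ∨ (Fintype.card F = 9 ∧ lam ^ 2 = -1 ∧
      Nat.card (closure ({lowT 1, upT lam} : Set SL(2, F))) = 120) := by
  obtain ⟨p, hp⟩ := CharP.exists F
  have hpp := CharP.char_is_prime F p
  have := Fact.mk hpp
  have hp2 : p ≠ 2 := by
    rintro rfl
    exact h2 (by exact_mod_cast CharP.cast_eq_zero F 2)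
  have hodd := hpp.odd_of_ne_two hp2
  set G := closure ({lowT 1, upT lam} : Set SL(2, F)) with hG
  have ha : lowT 1 ∈ G := subset_closure (by simp)
  have hb : upT lam ∈ G := subset_closure (by simp)
  have hap : lowT (1 : F) ^ p = 1 := transvection_pow_char p _ _
  have hbp : upT lam ^ p = 1 := transvection_pow_char p _ _
  have hd : p ∣ Nat.card (G.map Matrix.SpecialLinearGroup.toPGL) := by
    have h1 := orderOf_dvd_natCard _ (mem_map_of_mem Matrix.SpecialLinearGroup.toPGL ha)
    rwa [orderOf_eq_prime (p := p) (by rw [← map_pow, hap, map_one]) (by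
      rw [Ne, toPGL_eq_one_iff, ← PSL_mk_eq_one_iff]
      simpa [upT] using lowT_mul_upT_ne_one (0 : F))] at h1
  have hx : ∀ x : P1 F, ¬ G.map Matrix.SpecialLinearGroup.toPGL ≤ stabilizer PGL(2, F) x := by
    intro x h
    rcases eq_inf_or_eq_pt x with rfl | ⟨c, rfl⟩
    · have := (smul_inf_eq_inf_iff _).1 (h (mem_map_of_mem _ ha))
      simp [coe_lowT] at this
    · have := (smul_pt_eq_pt_iff _ _ _).1 (h (mem_map_of_mem _ hb))
      simp [coe_upT, hlam] at this
  rcases dickson_of_not_le p hp2 _ hd hx with ⟨k, γ, h⟩ | ⟨rfl, ⟨e⟩⟩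
  · left
    induction γ using ProjGenLinGroup.induction_on with
    | mk γ =>
    have h1 : (subSL k γ).range ≤ G := range_subSL_le p hodd k γ (by
      rcases h with h | h <;> rw [h]
      exact map_mono (subPSL_le_subPGL k))
    have h3 : G.map Matrix.SpecialLinearGroup.toPGL ≤
        (subPGL k).map (MulAut.conj (ProjGenLinGroup.mk γ)).toMonoidHom := by
      rcases h with h | h <;> rw [h]
      exact map_mono (subPSL_le_subPGL k)
    obtain ⟨g, hg⟩ := mul_mem (mem_range_subSL_of_odd k γ hodd hap (h3 (mem_map_of_mem _ ha)))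
      (mem_range_subSL_of_odd k γ hodd hbp (h3 (mem_map_of_mem _ hb)))
    have h4 := trace_subSL_mem k γ g
    rw [hg, trace_lowT_mul_upT] at h4
    have h5 : k = ⊤ := by
      rw [eq_top_iff, ← hgen, Subfield.closure_le]
      rintro _ rfl
      simpa using k.sub_mem h4 (ofNat_mem k 2)
    subst h5
    refine eq_top_of_le_card _ (le_trans (le_of_eq ?_) (card_le_of_le h1))
    let _ : Fintype (⊤ : Subfield F) := Fintype.ofFinite _
    rw [← Nat.card_congr (MonoidHom.ofInjective (subSL_injective ⊤ γ)).toEquiv, card_SL, card_SL,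
      Fintype.card_congr (Subfield.topEquiv (K := F)).toEquiv]
  · right
    have h3 : (3 : F) = 0 := by exact_mod_cast CharP.cast_eq_zero F 3
    have h60 := (Nat.card_congr e.toEquiv).trans card_A5
    have hq := (G.map Matrix.SpecialLinearGroup.toPGL).card_subgroup_dvd_card
    rw [h60, card_PGL] at hq
    have hq1 : 1 < Fintype.card F := Fintype.one_lt_card
    have hA5 : ∀ g : alternatingGroup (Fin 5), g ^ 2 = 1 ∨ g ^ 3 = 1 ∨ g ^ 5 = 1 := by
      decide +kernel
    have key : ∀ c : F, c ≠ 0 → c ^ 2 = lam ^ 2 → upT c ∈ G → c ^ 2 = -1 ∨ c ^ 2 - c - 1 = 0 := by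
      intro c hc hcl hcG
      have hne : c ^ 2 ≠ 1 := fun h => by
        have := card_sub_one_dvd_of_closure 3 hgen 1 (by linear_combination lam * (h - hcl))
        have := Nat.le_of_dvd (by norm_num) this
        have : Fintype.card F ≤ 3 := by omega
        generalize Fintype.card F = q at *
        interval_cases q <;> simp at hq
      have h4 : ∀ n, e ⟨_, mem_map_of_mem _ (mul_mem ha hcG)⟩ ^ n = 1 →
          (chebPair (2 + c) n).1 = 0 := fun n hn => by
        rw [← trace_lowT_mul_upT, ← PSL_pow_eq_one_iff _ (lowT_mul_upT_ne_one c),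
          PSL_pow_eq_one_iff_toPGL]
        rw [← map_pow, MulEquiv.map_eq_one_iff] at hn
        exact congrArg Subtype.val hn
      rcases hA5 (e ⟨_, mem_map_of_mem _ (mul_mem ha hcG)⟩) with h | h | h <;> have := h4 _ h
      · rw [cheb_two] at this
        exact absurd (by linear_combination (c - 2) * this + h3) hne
      · rw [cheb_three] at this
        have h5 : c * (c + 1) = 0 := by linear_combination this - (c + 1) * h3
        rcases mul_eq_zero.1 h5 with h5 | h5
        · exact absurd h5 hc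
        · exact absurd (by linear_combination (c - 1) * h5) hne
      · rw [cheb_five] at this
        rcases mul_eq_zero.1 this with h5 | h5
        · left; linear_combination h5 - c * h3
        · right; linear_combination h5 - (2 * c + 2) * h3
    have hl : lam ^ 2 = -1 := by
      rcases key lam hlam rfl hb with h | h
      · exact h
      rcases key (-lam) (neg_ne_zero.2 hlam) (by ring) (upT_inv lam ▸ inv_mem hb) with h' | h'
      · linear_combination h'
      · exact absurd (mul_left_cancel₀ h2 (by linear_combination h' - h)) hlam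
    refine ⟨?_, hl, by rw [card_eq_two_mul_card_map h2 (by rw [h60]; norm_num), h60]⟩
    have := card_sub_one_dvd_of_closure 3 hgen 2 (by
      rw [show 3 ^ 2 = 2 * 4 + 1 by norm_num, pow_succ, pow_mul, hl]; ring)
    have h9 := Nat.le_of_dvd (by norm_num) this
    have h10 := Nat.odd_iff.1 (Nat.not_even_iff_odd.1 (mt two_eq_zero_iff_even_card.2 h2))
    have h11 : 3 ∣ Fintype.card F := by
      obtain ⟨n, -, hn⟩ := FiniteField.card F 3
      exact hn ▸ dvd_pow_self 3 n.ne_zero
    generalize Fintype.card F = q at *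
    have : q ≤ 9 := by omega
    interval_cases q <;> simp at hq h10 h11 ⊢

end CL.PSL2
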